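import Mathlib

set_option autoImplicit false

namespace Cfsg.Agent.Lib.Helper80

open scoped BigOperators

/-- Fixed point lemma for sums in characteristic `p`: a `p`-group acts on a finite set and the
summand is invariant; then only the fixed points contribute. -/
theorem sum_eq_sum_fixed {p : ℕ} [Fact p.Prime] {S Y k : Type*} [Group S]
    (hS : IsPGroup p S) [CommRing k] [CharP k p] (act : S → Y → Y) (h1 : ∀ y, act 1 y = y)
    (hmul : ∀ a b y, act (a * b) y = act a (act b y)) (s : Finset Y)
    (hs : ∀ a, ∀ y ∈ s, act a y ∈ s) (F : Y → k) (hF : ∀ a, ∀ y ∈ s, F (act a y) = F y)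
    [DecidablePred fun y : Y => ∀ a, act a y = y] :
    ∑ y ∈ s, F y = ∑ y ∈ s.filter (fun y => ∀ a, act a y = y), F y := by
  classical
  have key : ∀ v : k, ((s.filter (fun y => F y = v)).card : k)
      = (((s.filter (fun y => ∀ a, act a y = y)).filter (fun y => F y = v)).card : k) := by
    intro v
    let X := {y : Y // y ∈ s ∧ F y = v}
    let _ : MulAction S X :=
      { smul := fun a y => ⟨act a y.1, hs a y.1 y.2.1, (hF a y.1 y.2.1).trans y.2.2⟩
        one_smul := fun y => Subtype.ext (h1 y.1)
        mul_smul := fun a b y => Subtype.ext (hmul a b y.1) }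
    have hsm : ∀ (a : S) (y : X), (a • y).1 = act a y.1 := fun _ _ => rfl
    have hfin : Finite X := by
      apply Finite.of_injective (fun y : X => (⟨y.1, y.2.1⟩ : s))
      intro a b h
      exact Subtype.ext (congrArg (fun z : s => z.1) h)
    have h := hS.card_modEq_card_fixedPoints X
    have e1 : Nat.card X = (s.filter (fun y => F y = v)).card := by
      rw [← Fintype.card_coe, ← Nat.card_eq_fintype_card]
      exact Nat.card_congr (Equiv.subtypeEquivRight (by simp))
    have e2 : Nat.card (MulAction.fixedPoints S X)
        = ((s.filter (fun y => ∀ a, act a y = y)).filter (fun y => F y = v)).card := by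
      rw [← Fintype.card_coe, ← Nat.card_eq_fintype_card]
      refine Nat.card_congr ⟨fun y => ⟨y.1.1, ?_⟩, fun y => ⟨⟨y.1, ?_⟩, ?_⟩, ?_, ?_⟩
      · have h2 := y.2
        simp only [Finset.mem_filter]
        refine ⟨⟨y.1.2.1, fun a => ?_⟩, y.1.2.2⟩
        have := h2 a
        rw [← hsm, this]
      · have := y.2
        simp only [Finset.mem_filter] at this
        exact ⟨this.1.1, this.2⟩
      · intro a
        have := y.2
        simp only [Finset.mem_filter] at this
        exact Subtype.ext (this.1.2 a)
      · intro y; rfl
      · intro y; rfl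
    rw [e1, e2] at h
    exact (CharP.natCast_eq_natCast k p).2 h
  have hcomp : ∀ t : Finset Y, ∑ y ∈ t, F y
      = ∑ v ∈ s.image F, ((t.filter (fun y => F y = v)).card : k) * v ∨ ¬ t ⊆ s := by
    intro t
    by_cases hts : t ⊆ s
    · left
      have := Finset.sum_comp (s := t) (fun v : k => v) F
      rw [this]
      have hsub : t.image F ⊆ s.image F := Finset.image_subset_image hts
      rw [← Finset.sum_subset hsub]
      · simp [nsmul_eq_mul]
      · intro v _ hv
        have : t.filter (fun y => F y = v) = ∅ := by
          rw [Finset.filter_eq_empty_iff]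
          intro y hy hyv
          exact hv (Finset.mem_image.2 ⟨y, hy, hyv⟩)
        rw [this]; simp
    · right; exact hts
  rcases hcomp s with h | h
  · rcases hcomp (s.filter (fun y => ∀ a, act a y = y)) with h' | h'
    · rw [h, h']
      exact Finset.sum_congr rfl (fun v _ => by rw [key v])
    · exact absurd (Finset.filter_subset _ _) h'
  · exact absurd (Finset.Subset.refl _) h

end Cfsg.Agent.Lib.Helper80
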