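import Mathlib
import Cfsg.Agent.Lib.Helper80.FixSum

set_option autoImplicit false
set_option linter.unusedSectionVars false

namespace Cfsg.Agent.Lib.Helper80

open scoped BigOperators

/-- The group algebra of a finite group, as functions with the convolution product. -/
def GA (k : Type*) (G : Type*) := G → k

namespace GA

variable {k : Type*} {G : Type*}

instance instFunLikeGA : FunLike (GA k G) G k := ⟨fun a => a, fun _ _ h => h⟩

@[ext] theorem ext {a b : GA k G} (h : ∀ g, a g = b g) : a = b := funext h

instance instAddCommGroupGA [CommRing k] : AddCommGroup (GA k G) :=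
  inferInstanceAs (AddCommGroup (G → k))

instance instModuleGA [CommRing k] : Module k (GA k G) :=
  inferInstanceAs (Module k (G → k))

instance instModuleFiniteGA [CommRing k] [Finite G] : Module.Finite k (GA k G) :=
  inferInstanceAs (Module.Finite k (G → k))

section basic
variable [CommRing k]

@[simp] theorem add_apply (a b : GA k G) (g : G) : (a + b) g = a g + b g := rfl
@[simp] theorem sub_apply (a b : GA k G) (g : G) : (a - b) g = a g - b g := rfl
@[simp] theorem neg_apply (a : GA k G) (g : G) : (-a) g = -a g := rfl
@[simp] theorem zero_apply (g : G) : (0 : GA k G) g = 0 := rfl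
@[simp] theorem smul_apply (c : k) (a : GA k G) (g : G) : (c • a) g = c * a g := rfl

theorem sum_apply {ι : Type*} (s : Finset ι) (f : ι → GA k G) (g : G) :
    (∑ i ∈ s, f i) g = ∑ i ∈ s, f i g := by
  classical
  induction s using Finset.induction_on with
  | empty => simp
  | insert a s ha ih => rw [Finset.sum_insert ha, Finset.sum_insert ha, add_apply, ih]

end basic

variable [CommRing k] [Group G] [Fintype G]

noncomputable instance instMulGA : Mul (GA k G) := ⟨fun a b => fun g => ∑ x, a x * b (x⁻¹ * g)⟩

theorem mul_apply (a b : GA k G) (g : G) : (a * b) g = ∑ x, a x * b (x⁻¹ * g) := rfl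

/-- basis element -/
noncomputable def of (x : G) : GA k G := fun g => by classical exact if g = x then 1 else 0

theorem of_apply [DecidableEq G] (x g : G) : (of x : GA k G) g = if g = x then 1 else 0 := by
  show (@ite k (g = x) (Classical.propDecidable _) 1 0) = _
  congr

noncomputable instance instOneGA : One (GA k G) := ⟨of 1⟩

theorem one_def : (1 : GA k G) = of 1 := rfl

theorem of_mul_apply (x : G) (a : GA k G) (g : G) : (of x * a : GA k G) g = a (x⁻¹ * g) := by
  classical
  rw [mul_apply, Finset.sum_eq_single x]
  · rw [of_apply, if_pos rfl, one_mul]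
  · intro y _ hy
    rw [of_apply, if_neg hy, zero_mul]
  · intro h; exact absurd (Finset.mem_univ _) h

theorem mul_of_apply (a : GA k G) (x : G) (g : G) : (a * of x : GA k G) g = a (g * x⁻¹) := by
  classical
  rw [mul_apply, Finset.sum_eq_single (g * x⁻¹)]
  · rw [of_apply, if_pos (by group), mul_one]
  · intro y _ hy
    rw [of_apply, if_neg, mul_zero]
    intro h
    apply hy
    rw [← h]; group
  · intro h; exact absurd (Finset.mem_univ _) h

theorem mul_assoc' (a b c : GA k G) : a * b * c = a * (b * c) := by
  ext g
  simp only [mul_apply, Finset.sum_mul, Finset.mul_sum]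
  rw [Finset.sum_comm]
  refine Finset.sum_congr rfl (fun x _ => ?_)
  refine Fintype.sum_equiv (Equiv.mulLeft x⁻¹) _ _ (fun y => ?_)
  simp only [Equiv.coe_mulLeft, mul_inv_rev, inv_inv]
  rw [mul_assoc, mul_assoc y⁻¹ x, mul_inv_cancel_left]

noncomputable instance instRingGA : Ring (GA k G) :=
  { instAddCommGroupGA, instMulGA, instOneGA with
    left_distrib := fun a b c => by
      ext g; simp only [mul_apply, add_apply, mul_add, Finset.sum_add_distrib]
    right_distrib := fun a b c => by
      ext g; simp only [mul_apply, add_apply, add_mul, Finset.sum_add_distrib]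
    zero_mul := fun a => by ext g; simp [mul_apply]
    mul_zero := fun a => by ext g; simp [mul_apply]
    mul_assoc := mul_assoc'
    one_mul := fun a => by ext g; rw [one_def, of_mul_apply]; simp
    mul_one := fun a => by ext g; rw [one_def, mul_of_apply]; simp }

noncomputable instance instAlgebraGA : Algebra k (GA k G) :=
  Algebra.ofModule
    (fun r a b => by ext g; simp only [mul_apply, smul_apply, Finset.mul_sum, mul_assoc])
    (fun r a b => by
      ext g; simp only [mul_apply, smul_apply, Finset.mul_sum]
      exact Finset.sum_congr rfl (fun x _ => by ring))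

theorem of_mul_of (x y : G) : (of x * of y : GA k G) = of (x * y) := by
  classical
  ext g
  rw [of_mul_apply, of_apply, of_apply]
  congr 1
  rw [eq_iff_iff]
  constructor
  · intro h; rw [← h]; group
  · intro h; rw [h]; group

theorem of_one : (of 1 : GA k G) = 1 := rfl

theorem one_apply [DecidableEq G] (g : G) : (1 : GA k G) g = if g = 1 then 1 else 0 := by
  rw [one_def, of_apply]

/-- every element is the sum of its terms -/
theorem eq_sum_of (a : GA k G) : a = ∑ x, a x • (of x : GA k G) := by
  classical
  ext g
  rw [sum_apply, Finset.sum_eq_single g]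
  · rw [smul_apply, of_apply, if_pos rfl, mul_one]
  · intro y _ hy
    rw [smul_apply, of_apply, if_neg (Ne.symm hy), mul_zero]
  · intro h; exact absurd (Finset.mem_univ _) h

/-- conjugation -/
noncomputable def cj (x : G) (a : GA k G) : GA k G := of x * a * of x⁻¹

theorem cj_apply (x : G) (a : GA k G) (g : G) : cj x a g = a (x⁻¹ * g * x) := by
  unfold cj
  rw [mul_of_apply, of_mul_apply, inv_inv, mul_assoc]

theorem of_inv_mul_of (x : G) : (of x⁻¹ * of x : GA k G) = 1 := by
  rw [of_mul_of, inv_mul_cancel, of_one]

theorem of_mul_of_inv (x : G) : (of x * of x⁻¹ : GA k G) = 1 := by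
  rw [of_mul_of, mul_inv_cancel, of_one]

theorem cj_mul (x : G) (a b : GA k G) : cj x (a * b) = cj x a * cj x b := by
  unfold cj
  calc of x * (a * b) * of x⁻¹ = of x * a * 1 * b * of x⁻¹ := by simp only [mul_one, mul_assoc]
    _ = of x * a * (of x⁻¹ * of x) * b * of x⁻¹ := by rw [of_inv_mul_of]
    _ = _ := by simp only [mul_assoc]

theorem cj_add (x : G) (a b : GA k G) : cj x (a + b) = cj x a + cj x b := by
  unfold cj; rw [mul_add, add_mul]

theorem cj_sub (x : G) (a b : GA k G) : cj x (a - b) = cj x a - cj x b := by
  unfold cj; rw [mul_sub, sub_mul]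

theorem cj_zero (x : G) : cj x (0 : GA k G) = 0 := by
  unfold cj; simp

theorem cj_one (x : G) : cj x (1 : GA k G) = 1 := by
  unfold cj; rw [mul_one, of_mul_of_inv]

theorem cj_smul (x : G) (c : k) (a : GA k G) : cj x (c • a) = c • cj x a := by
  ext g; simp only [cj_apply, smul_apply]

theorem cj_sum {ι : Type*} (x : G) (s : Finset ι) (f : ι → GA k G) :
    cj x (∑ i ∈ s, f i) = ∑ i ∈ s, cj x (f i) := by
  unfold cj; rw [Finset.mul_sum, Finset.sum_mul]

theorem cj_cj (x y : G) (a : GA k G) : cj x (cj y a) = cj (x * y) a := by
  ext g; simp only [cj_apply, mul_inv_rev, mul_assoc]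

theorem one_cj (a : GA k G) : cj 1 a = a := by
  ext g; simp [cj_apply]

theorem cj_pow (x : G) (a : GA k G) (n : ℕ) : cj x (a ^ n) = cj x a ^ n := by
  induction n with
  | zero => simp [cj_one]
  | succ n ih => rw [pow_succ, pow_succ, cj_mul, ih]

theorem cj_inv_cj (x : G) (a : GA k G) : cj x⁻¹ (cj x a) = a := by
  rw [cj_cj, inv_mul_cancel, one_cj]

theorem cj_cj_inv (x : G) (a : GA k G) : cj x (cj x⁻¹ a) = a := by
  rw [cj_cj, mul_inv_cancel, one_cj]

theorem cj_injective (x : G) : Function.Injective (cj x : GA k G → GA k G) := by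
  intro a b h
  rw [← cj_inv_cj x a, h, cj_inv_cj]

theorem cj_eq_zero_iff (x : G) (a : GA k G) : cj x a = 0 ↔ a = 0 := by
  constructor
  · intro h; apply cj_injective x; rw [h, cj_zero]
  · intro h; rw [h, cj_zero]

theorem cj_eq_iff_commute (x : G) (a : GA k G) : cj x a = a ↔ of x * a = a * of x := by
  unfold cj
  constructor
  · intro h
    calc of x * a = of x * a * (of x⁻¹ * of x) := by rw [of_inv_mul_of, mul_one]
      _ = (of x * a * of x⁻¹) * of x := by simp only [mul_assoc]
      _ = a * of x := by rw [h]
  · intro h
    rw [h, mul_assoc, of_mul_of_inv, mul_one]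

end GA

end Cfsg.Agent.Lib.Helper80
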