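import Mathlib
import Cfsg.Agent.Lib.Helper80.GA

set_option autoImplicit false
set_option linter.unusedSectionVars false

namespace Cfsg.Agent.Lib.Helper80

open scoped BigOperators

namespace GA

variable {k : Type*} {G : Type*} [CommRing k] [Group G] [Fintype G]

/-- supported on `H` -/
def SuppOn (H : Subgroup G) (a : GA k G) : Prop := ∀ g, g ∉ H → a g = 0

/-- fixed under conjugation by `H` -/
def FixBy (H : Subgroup G) (a : GA k G) : Prop := ∀ x ∈ H, cj x a = a

/-- member of the centre of `kH` -/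
def InZ (H : Subgroup G) (a : GA k G) : Prop := SuppOn H a ∧ FixBy H a

section closure
variable {H : Subgroup G} {a b : GA k G}

theorem SuppOn.zero : SuppOn H (0 : GA k G) := fun _ _ => rfl
theorem SuppOn.add (ha : SuppOn H a) (hb : SuppOn H b) : SuppOn H (a + b) := fun g hg => by
  rw [add_apply, ha g hg, hb g hg, add_zero]
theorem SuppOn.sub (ha : SuppOn H a) (hb : SuppOn H b) : SuppOn H (a - b) := fun g hg => by
  rw [sub_apply, ha g hg, hb g hg, sub_zero]
theorem SuppOn.neg (ha : SuppOn H a) : SuppOn H (-a) := fun g hg => by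
  rw [neg_apply, ha g hg, neg_zero]
theorem SuppOn.smul (c : k) (ha : SuppOn H a) : SuppOn H (c • a) := fun g hg => by
  rw [smul_apply, ha g hg, mul_zero]
theorem SuppOn.of {x : G} (hx : x ∈ H) : SuppOn H (of x : GA k G) := fun g hg => by
  classical
  rw [of_apply, if_neg]
  intro h; exact hg (h ▸ hx)
theorem SuppOn.one : SuppOn H (1 : GA k G) := SuppOn.of H.one_mem
theorem SuppOn.mul (ha : SuppOn H a) (hb : SuppOn H b) : SuppOn H (a * b) := fun g hg => by
  rw [mul_apply]
  refine Finset.sum_eq_zero (fun x _ => ?_)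
  by_cases hx : x ∈ H
  · rw [hb, mul_zero]
    intro h
    exact hg (by simpa using H.mul_mem hx h)
  · rw [ha x hx, zero_mul]
theorem SuppOn.sum {ι : Type*} (s : Finset ι) (f : ι → GA k G) (h : ∀ i ∈ s, SuppOn H (f i)) :
    SuppOn H (∑ i ∈ s, f i) := fun g hg => by
  rw [sum_apply]
  exact Finset.sum_eq_zero (fun i hi => h i hi g hg)
theorem SuppOn.pow (ha : SuppOn H a) (n : ℕ) : SuppOn H (a ^ n) := by
  induction n with
  | zero => rw [pow_zero]; exact SuppOn.one
  | succ n ih => rw [pow_succ]; exact ih.mul ha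
theorem SuppOn.mono {K : Subgroup G} (hHK : H ≤ K) (ha : SuppOn H a) : SuppOn K a :=
  fun g hg => ha g (fun h => hg (hHK h))

theorem FixBy.zero : FixBy H (0 : GA k G) := fun x _ => cj_zero x
theorem FixBy.one : FixBy H (1 : GA k G) := fun x _ => cj_one x
theorem FixBy.add (ha : FixBy H a) (hb : FixBy H b) : FixBy H (a + b) := fun x hx => by
  rw [cj_add, ha x hx, hb x hx]
theorem FixBy.sub (ha : FixBy H a) (hb : FixBy H b) : FixBy H (a - b) := fun x hx => by
  rw [cj_sub, ha x hx, hb x hx]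
theorem FixBy.smul (c : k) (ha : FixBy H a) : FixBy H (c • a) := fun x hx => by
  rw [cj_smul, ha x hx]
theorem FixBy.mul (ha : FixBy H a) (hb : FixBy H b) : FixBy H (a * b) := fun x hx => by
  rw [cj_mul, ha x hx, hb x hx]
theorem FixBy.sum {ι : Type*} (s : Finset ι) (f : ι → GA k G) (h : ∀ i ∈ s, FixBy H (f i)) :
    FixBy H (∑ i ∈ s, f i) := fun x hx => by
  rw [cj_sum]
  exact Finset.sum_congr rfl (fun i hi => h i hi x hx)
theorem FixBy.pow (ha : FixBy H a) (n : ℕ) : FixBy H (a ^ n) := fun x hx => by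
  rw [cj_pow, ha x hx]
theorem FixBy.mono {K : Subgroup G} (hHK : H ≤ K) (ha : FixBy K a) : FixBy H a :=
  fun x hx => ha x (hHK hx)
theorem FixBy.apply (ha : FixBy H a) {x : G} (hx : x ∈ H) (g : G) : a (x * g * x⁻¹) = a g := by
  have := congrArg (fun c : GA k G => c g) (ha x⁻¹ (H.inv_mem hx))
  simpa [cj_apply] using this
theorem FixBy.apply' (ha : FixBy H a) {x : G} (hx : x ∈ H) (g : G) : a (x⁻¹ * g * x) = a g := by
  have := congrArg (fun c : GA k G => c g) (ha x hx)
  simpa [cj_apply] using this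
theorem fixBy_iff : FixBy H a ↔ ∀ x ∈ H, ∀ g, a (x * g * x⁻¹) = a g := by
  constructor
  · intro h x hx g; exact h.apply hx g
  · intro h x hx
    ext g
    rw [cj_apply]
    have := h x⁻¹ (H.inv_mem hx) g
    simpa using this

theorem InZ.zero : InZ H (0 : GA k G) := ⟨SuppOn.zero, FixBy.zero⟩
theorem InZ.one : InZ H (1 : GA k G) := ⟨SuppOn.one, FixBy.one⟩
theorem InZ.add (ha : InZ H a) (hb : InZ H b) : InZ H (a + b) := ⟨ha.1.add hb.1, ha.2.add hb.2⟩
theorem InZ.sub (ha : InZ H a) (hb : InZ H b) : InZ H (a - b) := ⟨ha.1.sub hb.1, ha.2.sub hb.2⟩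
theorem InZ.smul (c : k) (ha : InZ H a) : InZ H (c • a) := ⟨ha.1.smul c, ha.2.smul c⟩
theorem InZ.mul (ha : InZ H a) (hb : InZ H b) : InZ H (a * b) := ⟨ha.1.mul hb.1, ha.2.mul hb.2⟩
theorem InZ.sum {ι : Type*} (s : Finset ι) (f : ι → GA k G) (h : ∀ i ∈ s, InZ H (f i)) :
    InZ H (∑ i ∈ s, f i) :=
  ⟨SuppOn.sum s f (fun i hi => (h i hi).1), FixBy.sum s f (fun i hi => (h i hi).2)⟩
theorem InZ.pow (ha : InZ H a) (n : ℕ) : InZ H (a ^ n) := ⟨ha.1.pow n, ha.2.pow n⟩

/-- an element supported on `H` commutes with an element fixed by `H` -/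
theorem commute_of_suppOn_fixBy (ha : SuppOn H a) (hb : FixBy H b) : a * b = b * a := by
  conv_lhs => rw [eq_sum_of a]
  conv_rhs => rw [eq_sum_of a]
  rw [Finset.sum_mul, Finset.mul_sum]
  refine Finset.sum_congr rfl (fun x _ => ?_)
  by_cases hx : x ∈ H
  · rw [smul_mul_assoc, mul_smul_comm, (cj_eq_iff_commute x b).1 (hb x hx)]
  · rw [ha x hx, zero_smul, zero_mul, mul_zero]

theorem InZ.comm (ha : InZ H a) (hb : InZ H b) : a * b = b * a :=
  commute_of_suppOn_fixBy ha.1 hb.2

end closure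

/-- conjugate subgroup -/
abbrev cS (x : G) (H : Subgroup G) : Subgroup G := H.map (MulAut.conj x).toMonoidHom

theorem mem_cS {x g : G} {H : Subgroup G} : g ∈ cS x H ↔ x⁻¹ * g * x ∈ H := by
  constructor
  · rintro ⟨h, hh, rfl⟩
    simpa [MulAut.conj_apply, mul_assoc] using hh
  · intro h
    exact ⟨x⁻¹ * g * x, h, by simp [MulAut.conj_apply, mul_assoc]⟩

theorem SuppOn.cj {H : Subgroup G} {a : GA k G} (ha : SuppOn H a) (x : G) :
    SuppOn (cS x H) (cj x a) := fun g hg => by
  rw [cj_apply]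
  exact ha _ (fun h => hg (mem_cS.2 h))

theorem FixBy.cj {H : Subgroup G} {a : GA k G} (ha : FixBy H a) (x : G) :
    FixBy (cS x H) (cj x a) := fun y hy => by
  have h1 := ha _ (mem_cS.1 hy)
  rw [cj_cj]
  have : y * x = x * (x⁻¹ * y * x) := by group
  rw [this, ← cj_cj, h1]

theorem InZ.cj {H : Subgroup G} {a : GA k G} (ha : InZ H a) (x : G) :
    InZ (cS x H) (cj x a) := ⟨ha.1.cj x, ha.2.cj x⟩

/-- truncation to a subgroup -/
noncomputable def trunc (H : Subgroup G) (a : GA k G) : GA k G :=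
  fun g => by classical exact if g ∈ H then a g else 0

theorem trunc_apply (H : Subgroup G) (a : GA k G) (g : G) [Decidable (g ∈ H)] :
    trunc H a g = if g ∈ H then a g else 0 := by
  show (@ite k (g ∈ H) (Classical.propDecidable _) (a g) 0) = _
  congr

theorem trunc_apply_mem {H : Subgroup G} (a : GA k G) {g : G} (hg : g ∈ H) :
    trunc H a g = a g := by
  classical rw [trunc_apply, if_pos hg]

theorem trunc_apply_not_mem {H : Subgroup G} (a : GA k G) {g : G} (hg : g ∉ H) :
    trunc H a g = 0 := by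
  classical rw [trunc_apply, if_neg hg]

theorem trunc_suppOn (H : Subgroup G) (a : GA k G) : SuppOn H (trunc H a) :=
  fun _ hg => trunc_apply_not_mem a hg

theorem trunc_eq_self {H : Subgroup G} {a : GA k G} (ha : SuppOn H a) : trunc H a = a := by
  ext g
  by_cases hg : g ∈ H
  · exact trunc_apply_mem a hg
  · rw [trunc_apply_not_mem a hg, ha g hg]

theorem trunc_add (H : Subgroup G) (a b : GA k G) : trunc H (a + b) = trunc H a + trunc H b := by
  ext g
  by_cases hg : g ∈ H
  · simp [trunc_apply_mem _ hg]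
  · simp [trunc_apply_not_mem _ hg]

theorem trunc_sub (H : Subgroup G) (a b : GA k G) : trunc H (a - b) = trunc H a - trunc H b := by
  ext g
  by_cases hg : g ∈ H
  · simp [trunc_apply_mem _ hg]
  · simp [trunc_apply_not_mem _ hg]

theorem trunc_zero (H : Subgroup G) : trunc H (0 : GA k G) = 0 := trunc_eq_self SuppOn.zero

theorem trunc_one (H : Subgroup G) : trunc H (1 : GA k G) = 1 := trunc_eq_self SuppOn.one

theorem trunc_smul (H : Subgroup G) (c : k) (a : GA k G) : trunc H (c • a) = c • trunc H a := by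
  ext g
  by_cases hg : g ∈ H
  · simp [trunc_apply_mem _ hg]
  · simp [trunc_apply_not_mem _ hg]

theorem trunc_sum {ι : Type*} (H : Subgroup G) (s : Finset ι) (f : ι → GA k G) :
    trunc H (∑ i ∈ s, f i) = ∑ i ∈ s, trunc H (f i) := by
  ext g
  by_cases hg : g ∈ H
  · simp [trunc_apply_mem _ hg, sum_apply]
  · simp [trunc_apply_not_mem _ hg, sum_apply]

theorem trunc_trunc {H K : Subgroup G} (hHK : H ≤ K) (a : GA k G) :
    trunc H (trunc K a) = trunc H a := by
  ext g
  by_cases hg : g ∈ H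
  · rw [trunc_apply_mem _ hg, trunc_apply_mem _ hg, trunc_apply_mem _ (hHK hg)]
  · rw [trunc_apply_not_mem _ hg, trunc_apply_not_mem _ hg]

theorem cj_trunc (x : G) (H : Subgroup G) (a : GA k G) :
    cj x (trunc H a) = trunc (cS x H) (cj x a) := by
  ext g
  rw [cj_apply]
  by_cases hg : g ∈ cS x H
  · rw [trunc_apply_mem _ hg, trunc_apply_mem _ (mem_cS.1 hg), cj_apply]
  · rw [trunc_apply_not_mem _ hg, trunc_apply_not_mem _ (fun h => hg (mem_cS.2 h))]

/-- centraliser shorthand -/
abbrev Cn (P : Subgroup G) : Subgroup G := Subgroup.centralizer (P : Set G)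

/-- normaliser shorthand -/
abbrev Nn (P : Subgroup G) : Subgroup G := Subgroup.normalizer (P : Set G)

theorem mem_Cn {P : Subgroup G} {g : G} : g ∈ Cn P ↔ ∀ u ∈ P, u * g = g * u :=
  Subgroup.mem_centralizer_iff

theorem Cn_anti {P Q : Subgroup G} (h : Q ≤ P) : Cn P ≤ Cn Q :=
  Subgroup.centralizer_le h

theorem cS_Cn (x : G) (P : Subgroup G) : cS x (Cn P) = Cn (cS x P) := by
  ext g
  rw [mem_cS, mem_Cn, mem_Cn]
  constructor
  · intro h u hu
    have := h _ (mem_cS.1 hu)
    have h2 : x * (x⁻¹ * u * x * (x⁻¹ * g * x)) * x⁻¹ = x * (x⁻¹ * g * x * (x⁻¹ * u * x)) * x⁻¹ := by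
      rw [this]
    simpa [mul_assoc] using h2
  · intro h u hu
    have := h (x * u * x⁻¹) (mem_cS.2 (by simpa [mul_assoc] using hu))
    have h2 : x⁻¹ * (x * u * x⁻¹ * g) * x = x⁻¹ * (g * (x * u * x⁻¹)) * x := by rw [this]
    simpa [mul_assoc] using h2

theorem cS_eq_self_of_mem_Nn {x : G} {P : Subgroup G} (hx : x ∈ Nn P) : cS x P = P := by
  ext g
  rw [mem_cS]
  have h1 := (Subgroup.mem_normalizer_iff.1 (Subgroup.inv_mem _ hx)) g
  simp only [inv_inv] at h1
  exact h1.symm

theorem cS_one (P : Subgroup G) : cS 1 P = P := by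
  ext g; rw [mem_cS]; simp

theorem cS_cS (x y : G) (P : Subgroup G) : cS x (cS y P) = cS (x * y) P := by
  ext g; simp only [mem_cS, mul_inv_rev, mul_assoc]

theorem cS_mono {P Q : Subgroup G} (x : G) (h : P ≤ Q) : cS x P ≤ cS x Q :=
  Subgroup.map_mono h

theorem cS_le_iff {P Q : Subgroup G} (x : G) : cS x P ≤ cS x Q ↔ P ≤ Q := by
  constructor
  · intro h
    have := cS_mono x⁻¹ h
    rwa [cS_cS, cS_cS, inv_mul_cancel, cS_one, cS_one] at this
  · exact cS_mono x

/-- The Brauer map: truncation to the centraliser. -/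
noncomputable def br (P : Subgroup G) (a : GA k G) : GA k G := trunc (Cn P) a

theorem br_suppOn (P : Subgroup G) (a : GA k G) : SuppOn (Cn P) (br P a) := trunc_suppOn _ _

theorem br_apply_mem {P : Subgroup G} (a : GA k G) {g : G} (hg : g ∈ Cn P) : br P a g = a g :=
  trunc_apply_mem a hg

theorem br_apply_not_mem {P : Subgroup G} (a : GA k G) {g : G} (hg : g ∉ Cn P) : br P a g = 0 :=
  trunc_apply_not_mem a hg

theorem br_eq_self {P : Subgroup G} {a : GA k G} (ha : SuppOn (Cn P) a) : br P a = a :=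
  trunc_eq_self ha

theorem br_add (P : Subgroup G) (a b : GA k G) : br P (a + b) = br P a + br P b := trunc_add _ _ _
theorem br_sub (P : Subgroup G) (a b : GA k G) : br P (a - b) = br P a - br P b := trunc_sub _ _ _
theorem br_zero (P : Subgroup G) : br P (0 : GA k G) = 0 := trunc_zero _
theorem br_one (P : Subgroup G) : br P (1 : GA k G) = 1 := trunc_one _
theorem br_smul (P : Subgroup G) (c : k) (a : GA k G) : br P (c • a) = c • br P a :=
  trunc_smul _ _ _
theorem br_sum {ι : Type*} (P : Subgroup G) (s : Finset ι) (f : ι → GA k G) :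
    br P (∑ i ∈ s, f i) = ∑ i ∈ s, br P (f i) := trunc_sum _ _ _

theorem br_br {P Q : Subgroup G} (h : Q ≤ P) (a : GA k G) : br P (br Q a) = br P a :=
  trunc_trunc (Cn_anti h) a

theorem cj_br (x : G) (P : Subgroup G) (a : GA k G) : cj x (br P a) = br (cS x P) (cj x a) := by
  unfold br
  rw [cj_trunc, cS_Cn]

theorem FixBy.br {H P : Subgroup G} {a : GA k G} (ha : FixBy H a) (hH : H ≤ Nn P) :
    FixBy H (br P a) := fun x hx => by
  rw [cj_br, cS_eq_self_of_mem_Nn (hH hx), ha x hx]

theorem Cn_le_Nn (P : Subgroup G) : Cn P ≤ Nn P := by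
  intro g hg
  rw [Subgroup.mem_normalizer_iff]
  intro h
  constructor
  · intro hh
    have := mem_Cn.1 hg h hh
    rw [← this]; simpa using hh
  · intro hh
    have := mem_Cn.1 hg _ hh
    have h2 : g * h * g⁻¹ = h := by
      have h3 : g * h * g⁻¹ * g = g * (g * h * g⁻¹) := this
      have h4 : g * h = g * (g * h * g⁻¹) := by simpa using h3
      exact (mul_left_cancel h4).symm
    rwa [h2] at hh

theorem inZ_br {P : Subgroup G} {a : GA k G} (ha : FixBy (Cn P) a) : InZ (Cn P) (br P a) :=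
  ⟨br_suppOn P a, ha.br (Cn_le_Nn P)⟩

section charp
variable {p : ℕ} [Fact p.Prime] [CharP k p]

/-- sum of a `P`-invariant function over `G` only sees the centraliser of `P` -/
theorem sum_conj_invariant {P : Subgroup G} (hP : IsPGroup p P) (F : G → k)
    (hF : ∀ u ∈ P, ∀ x, F (u * x * u⁻¹) = F x) [DecidablePred (· ∈ Cn P)] :
    ∑ x, F x = ∑ x, if x ∈ Cn P then F x else 0 := by
  classical
  have := sum_eq_sum_fixed (p := p) (S := P) (Y := G) (k := k) hP
    (fun u x => (u : G) * x * (u : G)⁻¹) (by simp) (by intro a b y; simp [mul_assoc])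
    Finset.univ (fun _ _ _ => Finset.mem_univ _) F (fun a y _ => hF a a.2 y)
  rw [this, Finset.sum_filter]
  refine Finset.sum_congr rfl (fun x _ => ?_)
  have : (∀ a : P, (a : G) * x * (a : G)⁻¹ = x) ↔ x ∈ Cn P := by
    rw [mem_Cn]
    constructor
    · intro h u hu
      have := h ⟨u, hu⟩
      exact mul_inv_eq_iff_eq_mul.1 this
    · intro h u
      exact mul_inv_eq_iff_eq_mul.2 (h u u.2)
  simp only [this]

/-- The Brauer map is multiplicative on `P`-fixed elements. -/
theorem br_mul {P : Subgroup G} (hP : IsPGroup p P) {a b : GA k G} (ha : FixBy P a)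
    (hb : FixBy P b) : br P (a * b) = br P a * br P b := by
  classical
  ext c
  by_cases hc : c ∈ Cn P
  · rw [br_apply_mem _ hc, mul_apply, mul_apply,
      sum_conj_invariant hP (fun x => a x * b (x⁻¹ * c))]
    · refine Finset.sum_congr rfl (fun x _ => ?_)
      by_cases hx : x ∈ Cn P
      · rw [if_pos hx, br_apply_mem _ hx, br_apply_mem _ ((Cn P).mul_mem ((Cn P).inv_mem hx) hc)]
      · rw [if_neg hx, br_apply_not_mem _ hx, zero_mul]
    · intro u hu x
      rw [ha.apply hu]
      congr 1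
      have h1 : (u * x * u⁻¹)⁻¹ * c = u * (x⁻¹ * c) * u⁻¹ := by
        have := mem_Cn.1 hc u hu
        have h2 : u⁻¹ * c = c * u⁻¹ := by
          rw [eq_mul_inv_iff_mul_eq, mul_assoc, ← this, inv_mul_cancel_left]
        simp only [mul_inv_rev, inv_inv, mul_assoc, h2]
      rw [h1, hb.apply hu]
  · rw [br_apply_not_mem _ hc, ((br_suppOn P a).mul (br_suppOn P b)) c hc]

theorem br_pow {P : Subgroup G} (hP : IsPGroup p P) {a : GA k G} (ha : FixBy P a) (n : ℕ) :
    br P (a ^ n) = br P a ^ n := by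
  induction n with
  | zero => rw [pow_zero, pow_zero, br_one]
  | succ n ih => rw [pow_succ, pow_succ, br_mul hP (ha.pow n) ha, ih]

end charp

end GA

end Cfsg.Agent.Lib.Helper80
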