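import Mathlib
import Cfsg.Agent.Lib.Helper80.GABr

set_option autoImplicit false
set_option linter.unusedSectionVars false

namespace Cfsg.Agent.Lib.Helper80

open scoped BigOperators

namespace GA

variable {k : Type*} {G : Type*} [Field k] [Group G] [Fintype G]

/-- `b` is a block idempotent of `kH`: a primitive idempotent of the centre of `kH`. -/
structure IsBlk (H : Subgroup G) (b : GA k G) : Prop where
  inZ : InZ H b
  idem : b * b = b
  ne_zero : b ≠ 0
  prim : ∀ e, InZ H e → e * e = e → e * b = 0 ∨ e * b = b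

theorem IsBlk.eq_or_orth {H : Subgroup G} {b b' : GA k G} (hb : IsBlk H b) (hb' : IsBlk H b') :
    b = b' ∨ b * b' = 0 := by
  rcases hb'.prim b hb.inZ hb.idem with h | h
  · right; exact h
  · rcases hb.prim b' hb'.inZ hb'.idem with h' | h'
    · right; rw [hb.inZ.comm hb'.inZ]; exact h'
    · left; rw [← h', hb'.inZ.comm hb.inZ, h]

theorem IsBlk.cj {H : Subgroup G} {b : GA k G} (hb : IsBlk H b) (x : G) :
    IsBlk (cS x H) (cj x b) where
  inZ := hb.inZ.cj x
  idem := by rw [← cj_mul, hb.idem]
  ne_zero := fun h => hb.ne_zero ((cj_eq_zero_iff x b).1 h)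
  prim := fun e he hee => by
    have h1 : InZ H (GA.cj x⁻¹ e) := by
      have := he.cj x⁻¹
      rwa [cS_cS, inv_mul_cancel, cS_one] at this
    rcases hb.prim _ h1 (by rw [← cj_mul, hee]) with h | h
    · left
      have := congrArg (GA.cj x) h
      rwa [cj_mul, cj_cj_inv, cj_zero] at this
    · right
      have := congrArg (GA.cj x) h
      rwa [cj_mul, cj_cj_inv] at this

/-- the centre of `kH` as a submodule -/
def ZSub (H : Subgroup G) : Submodule k (GA k G) where
  carrier := {a | InZ H a}
  add_mem' := fun ha hb => InZ.add ha hb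
  zero_mem' := InZ.zero
  smul_mem' := fun c _ ha => InZ.smul c ha

theorem mem_ZSub {H : Subgroup G} {a : GA k G} : a ∈ ZSub H ↔ InZ H a := Iff.rfl

theorem exists_decomp_aux (H : Subgroup G) (V : Submodule k (GA k G)) :
    ∀ z : GA k G, InZ H z → z * z = z → V = LinearMap.range (LinearMap.mulLeft k z) →
      ∃ s : Finset (GA k G), (∀ b ∈ s, IsBlk H b ∧ z * b = b) ∧ ∑ b ∈ s, b = z := by
  classical
  induction V using WellFoundedLT.induction with
  | ind V ih =>
    intro z hz hzz hV
    by_cases h0 : z = 0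
    · exact ⟨∅, by simp, by simp [h0]⟩
    by_cases hprim : ∀ e, InZ H e → e * e = e → e * z = 0 ∨ e * z = z
    · exact ⟨{z}, by
        intro b hb
        rw [Finset.mem_singleton] at hb
        subst hb
        exact ⟨⟨hz, hzz, h0, hprim⟩, hzz⟩, by simp⟩
    · push Not at hprim
      obtain ⟨e, he, hee, h1, h2⟩ := hprim
      have hez : e * z = z * e := he.comm hz
      -- general smaller piece
      have small : ∀ z' : GA k G, InZ H z' → z' * z' = z' → z * z' = z' → z' ≠ z →
          ∃ s : Finset (GA k G), (∀ b ∈ s, IsBlk H b ∧ z' * b = b) ∧ ∑ b ∈ s, b = z' := by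
        intro z' hz' hzz' hzz2 hne
        refine ih (LinearMap.range (LinearMap.mulLeft k z')) ?_ z' hz' hzz' rfl
        rw [hV]
        refine lt_of_le_of_ne ?_ ?_
        · rintro _ ⟨a, rfl⟩
          exact ⟨z' * a, by simp only [LinearMap.mulLeft_apply]; rw [← mul_assoc, hzz2]⟩
        · intro heq
          have : z ∈ LinearMap.range (LinearMap.mulLeft k z') := by
            rw [heq]; exact ⟨z, by simp only [LinearMap.mulLeft_apply]; exact hzz⟩
          obtain ⟨a, ha⟩ := this
          simp only [LinearMap.mulLeft_apply] at ha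
          apply hne
          calc z' = z * z' := hzz2.symm
            _ = z' * z := hz.comm hz'
            _ = z' * (z' * a) := by rw [ha]
            _ = z' * a := by rw [← mul_assoc, hzz']
            _ = z := ha
      have hz1 : InZ H (e * z) := he.mul hz
      have hz1i : e * z * (e * z) = e * z := by
        calc e * z * (e * z) = e * (z * e) * z := by simp only [mul_assoc]
          _ = e * (e * z) * z := by rw [hez]
          _ = (e * e) * (z * z) := by simp only [mul_assoc]
          _ = e * z := by rw [hee, hzz]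
      have hzz1 : z * (e * z) = e * z := by
        rw [← mul_assoc, ← hez, mul_assoc, hzz]
      obtain ⟨s1, hs1, hsum1⟩ := small (e * z) hz1 hz1i hzz1 h2
      have hz2 : InZ H (z - e * z) := hz.sub hz1
      have hz1z : e * z * z = e * z := by rw [mul_assoc, hzz]
      have hz2i : (z - e * z) * (z - e * z) = z - e * z := by
        rw [mul_sub, sub_mul, sub_mul, hzz, hz1i, hzz1, hz1z]; abel
      have hzz2 : z * (z - e * z) = z - e * z := by rw [mul_sub, hzz, hzz1]
      obtain ⟨s2, hs2, hsum2⟩ := small (z - e * z) hz2 hz2i hzz2 (by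
        intro h; apply h1; exact sub_eq_self.1 h)
      have horth : e * z * (z - e * z) = 0 := by rw [mul_sub, hz1z, hz1i, sub_self]
      have hdisj : Disjoint s1 s2 := by
        rw [Finset.disjoint_left]
        intro b hb1 hb2
        apply (hs1 b hb1).1.ne_zero
        calc b = e * z * b := (hs1 b hb1).2.symm
          _ = e * z * ((z - e * z) * b) := by rw [(hs2 b hb2).2]
          _ = 0 := by rw [← mul_assoc, horth, zero_mul]
      refine ⟨s1 ∪ s2, ?_, ?_⟩
      · intro b hb
        rcases Finset.mem_union.1 hb with hb | hb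
        · refine ⟨(hs1 b hb).1, ?_⟩
          calc z * b = z * (e * z * b) := by rw [(hs1 b hb).2]
            _ = e * z * b := by rw [← mul_assoc, hzz1]
            _ = b := (hs1 b hb).2
        · refine ⟨(hs2 b hb).1, ?_⟩
          calc z * b = z * ((z - e * z) * b) := by rw [(hs2 b hb).2]
            _ = (z - e * z) * b := by rw [← mul_assoc, hzz2]
            _ = b := (hs2 b hb).2
      · rw [Finset.sum_union hdisj, hsum1, hsum2]; abel

theorem exists_decomp (H : Subgroup G) {z : GA k G} (hz : InZ H z) (hzz : z * z = z) :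
    ∃ s : Finset (GA k G), (∀ b ∈ s, IsBlk H b ∧ z * b = b) ∧ ∑ b ∈ s, b = z :=
  exists_decomp_aux H _ z hz hzz rfl

/-- a nonzero central idempotent dominates a block idempotent -/
theorem exists_blk_of_idem (H : Subgroup G) {z : GA k G} (hz : InZ H z) (hzz : z * z = z)
    (h0 : z ≠ 0) : ∃ b, IsBlk H b ∧ z * b = b := by
  obtain ⟨s, hs, hsum⟩ := exists_decomp H hz hzz
  rcases s.eq_empty_or_nonempty with h | ⟨b, hb⟩
  · exfalso; apply h0; rw [← hsum, h]; simp
  · exact ⟨b, hs b hb⟩

theorem exists_blks (H : Subgroup G) :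
    ∃ s : Finset (GA k G), (∀ b, b ∈ s ↔ IsBlk H b) ∧ ∑ b ∈ s, b = 1 := by
  obtain ⟨s, hs, hsum⟩ := exists_decomp (k := k) H InZ.one (one_mul 1)
  refine ⟨s, fun b => ⟨fun hb => (hs b hb).1, fun hb => ?_⟩, hsum⟩
  by_contra hbs
  apply hb.ne_zero
  calc b = 1 * b := (one_mul b).symm
    _ = ∑ b' ∈ s, b' * b := by rw [← hsum, Finset.sum_mul]
    _ = 0 := Finset.sum_eq_zero (fun b' hb' => by
      rcases (hs b' hb').1.eq_or_orth hb with h | h
      · exact absurd (h ▸ hb') hbs
      · exact h)

/-- the finite set of block idempotents of `kH` -/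
noncomputable def blks (k : Type*) [Field k] (H : Subgroup G) : Finset (GA k G) :=
  (exists_blks (k := k) H).choose

theorem mem_blks {H : Subgroup G} {b : GA k G} : b ∈ blks k H ↔ IsBlk H b :=
  (exists_blks (k := k) H).choose_spec.1 b

theorem sum_blks (H : Subgroup G) : ∑ b ∈ blks k H, b = 1 :=
  (exists_blks (k := k) H).choose_spec.2

/-- locality of the block algebra of the centre -/
theorem IsBlk.nilpotent_or_unit {H : Subgroup G} {b : GA k G} (hb : IsBlk H b) {z : GA k G}
    (hz : InZ H z) : IsNilpotent (z * b) ∨ ∃ w, InZ H w ∧ z * w * b = b := by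
  obtain ⟨y, hy⟩ : ∃ y, y = z * b := ⟨_, rfl⟩
  rw [← hy]
  have hyZ : InZ H y := hy ▸ hz.mul hb.inZ
  let f : ℕ →o (Submodule k (GA k G))ᵒᵈ :=
    { toFun := fun i => OrderDual.toDual ((ZSub H).map (LinearMap.mulLeft k (y ^ i)))
      monotone' := by
        apply monotone_nat_of_le_succ
        intro i
        show (ZSub H).map (LinearMap.mulLeft k (y ^ (i + 1))) ≤
          (ZSub H).map (LinearMap.mulLeft k (y ^ i))
        rintro _ ⟨a, ha, rfl⟩
        refine ⟨y * a, hyZ.mul ha, ?_⟩
        simp only [LinearMap.mulLeft_apply]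
        rw [pow_succ, mul_assoc] }
  obtain ⟨n, hn⟩ := IsArtinian.monotone_stabilizes f
  have h1 : (ZSub H).map (LinearMap.mulLeft k (y ^ (n + 1))) =
      (ZSub H).map (LinearMap.mulLeft k (y ^ (2 * (n + 1)))) := by
    have e1 := hn (n + 1) (by omega)
    have e2 := hn (2 * (n + 1)) (by omega)
    exact OrderDual.toDual.injective (e1.symm.trans e2)
  have h2 : y ^ (n + 1) ∈ (ZSub H).map (LinearMap.mulLeft k (y ^ (n + 1))) :=
    ⟨1, InZ.one, by simp⟩
  rw [h1] at h2
  obtain ⟨w, hw, hw2⟩ := h2
  simp only [LinearMap.mulLeft_apply] at hw2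
  have hwZ : InZ H w := hw
  obtain ⟨m, hm⟩ : ∃ m, m = n + 1 := ⟨_, rfl⟩
  rw [← hm] at hw2
  have hymZ : InZ H (y ^ m) := hyZ.pow m
  obtain ⟨e, he⟩ : ∃ e, e = y ^ m * w := ⟨_, rfl⟩
  have heZ : InZ H e := he ▸ hymZ.mul hwZ
  have hee : e * e = e := by
    calc e * e = y ^ m * (w * y ^ m) * w := by rw [he]; simp only [mul_assoc]
      _ = y ^ m * (y ^ m * w) * w := by rw [hwZ.comm hymZ]
      _ = (y ^ (2 * m) * w) * w := by rw [two_mul, pow_add]; simp only [mul_assoc]
      _ = e := by rw [hw2, he]
  have hyb : y * b = y := by rw [hy, mul_assoc, hb.idem]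
  have hymb : y ^ m * b = y ^ m := by
    rw [hm, pow_succ, mul_assoc, hyb]
  have heb : e * b = e := by
    rw [he, mul_assoc, hwZ.comm hb.inZ, ← mul_assoc, hymb]
  rcases hb.prim e heZ hee with h | h
  · left
    refine ⟨m, ?_⟩
    calc y ^ m = y ^ (2 * m) * w := hw2.symm
      _ = y ^ m * e := by rw [two_mul, pow_add, he]; simp only [mul_assoc]
      _ = 0 := by rw [← heb, h, mul_zero]
  · right
    refine ⟨y ^ n * w, (hyZ.pow n).mul hwZ, ?_⟩
    have h3 : e = b := by rw [← heb, h]
    have h4 : z * (y ^ n * w) * b = y ^ m * w := by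
      calc z * (y ^ n * w) * b = z * ((y ^ n * w) * b) := by rw [mul_assoc]
        _ = z * (b * (y ^ n * w)) := by rw [((hyZ.pow n).mul hwZ).comm hb.inZ]
        _ = y * y ^ n * w := by rw [hy]; simp only [mul_assoc]
        _ = y ^ m * w := by rw [hm, pow_succ']
    rw [h4, ← he, h3]

theorem IsBlk.not_nilpotent {H : Subgroup G} {b : GA k G} (hb : IsBlk H b) : ¬ IsNilpotent b := by
  rintro ⟨n, hn⟩
  apply hb.ne_zero
  have : ∀ m : ℕ, b ^ (m + 1) = b := by
    intro m
    induction m with
    | zero => simp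
    | succ m ih => rw [pow_succ, ih, hb.idem]
  cases n with
  | zero =>
    rw [pow_zero] at hn
    rw [← mul_one b, hn, mul_zero]
  | succ n => rw [← this n, hn]

/-- an idempotent which is nilpotent vanishes -/
theorem eq_zero_of_idem_of_nilpotent {z : GA k G} (hzz : z * z = z) (hn : IsNilpotent z) :
    z = 0 := by
  obtain ⟨n, hn⟩ := hn
  have : ∀ m : ℕ, z ^ (m + 1) = z := by
    intro m
    induction m with
    | zero => simp
    | succ m ih => rw [pow_succ, ih, hzz]
  cases n with
  | zero =>
    rw [pow_zero] at hn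
    rw [← mul_one z, hn, mul_zero]
  | succ n => rw [← this n, hn]

end GA

end Cfsg.Agent.Lib.Helper80
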