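import Mathlib
import Cfsg.Agent.Lib.Helper80.GABlk

set_option autoImplicit false
set_option linter.unusedSectionVars false

namespace Cfsg.Agent.Lib.Helper80

open scoped BigOperators

namespace GA

variable {k : Type*} {G : Type*} [Field k] [Group G] [Fintype G]

/-- normalisers grow in finite `p`-groups -/
theorem lt_inf_normalizer {p : ℕ} [Fact p.Prime] {P Q : Subgroup G} (hP : IsPGroup p P)
    (h : Q < P) : Q < P ⊓ Nn Q := by
  have hnil : Group.IsNilpotent P := hP.isNilpotent
  have hnc : NormalizerCondition P := Group.normalizerCondition_of_isNilpotent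
  have h1 : Q.subgroupOf P < ⊤ := by
    rw [lt_top_iff_ne_top]
    intro h2
    rw [Subgroup.subgroupOf_eq_top] at h2
    exact absurd h2 (not_le_of_gt h)
  have h2 := hnc _ h1
  obtain ⟨x, hx, hxQ⟩ := SetLike.exists_of_lt h2
  refine lt_of_le_of_ne (le_inf h.le Subgroup.le_normalizer) ?_
  intro heq
  apply hxQ
  rw [Subgroup.mem_subgroupOf, heq]
  refine Subgroup.mem_inf.2 ⟨x.2, ?_⟩
  rw [Subgroup.mem_normalizer_iff] at hx ⊢
  intro g
  constructor
  · intro hg
    have := (hx ⟨g, h.le hg⟩).1 (Subgroup.mem_subgroupOf.2 hg)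
    simpa [Subgroup.mem_subgroupOf] using this
  · intro hg
    have hgP : g ∈ P := by
      have h3 : (x : G) * g * (x : G)⁻¹ ∈ P := h.le hg
      have h4 := P.mul_mem (P.mul_mem (P.inv_mem x.2) h3) x.2
      simpa [mul_assoc] using h4
    have := (hx ⟨g, hgP⟩).2 (by simpa [Subgroup.mem_subgroupOf] using hg)
    simpa [Subgroup.mem_subgroupOf] using this

/-- abstract Brauer pair -/
def IsBP (p : ℕ) (P : Subgroup G) (e : GA k G) : Prop := IsPGroup p P ∧ IsBlk (Cn P) e

/-- abstract Brauer pair of a block -/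
def IsBPOf (p : ℕ) (b : GA k G) (P : Subgroup G) (e : GA k G) : Prop :=
  IsBP p P e ∧ IsBlk ⊤ b ∧ br P b * e = e

/-- abstract normal inclusion -/
def NSub (p : ℕ) (Q : Subgroup G) (f : GA k G) (P : Subgroup G) (e : GA k G) : Prop :=
  IsBP p Q f ∧ IsBP p P e ∧ Q ≤ P ∧ P ≤ Nn Q ∧ FixBy P f ∧ br P f * e = e

/-- abstract inclusion -/
def BPLE (p : ℕ) (a b : Subgroup G × GA k G) : Prop :=
  Relation.ReflTransGen (fun a b : Subgroup G × GA k G => NSub p a.1 a.2 b.1 b.2) a b

variable {p : ℕ} [Fact p.Prime] [CharP k p]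

theorem br_idem {P : Subgroup G} (hP : IsPGroup p P) {z : GA k G} (h1 : FixBy P z)
    (hzz : z * z = z) : br P z * br P z = br P z := by
  rw [← br_mul hP h1 h1, hzz]

/-- evaluation dichotomy -/
theorem IsBP.br_mul_eq {P : Subgroup G} {e : GA k G} (he : IsBP p P e) {z : GA k G}
    (h1 : FixBy P z) (h2 : FixBy (Cn P) z) (hzz : z * z = z) :
    br P z * e = 0 ∨ br P z * e = e :=
  he.2.prim _ (inZ_br h2) (br_idem he.1 h1 hzz)

theorem fixBy_top_mono {H : Subgroup G} {z : GA k G} (h : FixBy ⊤ z) : FixBy H z :=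
  h.mono le_top

/-- Every Brauer pair belongs to a unique block. -/
theorem IsBP.existsUnique_block {P : Subgroup G} {e : GA k G} (he : IsBP p P e) :
    ∃! b, IsBPOf p b P e := by
  classical
  have hex : ∃ b ∈ blks k (⊤ : Subgroup G), br P b * e = e := by
    by_contra hcon
    push Not at hcon
    apply he.2.ne_zero
    calc e = br P 1 * e := by rw [br_one, one_mul]
      _ = ∑ b ∈ blks k (⊤ : Subgroup G), br P b * e := by
          rw [← sum_blks (k := k) (⊤ : Subgroup G), br_sum, Finset.sum_mul]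
      _ = 0 := Finset.sum_eq_zero (fun b hb => by
          have hb' := mem_blks.1 hb
          rcases he.br_mul_eq (fixBy_top_mono hb'.inZ.2) (fixBy_top_mono hb'.inZ.2) hb'.idem with h | h
          · exact h
          · exact absurd h (hcon b hb))
  obtain ⟨b, hb, hbe⟩ := hex
  refine ⟨b, ⟨he, mem_blks.1 hb, hbe⟩, ?_⟩
  rintro b' ⟨_, hb', hbe'⟩
  rcases hb'.eq_or_orth (mem_blks.1 hb) with h | h
  · exact h
  · exfalso
    apply he.2.ne_zero
    calc e = br P b' * (br P b * e) := by rw [hbe, hbe']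
      _ = br P (b' * b) * e := by
          rw [br_mul he.1 (fixBy_top_mono hb'.inZ.2) (fixBy_top_mono (mem_blks.1 hb).inZ.2), mul_assoc]
      _ = 0 := by rw [h, br_zero, zero_mul]

theorem cS_Cn_of_mem_Nn {Q : Subgroup G} {x : G} (hx : x ∈ Nn Q) : cS x (Cn Q) = Cn Q := by
  rw [cS_Cn, cS_eq_self_of_mem_Nn hx]

/-- Unique normal subpair. -/
theorem IsBP.existsUnique_nsub {P Q : Subgroup G} {e : GA k G} (he : IsBP p P e) (hQP : Q ≤ P)
    (hPN : P ≤ Nn Q) : ∃! f, NSub p Q f P e := by
  classical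
  have hQ : IsPGroup p Q := he.1.to_le hQP
  have hCC : Cn P ≤ Cn Q := Cn_anti hQP
  -- the sum of the Brauer images of the stable blocks is one
  have hsum : (1 : GA k G) = ∑ f ∈ (blks k (Cn Q)).filter (fun f => ∀ u : P, cj (u : G) f = f),
      br P f := by
    ext c
    by_cases hc : c ∈ Cn P
    · rw [sum_apply]
      have h1 := sum_eq_sum_fixed (p := p) (S := P) (Y := GA k G) (k := k) he.1
        (fun u f => cj (u : G) f) (fun f => by simp [one_cj])
        (fun a b f => by simp [cj_cj]) (blks k (Cn Q))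
        (fun u f hf => by
          have := (mem_blks.1 hf).cj (u : G)
          rw [cS_Cn_of_mem_Nn (hPN u.2)] at this
          exact mem_blks.2 this)
        (fun f => f c)
        (fun u f _ => by
          rw [cj_apply]
          congr 1
          have := mem_Cn.1 hc u u.2
          rw [mul_assoc, ← this, inv_mul_cancel_left])
      have h2 : (1 : GA k G) c = ∑ f ∈ blks k (Cn Q), f c := by
        rw [← sum_apply, sum_blks]
      rw [h2, h1]
      exact Finset.sum_congr rfl (fun f _ => (br_apply_mem f hc).symm)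
    · rw [(SuppOn.one (H := Cn P)) c hc,
        (SuppOn.sum (H := Cn P) _ _ (fun f _ => br_suppOn P f)) c hc]
  have hex : ∃ f ∈ (blks k (Cn Q)).filter (fun f => ∀ u : P, cj (u : G) f = f),
      br P f * e = e := by
    by_contra hcon
    push Not at hcon
    apply he.2.ne_zero
    calc e = 1 * e := (one_mul e).symm
      _ = ∑ f ∈ (blks k (Cn Q)).filter (fun f => ∀ u : P, cj (u : G) f = f), br P f * e := by
          rw [hsum, Finset.sum_mul]
      _ = 0 := Finset.sum_eq_zero (fun f hf => by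
          have hf' := Finset.mem_filter.1 hf
          have hfb := mem_blks.1 hf'.1
          rcases he.br_mul_eq (z := f) (fun u hu => hf'.2 ⟨u, hu⟩) (hfb.inZ.2.mono hCC) hfb.idem
            with h | h
          · exact h
          · exact absurd h (hcon f hf))
  obtain ⟨f, hf, hfe⟩ := hex
  have hf' := Finset.mem_filter.1 hf
  refine ⟨f, ⟨⟨hQ, mem_blks.1 hf'.1⟩, he, hQP, hPN, fun u hu => hf'.2 ⟨u, hu⟩, hfe⟩, ?_⟩
  rintro f' ⟨hf1, _, _, _, hf2, hf3⟩
  rcases hf1.2.eq_or_orth (mem_blks.1 hf'.1) with h | h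
  · exact h
  · exfalso
    apply he.2.ne_zero
    calc e = br P f' * (br P f * e) := by rw [hfe, hf3]
      _ = br P (f' * f) * e := by
          rw [br_mul he.1 hf2 (fun u hu => hf'.2 ⟨u, hu⟩), mul_assoc]
      _ = 0 := by rw [h, br_zero, zero_mul]

/-- one normal step preserves the block (upwards) -/
theorem NSub.isBPOf_up {P Q : Subgroup G} {e f b : GA k G} (h : NSub p Q f P e)
    (hb : IsBPOf p b Q f) : IsBPOf p b P e := by
  obtain ⟨hf, he, hQP, hPN, hfix, hfe⟩ := h
  refine ⟨he, hb.2.1, ?_⟩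
  have hbfix : FixBy P (br Q b) := (fixBy_top_mono hb.2.1.inZ.2 : FixBy P b).br hPN
  calc br P b * e = br P (br Q b) * (br P f * e) := by rw [br_br hQP, hfe]
    _ = br P (br Q b * f) * e := by rw [br_mul he.1 hbfix hfix, mul_assoc]
    _ = e := by rw [hb.2.2, hfe]

theorem NSub.isBPOf_iff {P Q : Subgroup G} {e f b : GA k G} (h : NSub p Q f P e) :
    IsBPOf p b P e ↔ IsBPOf p b Q f := by
  constructor
  · intro hb
    obtain ⟨b', hb', _⟩ := h.1.existsUnique_block
    have h2 := h.isBPOf_up hb'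
    have := h.2.1.existsUnique_block.unique hb h2
    rw [this]; exact hb'
  · exact h.isBPOf_up

theorem BPLE.isBPOf_iff {a c : Subgroup G × GA k G} {b : GA k G} (h : BPLE p a c) :
    IsBPOf p b c.1 c.2 ↔ IsBPOf p b a.1 a.2 := by
  induction h with
  | refl => exact Iff.rfl
  | tail _ h2 ih => exact (NSub.isBPOf_iff h2).trans ih

theorem BPLE.le {a c : Subgroup G × GA k G} (h : BPLE p a c) : a.1 ≤ c.1 := by
  induction h with
  | refl => exact le_rfl
  | tail _ h2 ih => exact ih.trans h2.2.2.1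

theorem BPLE.isBP {a c : Subgroup G × GA k G} (h : BPLE p a c) (hc : IsBP p c.1 c.2) :
    IsBP p a.1 a.2 := by
  induction h using Relation.ReflTransGen.head_induction_on with
  | refl => exact hc
  | head h1 _ _ => exact h1.1

theorem BPLE.isBP_up {a c : Subgroup G × GA k G} (h : BPLE p a c) (ha : IsBP p a.1 a.2) :
    IsBP p c.1 c.2 := by
  induction h with
  | refl => exact ha
  | tail _ h2 _ => exact h2.2.1

theorem NSub.eq_of_eq {Q : Subgroup G} {f e : GA k G} (h : NSub p Q f Q e) : f = e := by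
  rcases h.1.2.eq_or_orth h.2.1.2 with h1 | h1
  · exact h1
  · exfalso
    apply h.2.1.2.ne_zero
    have := h.2.2.2.2.2
    rw [br_eq_self h.1.2.inZ.1, h1] at this
    exact this.symm

theorem BPLE.cases_head {a c : Subgroup G × GA k G} (h : BPLE p a c) :
    a = c ∨ ∃ d : Subgroup G × GA k G, a.1 < d.1 ∧ NSub p a.1 a.2 d.1 d.2 ∧ BPLE p d c := by
  induction h using Relation.ReflTransGen.head_induction_on with
  | refl => left; rfl
  | @head a d h1 h2 ih =>
    by_cases hlt : a.1 = d.1
    · have : a = d := by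
        obtain ⟨a1, a2⟩ := a
        obtain ⟨d1, d2⟩ := d
        simp only at hlt h1
        subst hlt
        rw [h1.eq_of_eq]
      rw [this]; exact ih
    · right
      exact ⟨d, lt_of_le_of_ne h1.2.2.1 hlt, h1, h2⟩

/-- existence of subpairs -/
theorem IsBP.exists_subpair {P : Subgroup G} {e : GA k G} (he : IsBP p P e) :
    ∀ (n : ℕ) (Q : Subgroup G), Q ≤ P → Nat.card P - Nat.card Q = n →
      ∃ f, IsBlk (Cn Q) f ∧ BPLE p (Q, f) (P, e) := by
  intro n
  induction n using Nat.strong_induction_on with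
  | _ n ih =>
    intro Q hQP hn
    by_cases hQ : Q = P
    · subst hQ
      exact ⟨e, he.2, Relation.ReflTransGen.refl⟩
    · have hlt : Q < P := lt_of_le_of_ne hQP hQ
      have h1 := lt_inf_normalizer he.1 hlt
      have hc1 : Nat.card Q < Nat.card (P ⊓ Nn Q : Subgroup G) :=
        Set.ncard_lt_ncard (s := (Q : Set G)) (t := ((P ⊓ Nn Q : Subgroup G) : Set G))
          (by exact_mod_cast h1) (Set.toFinite _)
      have hc2 : Nat.card (P ⊓ Nn Q : Subgroup G) ≤ Nat.card P :=
        Subgroup.card_le_of_le inf_le_left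
      obtain ⟨f1, hf1, hle1⟩ := ih (Nat.card P - Nat.card (P ⊓ Nn Q : Subgroup G)) (by omega)
        (P ⊓ Nn Q) inf_le_left rfl
      have hbp1 : IsBP p (P ⊓ Nn Q) f1 := ⟨he.1.to_le inf_le_left, hf1⟩
      obtain ⟨f, hf, _⟩ := hbp1.existsUnique_nsub h1.le inf_le_right
      exact ⟨f, hf.1.2, Relation.ReflTransGen.head hf hle1⟩

theorem IsBP.exists_subpair' {P Q : Subgroup G} {e : GA k G} (he : IsBP p P e) (hQP : Q ≤ P) :
    ∃ f, IsBlk (Cn Q) f ∧ BPLE p (Q, f) (P, e) :=
  he.exists_subpair _ Q hQP rfl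

/-- if `(Q,f₁)` is normal in `(N,h)`, it is normal in every pair in between -/
theorem NSub.of_between {Q N : Subgroup G} {f1 h : GA k G} (h1 : NSub p Q f1 N h)
    {a : Subgroup G × GA k G} (ha : BPLE p a (N, h)) : Q ≤ a.1 → NSub p Q f1 a.1 a.2 := by
  induction ha using Relation.ReflTransGen.head_induction_on with
  | refl => intro _; exact h1
  | @head a c hac hc ih =>
    intro hQa
    have ih' := ih (hQa.trans hac.2.2.1)
    obtain ⟨hf1, hc2, hQc, hcN, hfix, hbr⟩ := ih'
    obtain ⟨ha1, _, hac1, hcNa, hfixa, hbra⟩ := hac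
    have hfixa1 : FixBy a.1 f1 := hfix.mono hac1
    have hCC : Cn a.1 ≤ Cn Q := Cn_anti hQa
    refine ⟨hf1, ha1, hQa, hac1.trans hcN, hfixa1, ?_⟩
    rcases ha1.br_mul_eq hfixa1 (hf1.2.inZ.2.mono hCC) hf1.2.idem with h0 | h0
    · exfalso
      apply hc2.2.ne_zero
      have hfx : FixBy c.1 (br a.1 f1) := hfix.br hcNa
      calc c.2 = br c.1 f1 * (br c.1 a.2 * c.2) := by rw [hbra, hbr]
        _ = br c.1 (br a.1 f1) * br c.1 a.2 * c.2 := by rw [br_br hac1, mul_assoc]
        _ = br c.1 (br a.1 f1 * a.2) * c.2 := by rw [br_mul hc2.1 hfx hfixa]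
        _ = 0 := by rw [h0, br_zero, zero_mul]
    · exact h0

/-- uniqueness of subpairs -/
theorem IsBP.subpair_unique {P : Subgroup G} {e : GA k G} (he : IsBP p P e) :
    ∀ (n : ℕ) (Q : Subgroup G) (f f' : GA k G), Nat.card P - Nat.card Q = n →
      BPLE p (Q, f) (P, e) → BPLE p (Q, f') (P, e) → f = f' := by
  intro n
  induction n using Nat.strong_induction_on with
  | _ n ih =>
    intro Q f f' hn hf hf'
    have hQP : Q ≤ P := hf.le
    rcases hf.cases_head with h1 | ⟨⟨R, g⟩, hQR, hn1, hle1⟩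
    · rcases hf'.cases_head with h2 | ⟨⟨R', g'⟩, hQR', _, hle2⟩
      · have e1 := congrArg Prod.snd h1
        have e2 := congrArg Prod.snd h2
        simp only at e1 e2
        rw [e1, e2]
      · exfalso
        have e1 := congrArg Prod.fst h1
        simp only at e1 hQR'
        have := hle2.le
        simp only at this
        rw [e1] at hQR'
        exact absurd this (not_le_of_gt hQR')
    · rcases hf'.cases_head with h2 | ⟨⟨R', g'⟩, hQR', hn2, hle2⟩
      · exfalso
        have e1 := congrArg Prod.fst h2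
        simp only at e1 hQR
        have := hle1.le
        simp only at this
        rw [e1] at hQR
        exact absurd this (not_le_of_gt hQR)
      · simp only at hQR hQR' hn1 hn2
        have hRP : R ≤ P := hle1.le
        have hRP' : R' ≤ P := hle2.le
        have hRN : R ≤ P ⊓ Nn Q := le_inf hRP hn1.2.2.2.1
        have hRN' : R' ≤ P ⊓ Nn Q := le_inf hRP' hn2.2.2.2.1
        obtain ⟨h, hh, hleN⟩ := he.exists_subpair' (Q := P ⊓ Nn Q) inf_le_left
        have hbpN : IsBP p (P ⊓ Nn Q) h := ⟨he.1.to_le inf_le_left, hh⟩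
        have card_lt : ∀ R : Subgroup G, Q < R → R ≤ P →
            Nat.card P - Nat.card R < n := by
          intro R hQR hRP
          have hc1 : Nat.card Q < Nat.card R :=
            Set.ncard_lt_ncard (s := (Q : Set G)) (t := (R : Set G))
              (by exact_mod_cast hQR) (Set.toFinite _)
          have hc2 : Nat.card R ≤ Nat.card P := Subgroup.card_le_of_le hRP
          omega
        obtain ⟨g1, _, hg1⟩ := hbpN.exists_subpair' hRN
        have eg : g1 = g := ih _ (card_lt R hQR hRP) R g1 g rfl (hg1.trans hleN) hle1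
        obtain ⟨g2, _, hg2⟩ := hbpN.exists_subpair' hRN'
        have eg' : g2 = g' := ih _ (card_lt R' hQR' hRP') R' g2 g' rfl (hg2.trans hleN) hle2
        subst eg eg'
        obtain ⟨f1, hf1, _⟩ := hbpN.existsUnique_nsub (le_inf hQP Subgroup.le_normalizer)
          inf_le_right
        have k1 := hf1.of_between hg1 hQR.le
        have k2 := hf1.of_between hg2 hQR'.le
        simp only at k1 k2
        have u1 := (hn1.2.1.existsUnique_nsub hQR.le hn1.2.2.2.1).unique hn1 k1
        have u2 := (hn2.2.1.existsUnique_nsub hQR'.le hn2.2.2.2.1).unique hn2 k2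
        rw [u1, u2]

/-- Alperin–Broué: unique subpair on each subgroup. -/
theorem IsBP.existsUnique_subpair {P Q : Subgroup G} {e : GA k G} (he : IsBP p P e)
    (hQP : Q ≤ P) : ∃! f, IsBlk (Cn Q) f ∧ BPLE p (Q, f) (P, e) := by
  obtain ⟨f, hf, hle⟩ := he.exists_subpair' hQP
  exact ⟨f, ⟨hf, hle⟩, fun f' hf' => he.subpair_unique _ Q f' f rfl hf'.2 hle⟩

/-- conjugation of pairs -/
theorem IsBP.cj {P : Subgroup G} {e : GA k G} (he : IsBP p P e) (x : G) :
    IsBP p (cS x P) (cj x e) := by
  refine ⟨he.1.map _, ?_⟩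
  have := he.2.cj x
  rwa [cS_Cn] at this

theorem cS_Nn (x : G) (P : Subgroup G) : cS x (Nn P) = Nn (cS x P) := by
  ext g
  rw [mem_cS, Subgroup.mem_normalizer_iff, Subgroup.mem_normalizer_iff]
  constructor
  · intro h u
    have := h (x⁻¹ * u * x)
    rw [mem_cS, mem_cS, this]
    simp only [mul_inv_rev, inv_inv, mul_assoc, mul_inv_cancel_left]
  · intro h u
    have := h (x * u * x⁻¹)
    rw [mem_cS, mem_cS] at this
    simp only [mul_assoc, inv_mul_cancel_left, inv_mul_cancel, mul_one] at this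
    rw [this]
    simp only [mul_inv_rev, inv_inv, mul_assoc]

theorem NSub.cj {P Q : Subgroup G} {e f : GA k G} (h : NSub p Q f P e) (x : G) :
    NSub p (cS x Q) (cj x f) (cS x P) (cj x e) := by
  obtain ⟨hf, he, hQP, hPN, hfix, hfe⟩ := h
  refine ⟨hf.cj x, he.cj x, cS_mono x hQP, ?_, hfix.cj x, ?_⟩
  · rw [← cS_Nn]; exact cS_mono x hPN
  · rw [← cj_br, ← cj_mul, hfe]

theorem BPLE.cj {a c : Subgroup G × GA k G} (h : BPLE p a c) (x : G) :
    BPLE p (cS x a.1, cj x a.2) (cS x c.1, cj x c.2) := by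
  induction h with
  | refl => exact Relation.ReflTransGen.refl
  | tail _ h2 ih => exact Relation.ReflTransGen.tail ih (h2.cj x)

theorem IsBPOf.cj {P : Subgroup G} {b e : GA k G} (h : IsBPOf p b P e) (x : G) :
    IsBPOf p b (cS x P) (cj x e) := by
  refine ⟨h.1.cj x, h.2.1, ?_⟩
  have h1 : GA.cj x b = b := h.2.1.inZ.2 x (Subgroup.mem_top x)
  have := congrArg (GA.cj x) h.2.2
  rwa [cj_mul, cj_br, h1] at this

end GA

end Cfsg.Agent.Lib.Helper80
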