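import Mathlib
import Cfsg.Agent.Lib.Helper80.GAPair
import Cfsg.Agent.Lib.Helper81.ClassSum

set_option autoImplicit false
set_option linter.unusedSectionVars false

namespace Cfsg.Agent.Lib.Helper80

open scoped BigOperators
open Cfsg Cfsg.Agent.Lib.Helper81

variable {p : ℕ} {M : Ideal AlgInt}

theorem locIdeal_isMaximal (hM : IsPModular p M) : (locIdeal hM).IsMaximal := by
  rw [Ideal.isMaximal_iff]
  refine ⟨not_memLocalIdeal_one hM, ?_⟩
  intro J x _ hx hxJ
  have hx' : ¬ MemLocalIdeal M (x : ℂ) := hx
  have hinv : MemLocalRing M (x : ℂ)⁻¹ := memLocalRing_inv x.2 hx'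
  have h1 : (⟨(x : ℂ)⁻¹, hinv⟩ : locRing hM) * x = 1 := by
    apply Subtype.ext
    show (x : ℂ)⁻¹ * (x : ℂ) = 1
    exact inv_mul_cancel₀ (ne_zero_of_not_memLocalIdeal hM hx')
  rw [← h1]
  exact J.mul_mem_left _ hxJ

/-- The residue field of the local ring at `M`. -/
def Kr (hM : IsPModular p M) : Type := locRing hM ⧸ locIdeal hM

noncomputable instance instFieldKr (hM : IsPModular p M) : Field (Kr hM) :=
  haveI := locIdeal_isMaximal hM
  Ideal.Quotient.field (locIdeal hM)

/-- the quotient map -/
noncomputable def resR (hM : IsPModular p M) : locRing hM →+* Kr hM :=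
  Ideal.Quotient.mk (locIdeal hM)

theorem resR_surjective (hM : IsPModular p M) : Function.Surjective (resR hM) :=
  Ideal.Quotient.mk_surjective

theorem resR_eq_zero_iff (hM : IsPModular p M) (x : locRing hM) :
    resR hM x = 0 ↔ MemLocalIdeal M (x : ℂ) :=
  Ideal.Quotient.eq_zero_iff_mem

instance instCharPKr (hM : IsPModular p M) : CharP (Kr hM) p := by
  rw [CharP.charP_iff_prime_eq_zero hM.1]
  have : ((p : locRing hM) : ℂ) = (p : ℂ) := by simp
  have h2 : resR hM (p : locRing hM) = 0 := by
    rw [resR_eq_zero_iff, this]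
    exact memLocalIdeal_p hM
  rw [map_natCast] at h2
  exact h2

/-- residue of a complex number (zero if it is not a local integer) -/
noncomputable def resC (hM : IsPModular p M) (z : ℂ) : Kr hM := by
  classical exact if h : MemLocalRing M z then resR hM ⟨z, h⟩ else 0

theorem resC_of_mem (hM : IsPModular p M) {z : ℂ} (h : MemLocalRing M z) :
    resC hM z = resR hM ⟨z, h⟩ := by
  unfold resC; rw [dif_pos h]

theorem resC_add (hM : IsPModular p M) {z w : ℂ} (hz : MemLocalRing M z) (hw : MemLocalRing M w) :
    resC hM (z + w) = resC hM z + resC hM w := by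
  rw [resC_of_mem hM hz, resC_of_mem hM hw, resC_of_mem hM (memLocalRing_add hM hz hw), ← map_add]
  rfl

theorem resC_mul (hM : IsPModular p M) {z w : ℂ} (hz : MemLocalRing M z) (hw : MemLocalRing M w) :
    resC hM (z * w) = resC hM z * resC hM w := by
  rw [resC_of_mem hM hz, resC_of_mem hM hw, resC_of_mem hM (memLocalRing_mul hM hz hw), ← map_mul]
  rfl

theorem resC_sub (hM : IsPModular p M) {z w : ℂ} (hz : MemLocalRing M z) (hw : MemLocalRing M w) :
    resC hM (z - w) = resC hM z - resC hM w := by
  rw [resC_of_mem hM hz, resC_of_mem hM hw, resC_of_mem hM (memLocalRing_sub hM hz hw), ← map_sub]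
  rfl

theorem resC_zero (hM : IsPModular p M) : resC hM 0 = 0 := by
  rw [resC_of_mem hM (memLocalRing_zero hM)]
  exact map_zero (resR hM)

theorem resC_one (hM : IsPModular p M) : resC hM 1 = 1 := by
  rw [resC_of_mem hM (memLocalRing_one hM)]
  exact map_one (resR hM)

theorem resC_sum (hM : IsPModular p M) {ι : Type*} (s : Finset ι) (f : ι → ℂ)
    (h : ∀ i ∈ s, MemLocalRing M (f i)) : resC hM (∑ i ∈ s, f i) = ∑ i ∈ s, resC hM (f i) := by
  classical
  induction s using Finset.induction_on with
  | empty => simp [resC_zero]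
  | insert a s ha ih =>
    rw [Finset.sum_insert ha, Finset.sum_insert ha,
      resC_add hM (h a (Finset.mem_insert_self a s))
        (memLocalRing_sum hM s f (fun i hi => h i (Finset.mem_insert_of_mem hi))),
      ih (fun i hi => h i (Finset.mem_insert_of_mem hi))]

theorem resC_eq_zero_iff (hM : IsPModular p M) {z : ℂ} (hz : MemLocalRing M z) :
    resC hM z = 0 ↔ MemLocalIdeal M z := by
  rw [resC_of_mem hM hz, resR_eq_zero_iff]

theorem resC_eq_iff (hM : IsPModular p M) {z w : ℂ} (hz : MemLocalRing M z)
    (hw : MemLocalRing M w) : resC hM z = resC hM w ↔ MemLocalIdeal M (z - w) := by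
  rw [← resC_eq_zero_iff hM (memLocalRing_sub hM hz hw), resC_sub hM hz hw, sub_eq_zero]

theorem resC_surjective (hM : IsPModular p M) (c : Kr hM) :
    ∃ z : ℂ, MemLocalRing M z ∧ resC hM z = c := by
  obtain ⟨x, hx⟩ := resR_surjective hM c
  exact ⟨x, x.2, by rw [resC_of_mem hM x.2]; exact hx⟩

/-- a section of the residue map -/
noncomputable def liftC (hM : IsPModular p M) (c : Kr hM) : ℂ := (resC_surjective hM c).choose

theorem liftC_mem (hM : IsPModular p M) (c : Kr hM) : MemLocalRing M (liftC hM c) :=
  (resC_surjective hM c).choose_spec.1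

theorem resC_liftC (hM : IsPModular p M) (c : Kr hM) : resC hM (liftC hM c) = c :=
  (resC_surjective hM c).choose_spec.2

/-- locally integral function -/
def RV (M : Ideal AlgInt) {G : Type*} (a : G → ℂ) : Prop := ∀ g, MemLocalRing M (a g)

/-- reduction of a function modulo the local ideal -/
noncomputable def red (hM : IsPModular p M) {G : Type*} (a : G → ℂ) : GA (Kr hM) G :=
  fun g => resC hM (a g)

section red
variable {G : Type*} (hM : IsPModular p M)

theorem red_apply (a : G → ℂ) (g : G) : red hM a g = resC hM (a g) := rfl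

theorem red_add {a b : G → ℂ} (ha : RV M a) (hb : RV M b) :
    red hM (a + b) = red hM a + red hM b := by
  ext g; exact resC_add hM (ha g) (hb g)

theorem red_sub {a b : G → ℂ} (ha : RV M a) (hb : RV M b) :
    red hM (a - b) = red hM a - red hM b := by
  ext g; exact resC_sub hM (ha g) (hb g)

theorem red_zero : red hM (0 : G → ℂ) = 0 := by
  ext g; exact resC_zero hM

theorem red_eq_iff {a b : G → ℂ} (ha : RV M a) (hb : RV M b) :
    red hM a = red hM b ↔ ∀ g, MemLocalIdeal M (a g - b g) := by
  constructor
  · intro h g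
    rw [← resC_eq_iff hM (ha g) (hb g)]
    exact congrArg (fun c : GA (Kr hM) G => c g) h
  · intro h
    ext g
    exact (resC_eq_iff hM (ha g) (hb g)).2 (h g)

theorem red_eq_zero_iff {a : G → ℂ} (ha : RV M a) :
    red hM a = 0 ↔ ∀ g, MemLocalIdeal M (a g) := by
  constructor
  · intro h g
    rw [← resC_eq_zero_iff hM (ha g)]
    exact congrArg (fun c : GA (Kr hM) G => c g) h
  · intro h
    ext g
    exact (resC_eq_zero_iff hM (ha g)).2 (h g)

include hM in
theorem RV.add {a b : G → ℂ} (ha : RV M a) (hb : RV M b) : RV M (a + b) :=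
  fun g => memLocalRing_add hM (ha g) (hb g)

include hM in
theorem RV.sub {a b : G → ℂ} (ha : RV M a) (hb : RV M b) : RV M (a - b) :=
  fun g => memLocalRing_sub hM (ha g) (hb g)

include hM in
theorem RV.smul {c : ℂ} {a : G → ℂ} (hc : MemLocalRing M c) (ha : RV M a) : RV M (c • a) :=
  fun g => memLocalRing_mul hM hc (ha g)

theorem red_smul {c : ℂ} {a : G → ℂ} (hc : MemLocalRing M c) (ha : RV M a) :
    red hM (c • a) = resC hM c • red hM a := by
  ext g; exact resC_mul hM hc (ha g)

variable [Group G] [Fintype G]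

include hM in
theorem RV.conv {a b : G → ℂ} (ha : RV M a) (hb : RV M b) : RV M (conv a b) :=
  conv_memLocalRing hM ha hb

theorem red_conv {a b : G → ℂ} (ha : RV M a) (hb : RV M b) :
    red hM (conv a b) = red hM a * red hM b := by
  ext g
  rw [red_apply, GA.mul_apply]
  unfold Helper81.conv
  rw [resC_sum hM _ _ (fun x _ => memLocalRing_mul hM (ha x) (hb _))]
  exact Finset.sum_congr rfl (fun x _ => resC_mul hM (ha x) (hb _))

/-- the identity of the complex group algebra -/
noncomputable def dl : G → ℂ := fun g => by classical exact if g = 1 then 1 else 0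

theorem dl_apply [DecidableEq G] (g : G) : (dl : G → ℂ) g = if g = 1 then 1 else 0 := by
  unfold dl; congr

include hM in
theorem RV_dl : RV M (dl : G → ℂ) := fun g => by
  classical
  rw [dl_apply]
  split_ifs
  · exact memLocalRing_one hM
  · exact memLocalRing_zero hM

theorem red_dl : red hM (dl : G → ℂ) = 1 := by
  classical
  ext g
  rw [red_apply, dl_apply, GA.one_apply]
  split_ifs
  · exact resC_one hM
  · exact resC_zero hM

theorem dl_classFunction : IsClassFunction G (dl : G → ℂ) := fun g h => by
  classical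
  rw [dl_apply, dl_apply]
  congr 1
  rw [eq_iff_iff]
  constructor
  · intro h1
    have : h⁻¹ * (h * g * h⁻¹) * h = h⁻¹ * 1 * h := by rw [h1]
    simpa [mul_assoc] using this
  · intro h1; rw [h1]; simp

theorem omega_dl {χ : G → ℂ} (hχ : χ 1 ≠ 0) : omega χ dl = 1 := by
  classical
  unfold omega
  rw [Finset.sum_eq_single 1]
  · rw [dl_apply, if_pos rfl, one_mul, div_self hχ]
  · intro g _ hg
    rw [dl_apply, if_neg hg, zero_mul, zero_div]
  · intro h; exact absurd (Finset.mem_univ _) h

end red

end Cfsg.Agent.Lib.Helper80
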