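import Cfsg.Agent.Lib.Helper82.Ortho

/-! Brauer--Reynolds ladder: the arithmetic alternative and the principal block data. -/

set_option autoImplicit false

namespace Cfsg.Agent.Lib.Helper80.BR

open Cfsg

/-- `n = (h u p + u^2 + u + h) / (u + 1)` for positive integers `h`, `u`. -/
def FForm (p n : ℕ) : Prop :=
  ∃ h u : ℕ, 0 < h ∧ 0 < u ∧ n * (u + 1) = h * u * p + u ^ 2 + u + h

/-- The principal block of a perfect group with a Sylow subgroup `P` of order `p`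
(`X` non-exceptional characters with signs `s`, `Y` exceptional characters with sign `ε`). -/
structure Dat {G : Type*} [Group G] (p : ℕ) (P : Subgroup G) (X Y : Finset (IrrCharacter G))
    (s : IrrCharacter G → ℤ) (ε : ℤ) : Prop where
  disj : Disjoint X Y
  cardX : X.card = (Subgroup.centralizer (P : Set G)).relIndex (Subgroup.normalizer (P : Set G))
  cardY : Y.card * X.card = p - 1
  triv : Cfsg.Agent.Lib.Helper82.trivIrr G ∈ X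
  sgn : ∀ χ ∈ X, s χ = 1 ∨ s χ = -1
  eps : ε = 1 ∨ ε = -1
  congX : ∀ χ ∈ X, (charDegree (χ : G → ℂ) : ℤ) ≡ s χ [ZMOD (p : ℤ)]
  congY : ∀ θ ∈ Y, (charDegree (θ : G → ℂ) : ℤ) ≡ ε * (X.card : ℤ) [ZMOD (p : ℤ)]
  valX : ∀ χ ∈ X, ∀ x ∈ P, x ≠ 1 → ∀ y ∈ Subgroup.centralizer (P : Set G), ¬ p ∣ orderOf y →
    (χ : G → ℂ) (x * y) = (s χ : ℂ)
  eqY : ∀ θ ∈ Y, ∀ θ' ∈ Y, ∀ g : G, ¬ p ∣ orderOf g → (θ : G → ℂ) g = (θ' : G → ℂ) g
  rel : ∀ θ ∈ Y, ∀ g : G, ¬ p ∣ orderOf g →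
    (ε : ℂ) * (θ : G → ℂ) g = ∑ χ ∈ X, (s χ : ℂ) * (χ : G → ℂ) g
  sumY : ∀ x ∈ P, x ≠ 1 → ∑ θ ∈ Y, (θ : G → ℂ) x = -(ε : ℂ)
  out : (∀ y ∈ Subgroup.centralizer (P : Set G), ¬ p ∣ orderOf y → y = 1) →
    ∀ ψ : IrrCharacter G, ψ ∉ X → ψ ∉ Y →
      p ∣ charDegree (ψ : G → ℂ) ∧ ∀ g : G, p ∣ orderOf g → (ψ : G → ℂ) g = 0

end Cfsg.Agent.Lib.Helper80.BR
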