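import Mathlib
import Cfsg.Agent.Lib.Helper80.GAPair

set_option autoImplicit false
set_option linter.unusedSectionVars false

namespace Cfsg.Agent.Lib.Helper80

open scoped BigOperators

namespace GA

variable {k : Type*} {G : Type*} [Field k] [Group G] [Fintype G]
variable {p : ℕ} [Fact p.Prime] [CharP k p]

theorem algebraMap_apply_one (c : k) : (algebraMap k (GA k G) c) 1 = c := by
  classical
  rw [Algebra.algebraMap_eq_smul_one, smul_apply, one_apply, if_pos rfl, mul_one]

instance instCharPGA : CharP (GA k G) p := by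
  apply charP_of_injective_algebraMap (R := k)
  intro a b h
  rw [← algebraMap_apply_one (G := G) a, h, algebraMap_apply_one]

theorem of_pow (x : G) (n : ℕ) : (of x : GA k G) ^ n = of (x ^ n) := by
  induction n with
  | zero => simp [of_one]
  | succ n ih => rw [pow_succ, pow_succ, ih, of_mul_of]

/-- `x - 1` is nilpotent for a `p`-element `x` -/
theorem of_sub_one_pow {x : G} {j : ℕ} (hx : x ^ p ^ j = 1) :
    ((of x : GA k G) - 1) ^ p ^ j = 0 := by
  rw [sub_pow_char_pow_of_commute p j (Commute.one_right _), of_pow, hx, of_one, one_pow, sub_self]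

/-- stabiliser (under left multiplication, inside `P`) of a vector -/
def lstab (P : Subgroup G) (v : GA k G) : Subgroup G where
  carrier := {u | u ∈ P ∧ of u * v = v}
  mul_mem' := by
    rintro a b ⟨ha, ha'⟩ ⟨hb, hb'⟩
    exact ⟨P.mul_mem ha hb, by rw [← of_mul_of, mul_assoc, hb', ha']⟩
  one_mem' := ⟨P.one_mem, by rw [of_one, one_mul]⟩
  inv_mem' := by
    rintro a ⟨ha, ha'⟩
    refine ⟨P.inv_mem ha, ?_⟩
    calc of a⁻¹ * v = of a⁻¹ * (of a * v) := by rw [ha']
      _ = v := by rw [← mul_assoc, of_inv_mul_of, one_mul]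

theorem mem_lstab {P : Subgroup G} {v : GA k G} {u : G} :
    u ∈ lstab P v ↔ u ∈ P ∧ of u * v = v := Iff.rfl

/-- a `p`-group acting by left multiplication on a nonzero invariant subspace fixes a nonzero
vector -/
theorem exists_fixed_vector {P : Subgroup G} (hP : IsPGroup p P) (W : Submodule k (GA k G))
    (hW : ∀ u ∈ P, ∀ v ∈ W, of u * v ∈ W) :
    ∀ (n : ℕ) (v : GA k G), v ∈ W → v ≠ 0 → Nat.card P - Nat.card (lstab P v) = n →
      ∃ v' ∈ W, v' ≠ 0 ∧ ∀ u ∈ P, of u * v' = v' := by
  intro n
  induction n using Nat.strong_induction_on with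
  | _ n ih =>
    intro v hv hv0 hn
    have hle : lstab P v ≤ P := fun u hu => hu.1
    by_cases heq : lstab P v = P
    · exact ⟨v, hv, hv0, fun u hu => (by rw [heq]; exact hu : u ∈ lstab P v).2⟩
    · have hlt : lstab P v < P := lt_of_le_of_ne hle heq
      obtain ⟨z, hz, hzQ⟩ := SetLike.exists_of_lt (lt_inf_normalizer hP hlt)
      have hzP : z ∈ P := (Subgroup.mem_inf.1 hz).1
      have hzN : z ∈ Nn (lstab P v) := (Subgroup.mem_inf.1 hz).2
      obtain ⟨j, hj⟩ := hP ⟨z, hzP⟩
      have hj' : z ^ p ^ j = 1 := by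
        have := congrArg (fun t : P => (t : G)) hj
        simpa using this
      obtain ⟨y, hy⟩ : ∃ y : GA k G, y = of z - 1 := ⟨_, rfl⟩
      have hynil : y ^ p ^ j = 0 := by rw [hy]; exact of_sub_one_pow hj'
      have hex : ∃ i : ℕ, y ^ i * v = 0 := ⟨p ^ j, by rw [hynil, zero_mul]⟩
      classical
      obtain ⟨i0, hi0⟩ : ∃ i0, i0 = Nat.find hex := ⟨_, rfl⟩
      have hi0spec : y ^ i0 * v = 0 := hi0 ▸ Nat.find_spec hex
      have hi0pos : i0 ≠ 0 := by
        intro h0
        rw [h0, pow_zero, one_mul] at hi0spec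
        exact hv0 hi0spec
      obtain ⟨i1, hi1⟩ : ∃ i1, i0 = i1 + 1 := Nat.exists_eq_succ_of_ne_zero hi0pos
      have hne : y ^ i1 * v ≠ 0 := by
        have := Nat.find_min hex (m := i1) (by omega)
        exact this
      -- invariance of the relevant spaces under `y`
      have hyW : ∀ a ∈ W, y * a ∈ W := by
        intro a ha
        rw [hy, sub_mul, one_mul]
        exact W.sub_mem (hW z hzP a ha) ha
      have hyQ : ∀ a : GA k G, (∀ u ∈ lstab P v, of u * a = a) →
          ∀ u ∈ lstab P v, of u * (y * a) = y * a := by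
        intro a ha u hu
        have hu' : z⁻¹ * u * z ∈ lstab P v := by
          have := (Subgroup.mem_normalizer_iff.1 (Subgroup.inv_mem _ hzN)) u
          simpa using this.1 hu
        have e1 : (of u * of z : GA k G) = of z * of (z⁻¹ * u * z) := by
          rw [of_mul_of, of_mul_of]; congr 1; group
        rw [hy, sub_mul, one_mul, mul_sub, ← mul_assoc, e1, mul_assoc, ha _ hu', ha u hu]
      have hpowW : ∀ i : ℕ, y ^ i * v ∈ W ∧ ∀ u ∈ lstab P v, of u * (y ^ i * v) = y ^ i * v := by
        intro i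
        induction i with
        | zero => simp only [pow_zero, one_mul]; exact ⟨hv, fun u hu => hu.2⟩
        | succ i ihi =>
          rw [pow_succ', mul_assoc]
          exact ⟨hyW _ ihi.1, hyQ _ ihi.2⟩
      have hzfix : of z * (y ^ i1 * v) = y ^ i1 * v := by
        have : y * (y ^ i1 * v) = 0 := by rw [← mul_assoc, ← pow_succ', ← hi1, hi0spec]
        rw [hy, sub_mul, one_mul, sub_eq_zero] at this
        rw [← hy] at this
        exact this
      have hlt2 : lstab P v < lstab P (y ^ i1 * v) := by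
        refine lt_of_le_of_ne (fun u hu => ⟨hu.1, (hpowW i1).2 u hu⟩) ?_
        intro h
        apply hzQ
        rw [h]
        exact ⟨hzP, hzfix⟩
      have hc1 : Nat.card (lstab P v) < Nat.card (lstab P (y ^ i1 * v)) :=
        Set.ncard_lt_ncard (s := (lstab P v : Set G)) (t := (lstab P (y ^ i1 * v) : Set G))
          (by exact_mod_cast hlt2) (Set.toFinite _)
      have hc2 : Nat.card (lstab P (y ^ i1 * v)) ≤ Nat.card P :=
        Subgroup.card_le_of_le (fun u hu => hu.1)
      exact ih _ (by omega) (y ^ i1 * v) (hpowW i1).1 hne rfl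

/-- Central elements of `kH` vanishing on the centraliser of a normal `p`-subgroup kill the
vectors fixed by this subgroup. -/
theorem mul_eq_zero_of_fixed {H P : Subgroup G} (hP : IsPGroup p P) (hPH : P ≤ H) (hHN : H ≤ Nn P)
    {n : GA k G} (hn : InZ H n) (hbr : br P n = 0) {v : GA k G}
    (hv : ∀ u ∈ P, of u * v = v) : n * v = 0 := by
  classical
  have hv' : ∀ u ∈ P, ∀ g, v (u * g) = v g := by
    intro u hu g
    have := congrArg (fun c : GA k G => c g) (hv u⁻¹ (P.inv_mem hu))
    simpa [of_mul_apply] using this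
  ext g
  rw [mul_apply, sum_conj_invariant hP (fun x => n x * v (x⁻¹ * g))]
  · refine Finset.sum_eq_zero (fun x _ => ?_)
    split_ifs with hx
    · have : n x = 0 := by
        have := congrArg (fun c : GA k G => c x) hbr
        simpa [br_apply_mem _ hx] using this
      rw [this, zero_mul]
    · rfl
  · intro u hu x
    rw [hn.2.apply (hPH hu)]
    by_cases hx : x ∈ H
    · congr 1
      have h1 : x⁻¹ * u⁻¹ * x ∈ P := by
        have := (Subgroup.mem_normalizer_iff.1 (Subgroup.inv_mem _ (hHN hx))) u⁻¹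
        simpa using this.1 (P.inv_mem hu)
      have e : (u * x * u⁻¹)⁻¹ * g = u * ((x⁻¹ * u⁻¹ * x) * (x⁻¹ * g)) := by group
      rw [e, hv' u hu, hv' _ h1]
    · rw [hn.1 x hx, zero_mul, zero_mul]

/-- Central elements of `kH` vanishing on the centraliser of a normal `p`-subgroup of `H` are
nilpotent. -/
theorem isNilpotent_of_br_eq_zero {H P : Subgroup G} (hP : IsPGroup p P) (hPH : P ≤ H)
    (hHN : H ≤ Nn P) {n : GA k G} (hn : InZ H n) (hbr : br P n = 0) : IsNilpotent n := by
  let f : ℕ →o Submodule k (GA k G) :=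
    { toFun := fun i => LinearMap.ker (LinearMap.mulLeft k (n ^ i))
      monotone' := by
        apply monotone_nat_of_le_succ
        intro i a ha
        rw [LinearMap.mem_ker, LinearMap.mulLeft_apply] at ha ⊢
        rw [pow_succ', mul_assoc, ha, mul_zero] }
  obtain ⟨m, hm⟩ := monotone_stabilizes_iff_noetherian.mpr inferInstance f
  have hker : ∀ a : GA k G, n ^ (m + 1) * a = 0 → n ^ m * a = 0 := by
    intro a ha
    have h1 : a ∈ f (m + 1) := by
      show a ∈ LinearMap.ker (LinearMap.mulLeft k (n ^ (m + 1)))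
      rw [LinearMap.mem_ker, LinearMap.mulLeft_apply, ha]
    rw [← hm (m + 1) (by omega)] at h1
    exact h1
  refine ⟨m, ?_⟩
  by_contra hne
  have hcomm : ∀ u ∈ P, ∀ i : ℕ, of u * n ^ i = n ^ i * of u := by
    intro u hu i
    exact (cj_eq_iff_commute u _).1 ((hn.2.pow i) u (hPH hu))
  obtain ⟨v, hvW, hv0, hvfix⟩ := exists_fixed_vector hP
    (LinearMap.range (LinearMap.mulLeft k (n ^ m)))
    (by
      rintro u hu _ ⟨a, rfl⟩
      exact ⟨of u * a, by simp only [LinearMap.mulLeft_apply]; rw [← mul_assoc, ← hcomm u hu, mul_assoc]⟩)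
    _ (n ^ m) ⟨1, by simp⟩ hne rfl
  obtain ⟨a, rfl⟩ := hvW
  simp only [LinearMap.mulLeft_apply] at hv0 hvfix
  apply hv0
  apply hker
  rw [pow_succ', mul_assoc]
  exact mul_eq_zero_of_fixed hP hPH hHN hn hbr hvfix

/-- two commuting idempotents whose difference is nilpotent are equal -/
theorem eq_of_idem_of_nilpotent_sub {z z0 : GA k G} (hz : z * z = z) (hz0 : z0 * z0 = z0)
    (hc : z * z0 = z0 * z) (hn : IsNilpotent (z - z0)) : z = z0 := by
  have h3 : (z - z0) * ((z - z0) * (z - z0)) = z - z0 := by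
    have e1 : (z - z0) * (z - z0) = z + z0 - 2 * (z * z0) := by
      rw [mul_sub, sub_mul, sub_mul, hz, hz0, ← hc, two_mul]; abel
    rw [e1]
    have e2 : z * (z * z0) = z * z0 := by rw [← mul_assoc, hz]
    have e3 : z0 * (z * z0) = z * z0 := by rw [← mul_assoc, ← hc, mul_assoc, hz0]
    rw [sub_mul, mul_sub, mul_sub, mul_add, mul_add, hz, hz0, ← hc]
    have e4 : z * (2 * (z * z0)) = 2 * (z * z0) := by
      rw [two_mul, mul_add, e2]
    have e5 : z0 * (2 * (z * z0)) = 2 * (z * z0) := by
      rw [two_mul, mul_add, e3]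
    rw [e4, e5]; abel
  obtain ⟨m, hm⟩ := hn
  have hpow : ∀ j : ℕ, (z - z0) ^ (2 * j + 1) = z - z0 := by
    intro j
    induction j with
    | zero => simp
    | succ j ih =>
      have : 2 * (j + 1) + 1 = (2 * j + 1) + 2 := by ring
      rw [this, pow_add, ih, pow_two, h3]
  have : z - z0 = 0 := by
    rw [← hpow m]
    have : 2 * m + 1 = m + (m + 1) := by ring
    rw [this, pow_add, hm, zero_mul]
  exact sub_eq_zero.1 this

/-- Idempotents of the centre of `kH` are supported on the centraliser of any normal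
`p`-subgroup of `H`. -/
theorem br_eq_self_of_idem {H P : Subgroup G} (hP : IsPGroup p P) (hPH : P ≤ H)
    (hHN : H ≤ Nn P) {z : GA k G} (hz : InZ H z) (hzz : z * z = z) : br P z = z := by
  have h0 : InZ H (br P z) := by
    refine ⟨fun g hg => ?_, hz.2.br hHN⟩
    by_cases hc : g ∈ Cn P
    · rw [br_apply_mem _ hc, hz.1 g hg]
    · exact br_apply_not_mem _ hc
  have hidem := br_idem hP (hz.2.mono hPH) hzz
  have hnil : IsNilpotent (z - br P z) :=
    isNilpotent_of_br_eq_zero hP hPH hHN (hz.sub h0)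
      (by rw [br_sub, br_br le_rfl, sub_self])
  exact (eq_of_idem_of_nilpotent_sub hzz hidem (hz.comm h0) hnil).symm

end GA

end Cfsg.Agent.Lib.Helper80
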