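import Mathlib
import Cfsg.Agent.Lib.Helper80.GANil
import Cfsg.Agent.Lib.Helper80.Cores

set_option autoImplicit false
set_option linter.unusedSectionVars false

namespace Cfsg.Agent.Lib.Helper80

open scoped BigOperators Pointwise

namespace GA

variable {k : Type*} {G : Type*} [Field k] [Group G] [Fintype G]

/-- `z` is supported on elements whose centralising `p`-subgroups (in `H`) are `H`-conjugate into
`D` -/
def ZD (p : ℕ) (H D : Subgroup G) (z : GA k G) : Prop :=
  ∀ g, z g ≠ 0 → ∀ S : Subgroup G, S ≤ H → IsPGroup p S → (∀ s ∈ S, s * g = g * s) →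
    ∃ x ∈ H, S ≤ cS x D

/-- algebraic defect group of a block idempotent of `kH` -/
structure IsDef (p : ℕ) (H : Subgroup G) (b : GA k G) (D : Subgroup G) : Prop where
  le : D ≤ H
  pgroup : IsPGroup p D
  zd : ZD p H D b
  br_ne : br D b ≠ 0

theorem card_cS (x : G) (D : Subgroup G) : Nat.card (cS x D) = Nat.card D :=
  Subgroup.card_map_of_injective (MulAut.conj x).injective

theorem cS_le_of_mem {H D : Subgroup G} {x : G} (hx : x ∈ H) (hD : D ≤ H) : cS x D ≤ H := by
  intro g hg
  have h1 := hD (mem_cS.1 hg)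
  have := H.mul_mem (H.mul_mem hx h1) (H.inv_mem hx)
  simpa [mul_assoc] using this

/-- class sum -/
noncomputable def cls (H : Subgroup G) (g : G) : GA k G :=
  fun y => by classical exact if ∃ x ∈ H, y = x * g * x⁻¹ then 1 else 0

theorem cls_apply_of (H : Subgroup G) (g : G) {y : G} (h : ∃ x ∈ H, y = x * g * x⁻¹) :
    (cls H g : GA k G) y = 1 := by
  exact if_pos h

theorem cls_apply_not (H : Subgroup G) (g : G) {y : G} (h : ¬ ∃ x ∈ H, y = x * g * x⁻¹) :
    (cls H g : GA k G) y = 0 := by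
  exact if_neg h

theorem cls_inZ {H : Subgroup G} {g : G} (hg : g ∈ H) : InZ H (cls H g : GA k G) := by
  constructor
  · intro y hy
    apply cls_apply_not
    rintro ⟨x, hx, rfl⟩
    exact hy (H.mul_mem (H.mul_mem hx hg) (H.inv_mem hx))
  · rw [fixBy_iff]
    intro u hu y
    by_cases h : ∃ x ∈ H, y = x * g * x⁻¹
    · rw [cls_apply_of H g h]
      obtain ⟨x, hx, rfl⟩ := h
      exact cls_apply_of H g ⟨u * x, H.mul_mem hu hx, by group⟩
    · rw [cls_apply_not H g h]
      apply cls_apply_not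
      rintro ⟨x, hx, hxy⟩
      apply h
      refine ⟨u⁻¹ * x, H.mul_mem (H.inv_mem hu) hx, ?_⟩
      have : y = u⁻¹ * (u * y * u⁻¹) * u := by group
      rw [this, hxy]; group

open Classical in
/-- induction principle: a central element is a combination of class sums -/
theorem inZ_induction {H : Subgroup G} (N : GA k G → Prop) (h0 : N 0)
    (hadd : ∀ a b, N a → N b → N (a + b)) :
    ∀ (n : ℕ) (z : GA k G), InZ H z → (∀ g, z g ≠ 0 → N (z g • cls H g)) →
      (Finset.univ.filter (fun g => z g ≠ 0)).card = n → N z := by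
  classical
  intro n
  induction n using Nat.strong_induction_on with
  | _ n ih =>
    intro z hz hN hn
    by_cases hz0 : z = 0
    · rw [hz0]; exact h0
    · have : ∃ g, z g ≠ 0 := by
        by_contra hcon
        push Not at hcon
        exact hz0 (ext hcon)
      obtain ⟨g, hg⟩ := this
      have hgH : g ∈ H := by
        by_contra h; exact hg (hz.1 g h)
      obtain ⟨z', hz'⟩ : ∃ z', z' = z - z g • cls H g := ⟨_, rfl⟩
      have hz'Z : InZ H z' := hz' ▸ hz.sub ((cls_inZ hgH).smul _)
      have hval : ∀ y, (∃ x ∈ H, y = x * g * x⁻¹) → z' y = 0 := by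
        intro y hy
        rw [hz', sub_apply, smul_apply, cls_apply_of H g hy, mul_one]
        obtain ⟨x, hx, rfl⟩ := hy
        rw [hz.2.apply hx, sub_self]
      have hval2 : ∀ y, (¬ ∃ x ∈ H, y = x * g * x⁻¹) → z' y = z y := by
        intro y hy
        rw [hz', sub_apply, smul_apply, cls_apply_not H g hy, mul_zero, sub_zero]
      have hsub : Finset.univ.filter (fun y => z' y ≠ 0) ⊂ Finset.univ.filter (fun y => z y ≠ 0) := by
        rw [Finset.ssubset_iff_of_subset]
        · refine ⟨g, by simpa using hg, ?_⟩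
          simp only [Finset.mem_filter, Finset.mem_univ, true_and, not_not]
          exact hval g ⟨1, H.one_mem, by simp⟩
        · intro y hy
          simp only [Finset.mem_filter, Finset.mem_univ, true_and] at hy ⊢
          by_cases h : ∃ x ∈ H, y = x * g * x⁻¹
          · exact absurd (hval y h) hy
          · rwa [hval2 y h] at hy
      have hN' : N z' := by
        refine ih _ (by rw [← hn]; exact Finset.card_lt_card hsub) z' hz'Z ?_ rfl
        intro y hy
        by_cases h : ∃ x ∈ H, y = x * g * x⁻¹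
        · exact absurd (hval y h) hy
        · rw [hval2 y h] at hy ⊢
          exact hN y hy
      have : z = z' + z g • cls H g := by rw [hz']; abel
      rw [this]
      exact hadd _ _ hN' (hN g hg)

/-- Sylow subgroups of a subgroup, phrased inside `G` -/
theorem exists_sylow_in {p : ℕ} [Fact p.Prime] (L : Subgroup G) :
    ∃ D : Subgroup G, D ≤ L ∧ IsPGroup p D ∧
      ∀ S : Subgroup G, S ≤ L → IsPGroup p S → ∃ x ∈ L, S ≤ cS x D := by
  obtain ⟨P⟩ : Nonempty (Sylow p L) := inferInstance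
  refine ⟨(P : Subgroup L).map L.subtype, ?_, P.2.map _, ?_⟩
  · rintro _ ⟨x, _, rfl⟩; exact x.2
  · intro S hSL hS
    have hS' : IsPGroup p (S.subgroupOf L) :=
      hS.comap_of_injective L.subtype L.subtype_injective
    obtain ⟨Q, hQ⟩ := hS'.exists_le_sylow
    obtain ⟨x, hx⟩ := MulAction.exists_smul_eq L P Q
    refine ⟨x, x.2, ?_⟩
    intro s hs
    have h1 : (⟨s, hSL hs⟩ : L) ∈ Q := hQ (Subgroup.mem_subgroupOf.2 hs)
    rw [← hx] at h1
    have h2 : (⟨s, hSL hs⟩ : L) ∈ MulAut.conj x • (P : Subgroup L) := h1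
    rw [mem_conj_smul] at h2
    rw [mem_cS]
    exact ⟨_, h2, by simp⟩


variable {p : ℕ} [Fact p.Prime] [CharP k p]

/-- the elements with defect in `D` form an ideal -/
theorem ZD.mul {H D : Subgroup G} {z w : GA k G} (hzd : ZD p H D z) (hz : FixBy H z)
    (hw : FixBy H w) : ZD p H D (z * w) := by
  classical
  intro g hg S hSH hS hSg
  by_contra hcon
  apply hg
  rw [mul_apply, sum_conj_invariant hS (fun x => z x * w (x⁻¹ * g))]
  · refine Finset.sum_eq_zero (fun x _ => ?_)
    split_ifs with hx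
    · have : z x = 0 := by
        by_contra hzx
        exact hcon (hzd x hzx S hSH hS (fun s hs => mem_Cn.1 hx s hs))
      rw [this, zero_mul]
    · rfl
  · intro u hu x
    rw [hz.apply (hSH hu)]
    congr 1
    have h1 : (u * x * u⁻¹)⁻¹ * g = u * (x⁻¹ * g) * u⁻¹ := by
      have := hSg u hu
      have h2 : u⁻¹ * g = g * u⁻¹ := by
        rw [eq_mul_inv_iff_mul_eq, mul_assoc, ← this, inv_mul_cancel_left]
      simp only [mul_inv_rev, inv_inv, mul_assoc, h2]
    rw [h1, hw.apply (hSH hu)]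

theorem ZD.le_conj_of_br_ne {H D Q : Subgroup G} {z : GA k G} (hzd : ZD p H D z) (hQH : Q ≤ H)
    (hQ : IsPGroup p Q) (hbr : br Q z ≠ 0) : ∃ x ∈ H, Q ≤ cS x D := by
  have : ∃ g, br Q z g ≠ 0 := by
    by_contra hcon
    push Not at hcon
    exact hbr (ext hcon)
  obtain ⟨g, hg⟩ := this
  have hgC : g ∈ Cn Q := by
    by_contra h; exact hg (br_apply_not_mem _ h)
  rw [br_apply_mem _ hgC] at hg
  exact hzd g hg Q hQH hQ (fun s hs => mem_Cn.1 hgC s hs)

theorem IsDef.exists_conj {H D D' : Subgroup G} {b : GA k G} (h : IsDef p H b D)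
    (h' : IsDef p H b D') : ∃ x ∈ H, D' = cS x D := by
  obtain ⟨x, hx, hle⟩ := h.zd.le_conj_of_br_ne h'.le h'.pgroup h'.br_ne
  obtain ⟨y, _, hle'⟩ := h'.zd.le_conj_of_br_ne h.le h.pgroup h.br_ne
  refine ⟨x, hx, ?_⟩
  apply Subgroup.eq_of_le_of_card_ge hle
  rw [card_cS]
  calc Nat.card D ≤ Nat.card (cS y D') := Subgroup.card_le_of_le hle'
    _ = Nat.card D' := card_cS y D'

theorem IsDef.card_eq {H D D' : Subgroup G} {b : GA k G} (h : IsDef p H b D)
    (h' : IsDef p H b D') : Nat.card D' = Nat.card D := by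
  obtain ⟨x, _, rfl⟩ := h.exists_conj h'
  exact card_cS x D

theorem IsDef.conj {H D : Subgroup G} {b : GA k G} (h : IsDef p H b D) (hb : FixBy H b) {x : G}
    (hx : x ∈ H) : IsDef p H b (cS x D) where
  le := cS_le_of_mem hx h.le
  pgroup := h.pgroup.map _
  zd := fun g hg S hSH hS hSg => by
    obtain ⟨y, hy, hle⟩ := h.zd g hg S hSH hS hSg
    refine ⟨y * x⁻¹, H.mul_mem hy (H.inv_mem hx), ?_⟩
    rw [cS_cS, inv_mul_cancel_right]
    exact hle
  br_ne := fun h0 => by
    apply h.br_ne
    have : GA.cj x (br D b) = 0 := by rw [cj_br, hb x hx, h0]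
    exact (cj_eq_zero_iff x _).1 this

theorem isNilpotent_smul {a : GA k G} (c : k) (ha : IsNilpotent a) : IsNilpotent (c • a) := by
  obtain ⟨n, hn⟩ := ha
  exact ⟨n, by rw [smul_pow, hn, smul_zero]⟩

/-- every block idempotent has a defect group -/
theorem IsBlk.exists_isDef {H : Subgroup G} {b : GA k G} (hb : IsBlk H b) :
    ∃ D, IsDef p H b D := by
  classical
  have hex : ∃ g, b g ≠ 0 ∧ ¬ IsNilpotent (cls H g * b) := by
    by_contra hcon
    push Not at hcon
    have := inZ_induction (H := H) (fun a => InZ H a ∧ IsNilpotent (a * b))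
      ⟨InZ.zero, by rw [zero_mul]; exact IsNilpotent.zero⟩
      (fun a a' ha ha' => ⟨ha.1.add ha'.1, by
        rw [add_mul]
        exact Commute.isNilpotent_add ((ha.1.mul hb.inZ).comm (ha'.1.mul hb.inZ)) ha.2 ha'.2⟩)
      _ b hb.inZ
      (fun g hg => by
        have hgH : g ∈ H := by
          by_contra h; exact hg (hb.inZ.1 g h)
        exact ⟨(cls_inZ hgH).smul _, by
          rw [smul_mul_assoc]; exact isNilpotent_smul _ (hcon g hg)⟩) rfl
    have h2 := this.2
    rw [hb.idem] at h2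
    exact hb.not_nilpotent h2
  obtain ⟨g, hg, hnil⟩ := hex
  have hgH : g ∈ H := by
    by_contra h; exact hg (hb.inZ.1 g h)
  obtain ⟨D, hDL, hD, hsyl⟩ := exists_sylow_in (p := p) (H ⊓ Subgroup.centralizer {g})
  have hzd : ZD p H D (cls H g : GA k G) := by
    intro y hy S hSH hS hSy
    have hy' : ∃ x ∈ H, y = x * g * x⁻¹ := by
      by_contra h; exact hy (cls_apply_not H g h)
    obtain ⟨x, hx, rfl⟩ := hy'
    have h1 : cS x⁻¹ S ≤ H ⊓ Subgroup.centralizer {g} := by
      intro s hs
      have hs' := mem_cS.1 hs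
      simp only [inv_inv] at hs'
      refine Subgroup.mem_inf.2 ⟨cS_le_of_mem (H.inv_mem hx) hSH hs, ?_⟩
      rw [Subgroup.mem_centralizer_singleton_iff]
      have h2 := hSy _ hs'
      have h3 : x⁻¹ * (x * s * x⁻¹ * (x * g * x⁻¹)) * x = x⁻¹ * (x * g * x⁻¹ * (x * s * x⁻¹)) * x := by
        rw [h2]
      simpa [mul_assoc] using h3
    obtain ⟨l, hl, hle⟩ := hsyl _ h1 (hS.map _)
    refine ⟨x * l, H.mul_mem hx (Subgroup.mem_inf.1 hl).1, ?_⟩
    have := cS_mono x hle
    rwa [cS_cS, cS_cS, mul_inv_cancel, cS_one] at this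
  rcases hb.nilpotent_or_unit (cls_inZ hgH) with h | ⟨w, hw, hwb⟩
  · exact absurd h hnil
  · refine ⟨D, hDL.trans inf_le_left, hD, ?_, ?_⟩
    · rw [← hwb, mul_assoc]
      exact hzd.mul (cls_inZ hgH).2 (hw.mul hb.inZ).2
    · intro h0
      apply hg
      have hgC : g ∈ Cn D := by
        rw [mem_Cn]
        intro u hu
        have := (Subgroup.mem_inf.1 (hDL hu)).2
        rw [Subgroup.mem_centralizer_singleton_iff] at this
        exact this
      rw [← br_apply_mem b hgC, h0, zero_apply]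

/-- conjugation of all data -/
theorem IsDef.cj {H D : Subgroup G} {b : GA k G} (h : IsDef p H b D) (x : G) :
    IsDef p (cS x H) (cj x b) (cS x D) where
  le := cS_mono x h.le
  pgroup := h.pgroup.map _
  zd := fun g hg S hSH hS hSg => by
    rw [cj_apply] at hg
    have h1 : cS x⁻¹ S ≤ H := by
      have := cS_mono x⁻¹ hSH
      rwa [cS_cS, inv_mul_cancel, cS_one] at this
    obtain ⟨y, hy, hle⟩ := h.zd _ hg (cS x⁻¹ S) h1 (hS.map _) (by
      intro s hs
      have hs' := mem_cS.1 hs
      simp only [inv_inv] at hs'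
      have h2 := hSg _ hs'
      have h3 : x⁻¹ * (x * s * x⁻¹ * g) * x = x⁻¹ * (g * (x * s * x⁻¹)) * x := by rw [h2]
      simpa [mul_assoc] using h3)
    refine ⟨x * y * x⁻¹, mem_cS.2 (by simpa [mul_assoc] using hy), ?_⟩
    have := cS_mono x hle
    rw [cS_cS, cS_cS, mul_inv_cancel, cS_one] at this
    rw [cS_cS, inv_mul_cancel_right]
    exact this
  br_ne := fun h0 => by
    apply h.br_ne
    rw [← cj_br] at h0
    exact (cj_eq_zero_iff x _).1 h0

end GA

end Cfsg.Agent.Lib.Helper80
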