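import Mathlib
import Cfsg.Agent.Lib.Helper80.GADef

set_option autoImplicit false
set_option linter.unusedSectionVars false

namespace Cfsg.Agent.Lib.Helper80

open scoped BigOperators

namespace GA

variable {k : Type*} {G : Type*} [Field k] [Group G] [Fintype G]

/-- the stabiliser `N_G(Q,f)` of a pair -/
def stabP (Q : Subgroup G) (f : GA k G) : Subgroup G where
  carrier := {x | x ∈ Nn Q ∧ cj x f = f}
  mul_mem' := by
    rintro a b ⟨ha, ha'⟩ ⟨hb, hb'⟩
    exact ⟨(Nn Q).mul_mem ha hb, by rw [← cj_cj, hb', ha']⟩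
  one_mem' := ⟨(Nn Q).one_mem, one_cj f⟩
  inv_mem' := by
    rintro a ⟨ha, ha'⟩
    refine ⟨(Nn Q).inv_mem ha, ?_⟩
    conv_lhs => rw [← ha']
    exact cj_inv_cj a f

theorem mem_stabP {Q : Subgroup G} {f : GA k G} {x : G} :
    x ∈ stabP Q f ↔ x ∈ Nn Q ∧ cj x f = f := Iff.rfl

theorem stabP_le_Nn (Q : Subgroup G) (f : GA k G) : stabP Q f ≤ Nn Q := fun _ hx => hx.1

theorem fixBy_stabP (Q : Subgroup G) (f : GA k G) : FixBy (stabP Q f) f := fun _ hx => hx.2

/-- an element supported on `C(Q)` is fixed by `Q` -/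
theorem fixBy_of_suppOn_Cn {Q : Subgroup G} {f : GA k G} (hf : SuppOn (Cn Q) f) : FixBy Q f := by
  rw [fixBy_iff]
  intro u hu g
  by_cases hg : g ∈ Cn Q
  · have := mem_Cn.1 hg u hu
    rw [this, mul_inv_cancel_right]
  · rw [hf g hg, hf]
    intro h
    apply hg
    have hu' : u ∈ Nn (Cn Q) := by
      have h1 : u ∈ Nn Q := Subgroup.le_normalizer hu
      rw [Subgroup.mem_normalizer_iff]
      intro c
      have h2 : cS u (Cn Q) = Cn Q := by rw [cS_Cn, cS_eq_self_of_mem_Nn h1]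
      constructor
      · intro hc; rw [← h2, mem_cS]; simpa [mul_assoc] using hc
      · intro hc; rw [← h2, mem_cS] at hc; simpa [mul_assoc] using hc
    exact (Subgroup.mem_normalizer_iff.1 hu' g).2 h

theorem Cn_le_stabP {Q : Subgroup G} {f : GA k G} (hf : InZ (Cn Q) f) : Cn Q ≤ stabP Q f :=
  fun x hx => ⟨Cn_le_Nn Q hx, hf.2 x hx⟩

theorem le_stabP {Q : Subgroup G} {f : GA k G} (hf : InZ (Cn Q) f) : Q ≤ stabP Q f :=
  fun x hx => ⟨Subgroup.le_normalizer hx, fixBy_of_suppOn_Cn hf.1 x hx⟩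

variable {p : ℕ} [Fact p.Prime] [CharP k p]

/-- a block of `C(Q)` is a block of every group `T` with `Q C(Q) ≤ T ≤ N(Q)` fixing it -/
theorem IsBP.isBlk_of_fix {Q T : Subgroup G} {f : GA k G} (hf : IsBP p Q f) (hQT : Q ≤ T)
    (hCT : Cn Q ≤ T) (hTN : T ≤ Nn Q) (hfix : FixBy T f) : IsBlk T f where
  inZ := ⟨hf.2.inZ.1.mono hCT, hfix⟩
  idem := hf.2.idem
  ne_zero := hf.2.ne_zero
  prim := fun e he hee => by
    have h1 := br_eq_self_of_idem hf.1 hQT hTN he hee
    have h2 : InZ (Cn Q) e := ⟨by rw [← h1]; exact br_suppOn Q e, he.2.mono hCT⟩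
    exact hf.2.prim e h2 hee

theorem IsBP.isBlk_stabP {Q : Subgroup G} {f : GA k G} (hf : IsBP p Q f) :
    IsBlk (stabP Q f) f :=
  hf.isBlk_of_fix (le_stabP hf.2.inZ) (Cn_le_stabP hf.2.inZ) (stabP_le_Nn Q f) (fixBy_stabP Q f)

/-- maximal Brauer pair of a block -/
def IsMaxBP (p : ℕ) (b : GA k G) (Q : Subgroup G) (f : GA k G) : Prop :=
  IsBPOf p b Q f ∧ ∀ (R : Subgroup G) (g : GA k G), IsBPOf p b R g → BPLE p (Q, f) (R, g) → R = Q

/-- If `D` is a `p`-subgroup of `N(Q,f)` containing `Q` with nonzero Brauer image of `f`, there is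
a pair on `D` above `(Q,f)`. -/
theorem IsBP.exists_nsub_above {Q D : Subgroup G} {f : GA k G} (hf : IsBP p Q f) (hQD : Q ≤ D)
    (hD : IsPGroup p D) (hDT : D ≤ stabP Q f) (hbr : br D f ≠ 0) :
    ∃ g, NSub p Q f D g := by
  have hfixD : FixBy D f := (fixBy_stabP Q f).mono hDT
  have hfixC : FixBy (Cn D) f := hf.2.inZ.2.mono (Cn_anti hQD)
  obtain ⟨g, hg, hgg⟩ := exists_blk_of_idem (Cn D) (inZ_br hfixC) (br_idem hD hfixD hf.2.idem) hbr
  exact ⟨g, hf, ⟨hD, hg⟩, hQD, hDT.trans (stabP_le_Nn Q f), hfixD, hgg⟩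

theorem cS_eq_of_mem_stabP {Q : Subgroup G} {f : GA k G} {t : G} (ht : t ∈ stabP Q f) :
    cS t Q = Q := cS_eq_self_of_mem_Nn ht.1

theorem IsMaxBP.isDef_stabP {b f : GA k G} {Q : Subgroup G} (h : IsMaxBP p b Q f) :
    IsDef p (stabP Q f) f Q := by
  have hf : IsBP p Q f := h.1.1
  obtain ⟨D0, hD0⟩ := hf.isBlk_stabP.exists_isDef (p := p)
  have hbrQ : br Q f ≠ 0 := by rw [br_eq_self hf.2.inZ.1]; exact hf.2.ne_zero
  obtain ⟨t, ht, hle⟩ := hD0.zd.le_conj_of_br_ne (le_stabP hf.2.inZ) hf.1 hbrQ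
  have hD := hD0.conj (fixBy_stabP Q f) ht
  obtain ⟨g, hg⟩ := hf.exists_nsub_above hle hD.pgroup hD.le hD.br_ne
  have h1 : IsBPOf p b (cS t D0) g := hg.isBPOf_up h.1
  have h2 := h.2 _ g h1 (Relation.ReflTransGen.single hg)
  rw [h2] at hD
  exact hD

section orbit

open Classical in
/-- the `G`-orbit of a pair -/
noncomputable def orb (Q : Subgroup G) (f : GA k G) : Finset (Subgroup G × GA k G) :=
  Finset.univ.image (fun x : G => (cS x Q, cj x f))

theorem mem_orb {Q : Subgroup G} {f : GA k G} {a : Subgroup G × GA k G} :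
    a ∈ orb Q f ↔ ∃ x : G, a = (cS x Q, cj x f) := by
  classical
  unfold orb
  rw [Finset.mem_image]
  constructor
  · rintro ⟨x, _, rfl⟩; exact ⟨x, rfl⟩
  · rintro ⟨x, rfl⟩; exact ⟨x, Finset.mem_univ _, rfl⟩

/-- the action on pairs -/
noncomputable def actP (y : G) (a : Subgroup G × GA k G) : Subgroup G × GA k G :=
  (cS y a.1, cj y a.2)

theorem actP_one (a : Subgroup G × GA k G) : actP 1 a = a := by
  unfold actP; rw [cS_one, one_cj]

theorem actP_mul (x y : G) (a : Subgroup G × GA k G) : actP (x * y) a = actP x (actP y a) := by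
  unfold actP; rw [cS_cS, cj_cj]

theorem actP_mem_orb {Q : Subgroup G} {f : GA k G} (y : G) {a : Subgroup G × GA k G}
    (ha : a ∈ orb Q f) : actP y a ∈ orb Q f := by
  obtain ⟨x, rfl⟩ := mem_orb.1 ha
  exact mem_orb.2 ⟨y * x, by unfold actP; rw [cS_cS, cj_cj]⟩

/-- the orbit sum -/
noncomputable def osum (Q : Subgroup G) (f : GA k G) : GA k G := ∑ a ∈ orb Q f, a.2

theorem osum_inZ (Q : Subgroup G) (f : GA k G) : InZ ⊤ (osum Q f) := by
  refine ⟨fun g hg => absurd (Subgroup.mem_top g) hg, fun y _ => ?_⟩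
  unfold osum
  rw [cj_sum]
  refine Finset.sum_bij' (fun a _ => actP y a) (fun a _ => actP y⁻¹ a)
    (fun a ha => actP_mem_orb y ha) (fun a ha => actP_mem_orb y⁻¹ ha)
    (fun a _ => by rw [← actP_mul, inv_mul_cancel, actP_one])
    (fun a _ => by rw [← actP_mul, mul_inv_cancel, actP_one]) (fun a _ => rfl)

theorem self_mem_orb (Q : Subgroup G) (f : GA k G) : (Q, f) ∈ orb Q f :=
  mem_orb.2 ⟨1, by rw [cS_one, one_cj]⟩

/-- a `p`-subgroup fixing a conjugate of the pair lies in the conjugate stabiliser -/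
theorem conj_le_stabP_of_fix {Q S : Subgroup G} {f : GA k G} {x : G}
    (h : ∀ s : S, actP (s : G) (cS x Q, cj x f) = (cS x Q, cj x f)) : cS x⁻¹ S ≤ stabP Q f := by
  intro t ht
  have ht' := mem_cS.1 ht
  simp only [inv_inv] at ht'
  have h1 := h ⟨_, ht'⟩
  unfold actP at h1
  simp only [Prod.mk.injEq] at h1
  obtain ⟨h2, h3⟩ := h1
  rw [cS_cS] at h2
  rw [cj_cj] at h3
  have e : x * t * x⁻¹ * x = x * t := by group
  rw [e] at h2 h3
  constructor
  · have h4 : cS t Q = Q := by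
      have := congrArg (cS x⁻¹) h2
      rwa [cS_cS, cS_cS, inv_mul_cancel, cS_one, inv_mul_cancel_left] at this
    rw [Subgroup.mem_normalizer_iff]
    intro g
    constructor
    · intro hg
      rw [← h4, mem_cS]; simpa [mul_assoc] using hg
    · intro hg
      rw [← h4, mem_cS] at hg; simpa [mul_assoc] using hg
  · have := congrArg (cj x⁻¹) h3
    rwa [cj_cj, cj_cj, inv_mul_cancel, one_cj, inv_mul_cancel_left] at this

/-- key vanishing property: if `f` has defect group `Q` in its stabiliser, `S` is a `p`-group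
fixing a conjugate pair and centralising `g`, and the conjugate of `f` does not vanish at `g`,
then `S` lies in the conjugate of `Q`. -/
theorem le_of_fix_of_ne_zero {Q S : Subgroup G} {f : GA k G} (hdef : IsDef p (stabP Q f) f Q)
    (hS : IsPGroup p S) {x g : G}
    (hfix : ∀ s : S, actP (s : G) (cS x Q, cj x f) = (cS x Q, cj x f))
    (hSg : ∀ s ∈ S, s * g = g * s) (hne : cj x f g ≠ 0) : S ≤ cS x Q := by
  have h1 := conj_le_stabP_of_fix hfix
  rw [cj_apply] at hne
  obtain ⟨t, ht, hle⟩ := hdef.zd _ hne (cS x⁻¹ S) h1 (hS.map _) (by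
    intro s hs
    have hs' := mem_cS.1 hs
    simp only [inv_inv] at hs'
    have h2 := hSg _ hs'
    have h3 : x⁻¹ * (x * s * x⁻¹ * g) * x = x⁻¹ * (g * (x * s * x⁻¹)) * x := by rw [h2]
    simpa [mul_assoc] using h3)
  rw [cS_eq_of_mem_stabP ht] at hle
  have := cS_mono x hle
  rwa [cS_cS, mul_inv_cancel, cS_one] at this

theorem osum_zd {Q : Subgroup G} {f : GA k G} (hdef : IsDef p (stabP Q f) f Q) :
    ZD p ⊤ Q (osum Q f) := by
  classical
  intro g hg S _ hS hSg
  by_contra hcon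
  apply hg
  unfold osum
  rw [sum_apply]
  have h1 := sum_eq_sum_fixed (p := p) (S := S) (Y := Subgroup G × GA k G) (k := k) hS
    (fun s a => actP (s : G) a) (fun a => by simp [actP_one]) (fun a b c => by simp [actP_mul])
    (orb Q f) (fun s a ha => actP_mem_orb _ ha) (fun a => a.2 g)
    (fun s a _ => by
      show cj (s : G) a.2 g = a.2 g
      rw [cj_apply]
      rw [mul_assoc, ← hSg s s.2, inv_mul_cancel_left])
  rw [h1]
  refine Finset.sum_eq_zero (fun a ha => ?_)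
  obtain ⟨ha1, ha2⟩ := Finset.mem_filter.1 ha
  obtain ⟨x, rfl⟩ := mem_orb.1 ha1
  by_contra hne
  exact hcon ⟨x, Subgroup.mem_top x, le_of_fix_of_ne_zero hdef hS ha2 hSg hne⟩

open Classical in
/-- the Brauer image at `Q` of the orbit sum is the sum of the `N(Q)`-conjugates -/
theorem br_osum {Q : Subgroup G} {f : GA k G} (hf : IsBP p Q f)
    (hdef : IsDef p (stabP Q f) f Q) :
    br Q (osum Q f) = ∑ a ∈ (orb Q f).filter (fun a => a.1 = Q), a.2 := by
  have hsupp : ∀ a ∈ (orb Q f).filter (fun a => a.1 = Q), IsBlk (Cn Q) a.2 := by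
    intro a ha
    obtain ⟨ha1, ha2⟩ := Finset.mem_filter.1 ha
    obtain ⟨x, rfl⟩ := mem_orb.1 ha1
    simp only at ha2 ⊢
    have := (hf.cj x).2
    rwa [ha2] at this
  ext c
  by_cases hc : c ∈ Cn Q
  · rw [br_apply_mem _ hc]
    unfold osum
    rw [sum_apply, sum_apply]
    have h1 := sum_eq_sum_fixed (p := p) (S := Q) (Y := Subgroup G × GA k G) (k := k) hf.1
      (fun s a => actP (s : G) a) (fun a => by simp [actP_one]) (fun a b c => by simp [actP_mul])
      (orb Q f) (fun s a ha => actP_mem_orb _ ha) (fun a => a.2 c)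
      (fun s a _ => by
        show cj (s : G) a.2 c = a.2 c
        rw [cj_apply]
        rw [mul_assoc, ← mem_Cn.1 hc s s.2, inv_mul_cancel_left])
    rw [h1]
    symm
    apply Finset.sum_subset
    · intro a ha
      obtain ⟨ha1, ha2⟩ := Finset.mem_filter.1 ha
      refine Finset.mem_filter.2 ⟨ha1, fun s => ?_⟩
      have hb := hsupp a ha
      obtain ⟨a1, a2⟩ := a
      simp only at ha2 hb
      subst ha2
      show (cS (s : G) a1, cj (s : G) a2) = (a1, a2)
      rw [cS_eq_self_of_mem_Nn (Subgroup.le_normalizer s.2), fixBy_of_suppOn_Cn hb.inZ.1 s s.2]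
    · intro a ha hna
      obtain ⟨ha1, ha2⟩ := Finset.mem_filter.1 ha
      obtain ⟨x, rfl⟩ := mem_orb.1 ha1
      by_contra hne
      apply hna
      refine Finset.mem_filter.2 ⟨ha1, ?_⟩
      have hle := le_of_fix_of_ne_zero hdef hf.1 ha2 (fun s hs => mem_Cn.1 hc s hs) hne
      exact (Subgroup.eq_of_le_of_card_ge hle (by rw [card_cS])).symm
  · rw [br_apply_not_mem _ hc,
      (SuppOn.sum (H := Cn Q) _ _ (fun a ha => (hsupp a ha).inZ.1)) c hc]

theorem br_osum_mul_self {Q : Subgroup G} {f : GA k G} (hf : IsBP p Q f)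
    (hdef : IsDef p (stabP Q f) f Q) : br Q (osum Q f) * f = f := by
  classical
  rw [br_osum hf hdef, Finset.sum_mul, Finset.sum_eq_single (Q, f)]
  · exact hf.2.idem
  · intro a ha hne
    obtain ⟨ha1, ha2⟩ := Finset.mem_filter.1 ha
    obtain ⟨x, rfl⟩ := mem_orb.1 ha1
    simp only at ha2 ⊢
    have hb := (hf.cj x).2
    rw [ha2] at hb
    rcases hb.eq_or_orth hf.2 with h | h
    · exfalso; apply hne; rw [ha2, h]
    · exact h
  · intro h
    exact (h (Finset.mem_filter.2 ⟨self_mem_orb Q f, rfl⟩)).elim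

theorem br_osum_mul_other {Q : Subgroup G} {f f' : GA k G} (hf : IsBP p Q f)
    (hdef : IsDef p (stabP Q f) f Q) (hf' : IsBlk (Cn Q) f')
    (hne : ∀ x ∈ Nn Q, f' ≠ cj x f) : br Q (osum Q f) * f' = 0 := by
  classical
  rw [br_osum hf hdef, Finset.sum_mul]
  refine Finset.sum_eq_zero (fun a ha => ?_)
  obtain ⟨ha1, ha2⟩ := Finset.mem_filter.1 ha
  obtain ⟨x, rfl⟩ := mem_orb.1 ha1
  simp only at ha2 ⊢
  have hb := (hf.cj x).2
  rw [ha2] at hb
  rcases hb.eq_or_orth hf' with h | h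
  · exfalso
    refine hne x ?_ h.symm
    rw [Subgroup.mem_normalizer_iff]
    intro g
    constructor
    · intro hg
      rw [← ha2, mem_cS]; simpa [mul_assoc] using hg
    · intro hg
      rw [← ha2, mem_cS] at hg; simpa [mul_assoc] using hg
  · exact h

end orbit

/-- the unit produced by the orbit sum -/
theorem IsMaxBP.exists_unit {b f : GA k G} {Q : Subgroup G} (h : IsMaxBP p b Q f) :
    ∃ w, InZ ⊤ w ∧ osum Q f * w * b = b := by
  have hf : IsBP p Q f := h.1.1
  have hdef := h.isDef_stabP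
  have hb : IsBlk ⊤ b := h.1.2.1
  rcases hb.nilpotent_or_unit (osum_inZ Q f) with hnil | hu
  · exfalso
    obtain ⟨n, hn⟩ := hnil
    have hfix : FixBy Q (osum Q f * b) := fixBy_top_mono ((osum_inZ Q f).mul hb.inZ).2
    have h1 : br Q (osum Q f * b) * f = f := by
      rw [br_mul hf.1 (fixBy_top_mono (osum_inZ Q f).2) (fixBy_top_mono hb.inZ.2), mul_assoc,
        h.1.2.2, br_osum_mul_self hf hdef]
    have h2 : ∀ m : ℕ, br Q (osum Q f * b) ^ m * f = f := by
      intro m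
      induction m with
      | zero => simp
      | succ m ih => rw [pow_succ, mul_assoc, h1, ih]
    apply hf.2.ne_zero
    rw [← h2 n, ← br_pow hf.1 hfix, hn, br_zero, zero_mul]
  · exact hu

/-- A maximal Brauer pair of `b` sits on a defect group of `b`. -/
theorem IsMaxBP.isDef {b f : GA k G} {Q : Subgroup G} (h : IsMaxBP p b Q f) :
    IsDef p ⊤ b Q := by
  have hf : IsBP p Q f := h.1.1
  have hb : IsBlk ⊤ b := h.1.2.1
  obtain ⟨w, hw, hwb⟩ := h.exists_unit
  refine ⟨le_top, hf.1, ?_, ?_⟩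
  · rw [← hwb, mul_assoc]
    exact (osum_zd h.isDef_stabP).mul (osum_inZ Q f).2 (hw.mul hb.inZ).2
  · intro h0
    apply hf.2.ne_zero
    rw [← h.1.2.2, h0, zero_mul]

/-- The normaliser is transitive on the blocks above a maximal pair's subgroup. -/
theorem IsMaxBP.exists_conj_of_same {b f f' : GA k G} {Q : Subgroup G} (h : IsMaxBP p b Q f)
    (h' : IsBPOf p b Q f') : ∃ x ∈ Nn Q, f' = cj x f := by
  by_contra hcon
  push Not at hcon
  have hf : IsBP p Q f := h.1.1
  have hb : IsBlk ⊤ b := h.1.2.1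
  obtain ⟨w, hw, hwb⟩ := h.exists_unit
  have h0 := br_osum_mul_other hf h.isDef_stabP h'.1.2 hcon
  apply h'.1.2.ne_zero
  have hz1 : InZ (Cn Q) (br Q (osum Q f)) := inZ_br (fixBy_top_mono (osum_inZ Q f).2)
  have hz2 : InZ (Cn Q) (br Q (w * b)) := inZ_br (fixBy_top_mono (hw.mul hb.inZ).2)
  calc f' = br Q b * f' := h'.2.2.symm
    _ = br Q (osum Q f * (w * b)) * f' := by rw [← mul_assoc, hwb]
    _ = br Q (osum Q f) * br Q (w * b) * f' := by
        rw [br_mul hf.1 (fixBy_top_mono (osum_inZ Q f).2) (fixBy_top_mono (hw.mul hb.inZ).2)]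
    _ = br Q (w * b) * (br Q (osum Q f) * f') := by rw [hz1.comm hz2, mul_assoc]
    _ = 0 := by rw [h0, mul_zero]

/-- maximal pairs are conjugate -/
theorem IsMaxBP.exists_conj {b f f' : GA k G} {Q Q' : Subgroup G} (h : IsMaxBP p b Q f)
    (h' : IsMaxBP p b Q' f') : ∃ x : G, Q' = cS x Q ∧ f' = cj x f := by
  obtain ⟨x, _, hx⟩ := h.isDef.exists_conj h'.isDef
  have h1 := h'.1.cj x⁻¹
  rw [hx, cS_cS, inv_mul_cancel, cS_one] at h1
  obtain ⟨y, hy, hy'⟩ := h.exists_conj_of_same h1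
  refine ⟨x * y, ?_, ?_⟩
  · rw [← cS_cS, cS_eq_self_of_mem_Nn hy, hx]
  · rw [← cj_cj, ← hy', cj_cj_inv]

/-- every pair of `b` lies below a maximal one -/
theorem IsBPOf.exists_le_max {b : GA k G} :
    ∀ (n : ℕ) (Q : Subgroup G) (f : GA k G), IsBPOf p b Q f → Nat.card G - Nat.card Q = n →
      ∃ (P : Subgroup G) (e : GA k G), IsMaxBP p b P e ∧ BPLE p (Q, f) (P, e) := by
  intro n
  induction n using Nat.strong_induction_on with
  | _ n ih =>
    intro Q f hf hn
    by_cases hmax : IsMaxBP p b Q f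
    · exact ⟨Q, f, hmax, Relation.ReflTransGen.refl⟩
    · unfold IsMaxBP at hmax
      push Not at hmax
      obtain ⟨R, g, hg, hle, hne⟩ := hmax hf
      have hlt : Q < R := lt_of_le_of_ne hle.le (Ne.symm hne)
      have hc1 : Nat.card Q < Nat.card R :=
        Set.ncard_lt_ncard (s := (Q : Set G)) (t := (R : Set G))
          (by exact_mod_cast hlt) (Set.toFinite _)
      have hc2 : Nat.card R ≤ Nat.card G := Subgroup.card_le_card_group R
      obtain ⟨P, e, hPe, hle2⟩ := ih _ (by omega) R g hg rfl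
      exact ⟨P, e, hPe, hle.trans hle2⟩

/-- every pair of `b` is conjugate into a given maximal pair -/
theorem IsMaxBP.exists_conj_le {b e f : GA k G} {P Q : Subgroup G} (h : IsMaxBP p b P e)
    (hf : IsBPOf p b Q f) : ∃ x : G, BPLE p (cS x Q, cj x f) (P, e) := by
  obtain ⟨P', e', hmax', hle⟩ := IsBPOf.exists_le_max _ Q f hf rfl
  obtain ⟨x, hx1, hx2⟩ := hmax'.exists_conj h
  refine ⟨x, ?_⟩
  have := hle.cj x
  simp only at this
  rwa [← hx1, ← hx2] at this

end GA

end Cfsg.Agent.Lib.Helper80
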