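import Mathlib
import Cfsg.Agent.Lib.Helper80.GAMax

set_option autoImplicit false
set_option linter.unusedSectionVars false

namespace Cfsg.Agent.Lib.Helper80

open scoped BigOperators

namespace GA

variable {k : Type*} {G : Type*} [Field k] [Group G] [Fintype G]

/-- augmentation -/
noncomputable def aug (a : GA k G) : k := ∑ g, a g

theorem aug_mul (a b : GA k G) : aug (a * b) = aug a * aug b := by
  calc aug (a * b) = ∑ g, ∑ x, a x * b (x⁻¹ * g) := rfl
    _ = ∑ x, ∑ g, a x * b (x⁻¹ * g) := Finset.sum_comm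
    _ = ∑ x, a x * aug b := by
        refine Finset.sum_congr rfl (fun x _ => ?_)
        rw [← Finset.mul_sum]
        congr 1
        exact Fintype.sum_equiv (Equiv.mulLeft x⁻¹) _ _ (fun g => rfl)
    _ = aug a * aug b := (Finset.sum_mul Finset.univ (fun x => a x) (aug b)).symm

theorem aug_zero : aug (0 : GA k G) = 0 := by simp [aug]

theorem aug_one : aug (1 : GA k G) = 1 := by
  classical
  unfold aug
  simp [one_apply]

theorem aug_sum {ι : Type*} (s : Finset ι) (f : ι → GA k G) :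
    aug (∑ i ∈ s, f i) = ∑ i ∈ s, aug (f i) := by
  unfold aug
  simp only [sum_apply]
  exact Finset.sum_comm

theorem aug_cj (x : G) (a : GA k G) : aug (cj x a) = aug a := by
  unfold aug
  simp only [cj_apply]
  exact Fintype.sum_equiv (MulAut.conj x⁻¹).toEquiv _ _ (fun g => by simp)

variable {p : ℕ} [Fact p.Prime] [CharP k p]

theorem aug_br {Q : Subgroup G} (hQ : IsPGroup p Q) {a : GA k G} (ha : FixBy Q a) :
    aug (br Q a) = aug a := by
  classical
  unfold aug
  rw [sum_conj_invariant hQ (fun x => a x) (fun u hu x => ha.apply hu x)]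
  refine Finset.sum_congr rfl (fun x _ => ?_)
  split_ifs with hx
  · exact br_apply_mem _ hx
  · exact br_apply_not_mem _ hx

/-- principal block idempotent -/
def IsPrin (H : Subgroup G) (b : GA k G) : Prop := IsBlk H b ∧ aug b ≠ 0

theorem exists_isPrin (H : Subgroup G) : ∃ b : GA k G, IsPrin H b := by
  by_contra hcon
  push Not at hcon
  have h1 : aug (∑ b ∈ blks k H, b) = 0 := by
    rw [aug_sum]
    refine Finset.sum_eq_zero (fun b hb => ?_)
    by_contra h
    exact hcon b ⟨mem_blks.1 hb, h⟩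
  rw [sum_blks, aug_one] at h1
  exact one_ne_zero h1

theorem IsPrin.unique {H : Subgroup G} {b b' : GA k G} (h : IsPrin H b) (h' : IsPrin H b') :
    b = b' := by
  rcases h.1.eq_or_orth h'.1 with h1 | h1
  · exact h1
  · exfalso
    have := aug_mul b b'
    rw [h1, aug_zero] at this
    exact mul_ne_zero h.2 h'.2 this.symm

theorem IsPrin.isBPOf {b e : GA k G} {Q : Subgroup G} (hb : IsPrin ⊤ b) (hQ : IsPGroup p Q)
    (he : IsPrin (Cn Q) e) : IsBPOf p b Q e := by
  refine ⟨⟨hQ, he.1⟩, hb.1, ?_⟩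
  rcases IsBP.br_mul_eq (show IsBP p Q e from ⟨hQ, he.1⟩) (fixBy_top_mono hb.1.inZ.2)
    (fixBy_top_mono hb.1.inZ.2) hb.1.idem with h | h
  · exfalso
    have := aug_mul (br Q b) e
    rw [h, aug_zero, aug_br hQ (fixBy_top_mono hb.1.inZ.2)] at this
    exact mul_ne_zero hb.2 he.2 this.symm
  · exact h

theorem NSub.aug_ne_zero {P Q : Subgroup G} {e f : GA k G} (h : NSub p Q f P e)
    (he : aug e ≠ 0) : aug f ≠ 0 := by
  intro hf
  have := aug_mul (br P f) e
  rw [h.2.2.2.2.2, aug_br h.2.1.1 h.2.2.2.2.1, hf, zero_mul] at this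
  exact he this

theorem BPLE.aug_ne_zero {a c : Subgroup G × GA k G} (h : BPLE p a c) (hc : aug c.2 ≠ 0) :
    aug a.2 ≠ 0 := by
  induction h using Relation.ReflTransGen.head_induction_on with
  | refl => exact hc
  | head h1 _ ih => exact h1.aug_ne_zero ih

/-- Brauer's third main theorem, abstract form -/
theorem IsPrin.aug_ne_zero_of_isBPOf {b e : GA k G} {Q : Subgroup G} (hb : IsPrin ⊤ b)
    (h : IsBPOf p b Q e) : aug e ≠ 0 := by
  obtain ⟨S⟩ : Nonempty (Sylow p G) := inferInstance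
  obtain ⟨eS, heS⟩ := exists_isPrin (k := k) (Cn (S : Subgroup G))
  have hS : IsBPOf p b S eS := hb.isBPOf S.2 heS
  have hmax : IsMaxBP p b S eS := by
    refine ⟨hS, fun R g hg hle => ?_⟩
    exact (S.3 hg.1.1 hle.le)
  obtain ⟨x, hx⟩ := hmax.exists_conj_le h
  have := hx.aug_ne_zero heS.2
  simpa [aug_cj] using this

theorem IsPrin.isBPOf_iff {b e : GA k G} {Q : Subgroup G} (hb : IsPrin ⊤ b) (hQ : IsPGroup p Q)
    (he : IsBlk (Cn Q) e) : IsBPOf p b Q e ↔ IsPrin (Cn Q) e :=
  ⟨fun h => ⟨he, hb.aug_ne_zero_of_isBPOf h⟩, fun h => hb.isBPOf hQ h⟩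

end GA

end Cfsg.Agent.Lib.Helper80
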