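import Mathlib
import Cfsg.Agent.Lib.Helper80.GABlk

set_option autoImplicit false
set_option linter.unusedSectionVars false

namespace Cfsg.Agent.Lib.Helper80

open scoped BigOperators

namespace GA

variable {k : Type*} {G : Type*} [CommRing k] [Group G] [Fintype G]

theorem sum_eq_sum_subgroup (H : Subgroup G) [Fintype H] (F : G → k)
    (hF : ∀ x, x ∉ H → F x = 0) : ∑ x, F x = ∑ x : H, F x := by
  classical
  rw [← Finset.sum_subtype (Finset.univ.filter (· ∈ H)) (by simp) F]
  symm
  apply Finset.sum_subset (Finset.filter_subset _ _)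
  intro x _ hx
  apply hF
  simpa using hx

/-- extension by zero from a subgroup -/
noncomputable def emb (H : Subgroup G) (a : GA k H) : GA k G :=
  fun g => by classical exact if h : g ∈ H then a ⟨g, h⟩ else 0

/-- restriction to a subgroup -/
def rst (H : Subgroup G) (a : GA k G) : GA k H := fun h => a h

variable (H : Subgroup G)

theorem emb_apply_mem (a : GA k H) {g : G} (h : g ∈ H) : emb H a g = a ⟨g, h⟩ := by
  show (@dite k (g ∈ H) (Classical.propDecidable _) (fun h => a ⟨g, h⟩) (fun _ => 0)) = _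
  rw [dif_pos h]

theorem emb_apply_not_mem (a : GA k H) {g : G} (h : g ∉ H) : emb H a g = 0 := by
  show (@dite k (g ∈ H) (Classical.propDecidable _) (fun h => a ⟨g, h⟩) (fun _ => 0)) = _
  rw [dif_neg h]

theorem emb_coe (a : GA k H) (h : H) : emb H a (h : G) = a h := emb_apply_mem H a h.2

theorem rst_apply (a : GA k G) (h : H) : rst H a h = a h := rfl

theorem emb_suppOn (a : GA k H) : SuppOn H (emb H a) := fun _ hg => emb_apply_not_mem H a hg

theorem rst_emb (a : GA k H) : rst H (emb H a) = a := by
  ext h; rw [rst_apply, emb_coe]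

theorem emb_rst {a : GA k G} (ha : SuppOn H a) : emb H (rst H a) = a := by
  ext g
  by_cases hg : g ∈ H
  · rw [emb_apply_mem H _ hg]; rfl
  · rw [emb_apply_not_mem H _ hg, ha g hg]

theorem emb_rst_eq_trunc (a : GA k G) : emb H (rst H a) = trunc H a := by
  ext g
  by_cases hg : g ∈ H
  · rw [emb_apply_mem H _ hg, trunc_apply_mem _ hg]; rfl
  · rw [emb_apply_not_mem H _ hg, trunc_apply_not_mem _ hg]

theorem emb_injective : Function.Injective (emb H : GA k H → GA k G) := by
  intro a b h
  rw [← rst_emb H a, h, rst_emb]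

theorem emb_add (a b : GA k H) : emb H (a + b) = emb H a + emb H b := by
  ext g
  by_cases hg : g ∈ H
  · simp [emb_apply_mem H _ hg]
  · simp [emb_apply_not_mem H _ hg]

theorem emb_sub (a b : GA k H) : emb H (a - b) = emb H a - emb H b := by
  ext g
  by_cases hg : g ∈ H
  · simp [emb_apply_mem H _ hg]
  · simp [emb_apply_not_mem H _ hg]

theorem emb_zero : emb H (0 : GA k H) = 0 := by
  ext g
  by_cases hg : g ∈ H
  · simp [emb_apply_mem H _ hg]
  · simp [emb_apply_not_mem H _ hg]

theorem emb_smul (c : k) (a : GA k H) : emb H (c • a) = c • emb H a := by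
  ext g
  by_cases hg : g ∈ H
  · simp [emb_apply_mem H _ hg]
  · simp [emb_apply_not_mem H _ hg]

theorem emb_eq_zero_iff (a : GA k H) : emb H a = 0 ↔ a = 0 := by
  constructor
  · intro h; apply emb_injective H; rw [h, emb_zero]
  · intro h; rw [h, emb_zero]

variable [Fintype H]

theorem emb_of (x : H) : emb H (of x : GA k H) = of (x : G) := by
  classical
  ext g
  by_cases hg : g ∈ H
  · rw [emb_apply_mem H _ hg, of_apply, of_apply]
    congr 1
    rw [eq_iff_iff]
    constructor
    · intro h; rw [← h]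
    · intro h; exact Subtype.ext h
  · rw [emb_apply_not_mem H _ hg, of_apply, if_neg]
    intro h; exact hg (h ▸ x.2)

theorem emb_one : emb H (1 : GA k H) = 1 := by
  rw [one_def, emb_of]; rfl

theorem emb_mul (a b : GA k H) : emb H (a * b) = emb H a * emb H b := by
  ext g
  by_cases hg : g ∈ H
  · rw [emb_apply_mem H _ hg, mul_apply, mul_apply,
      sum_eq_sum_subgroup H (fun x => emb H a x * emb H b (x⁻¹ * g))
        (fun x hx => by rw [emb_apply_not_mem H _ hx, zero_mul])]
    refine Finset.sum_congr rfl (fun x _ => ?_)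
    rw [emb_coe]
    congr 1
    exact (emb_apply_mem H b (H.mul_mem (H.inv_mem x.2) hg)).symm
  · rw [emb_apply_not_mem H _ hg, ((emb_suppOn H a).mul (emb_suppOn H b)) g hg]

theorem emb_pow (a : GA k H) (n : ℕ) : emb H (a ^ n) = emb H a ^ n := by
  induction n with
  | zero => rw [pow_zero, pow_zero, emb_one]
  | succ n ih => rw [pow_succ, pow_succ, emb_mul, ih]

theorem emb_cj (x : H) (a : GA k H) : emb H (cj x a) = cj (x : G) (emb H a) := by
  unfold cj
  rw [emb_mul, emb_mul, emb_of, emb_of]; rfl

theorem inZ_emb_iff (a : GA k H) : InZ H (emb H a) ↔ InZ ⊤ a := by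
  constructor
  · intro h
    refine ⟨fun g hg => absurd (Subgroup.mem_top g) hg, fun x _ => ?_⟩
    apply emb_injective H
    rw [emb_cj, h.2 x x.2]
  · intro h
    refine ⟨emb_suppOn H a, fun x hx => ?_⟩
    have := h.2 ⟨x, hx⟩ (Subgroup.mem_top _)
    have h2 := congrArg (emb H) this
    rwa [emb_cj] at h2

end GA

namespace GA

variable {k : Type*} {G : Type*} [Field k] [Group G] [Fintype G] (H : Subgroup G) [Fintype H]

theorem isBlk_emb_iff (b : GA k H) : IsBlk H (emb H b) ↔ IsBlk ⊤ b := by
  constructor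
  · intro h
    refine ⟨(inZ_emb_iff H b).1 h.inZ, ?_, fun h0 => h.ne_zero ((emb_eq_zero_iff H b).2 h0), ?_⟩
    · apply emb_injective H; rw [emb_mul, h.idem]
    · intro e he hee
      rcases h.prim (emb H e) ((inZ_emb_iff H e).2 he) (by rw [← emb_mul, hee]) with h1 | h1
      · left; apply emb_injective H; rw [emb_mul, h1, emb_zero]
      · right; apply emb_injective H; rw [emb_mul, h1]
  · intro h
    refine ⟨(inZ_emb_iff H b).2 h.inZ, by rw [← emb_mul, h.idem],
      fun h0 => h.ne_zero ((emb_eq_zero_iff H b).1 h0), ?_⟩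
    intro e he hee
    have he' : emb H (rst H e) = e := emb_rst H he.1
    have h1 : InZ ⊤ (rst H e) := (inZ_emb_iff H _).1 (by rw [he']; exact he)
    have h2 : rst H e * rst H e = rst H e := by
      apply emb_injective H; rw [emb_mul, he', hee]
    rcases h.prim _ h1 h2 with h3 | h3
    · left; rw [← he', ← emb_mul, h3, emb_zero]
    · right; rw [← he', ← emb_mul, h3]

theorem exists_of_isBlk {b : GA k G} (hb : IsBlk H b) : ∃ b' : GA k H, IsBlk ⊤ b' ∧ emb H b' = b :=
  ⟨rst H b, (isBlk_emb_iff H _).1 (by rw [emb_rst H hb.inZ.1]; exact hb), emb_rst H hb.inZ.1⟩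

end GA

end Cfsg.Agent.Lib.Helper80
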