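import Mathlib
import Cfsg.Agent.Lib.Helper80.GARes

set_option autoImplicit false
set_option linter.unusedSectionVars false

namespace Cfsg.Agent.Lib.Helper80

open scoped BigOperators
open Cfsg Cfsg.Agent.Lib.Helper81 Cfsg.Agent.Lib.Helper20

variable {p : ℕ} {M : Ideal AlgInt} (hM : IsPModular p M) {H : Type*} [Group H] [Fintype H]

include hM in
theorem omega_memLocalIdeal (χ : IrrCharacter H) {a : H → ℂ} (ha : IsClassFunction H a)
    (h : ∀ g, MemLocalIdeal M (a g)) : MemLocalIdeal M (omega (χ : H → ℂ) a) := by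
  classical
  rw [omega_eq_sum_classes (irr_classFunction χ) ha]
  apply memLocalIdeal_sum hM
  intro C _
  exact memLocalIdeal_mul_right hM (h _) (centralChar_memLocalRing hM χ _)

theorem classFunction_sub {a b : H → ℂ} (ha : IsClassFunction H a) (hb : IsClassFunction H b) :
    IsClassFunction H (a - b) := fun g h => by
  simp [ha g h, hb g h]

theorem classFunction_smul (c : ℂ) {a : H → ℂ} (ha : IsClassFunction H a) :
    IsClassFunction H (c • a) := fun g h => by
  simp [ha g h]

theorem omega_sub_mem_of_red_eq (χ : IrrCharacter H) {a b : H → ℂ} (ha : IsClassFunction H a)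
    (hb : IsClassFunction H b) (haR : RV M a) (hbR : RV M b) (h : red hM a = red hM b) :
    MemLocalIdeal M (omega (χ : H → ℂ) a - omega (χ : H → ℂ) b) := by
  rw [← omega_sub]
  exact omega_memLocalIdeal hM χ (classFunction_sub ha hb) ((red_eq_iff hM haR hbR).1 h)

theorem inZ_red {a : H → ℂ} (ha : IsClassFunction H a) : GA.InZ ⊤ (red hM a) := by
  refine ⟨fun g hg => absurd (Subgroup.mem_top g) hg, ?_⟩
  rw [GA.fixBy_iff]
  intro x _ g
  rw [red_apply, red_apply, ha]

/-- a locally integral class function all of whose central character values lie in the local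
ideal is nilpotent modulo the local ideal -/
theorem isNilpotent_red {a : H → ℂ} (ha : IsClassFunction H a) (haR : RV M a)
    (h : ∀ χ : IrrCharacter H, MemLocalIdeal M (omega (χ : H → ℂ) a)) :
    IsNilpotent (red hM a) := by
  classical
  have : Finite (IrrCharacter H) := finite_irrCharacter
  have : Fintype (IrrCharacter H) := Fintype.ofFinite _
  have key : ∀ s : Finset (IrrCharacter H), ∃ c : H → ℂ, IsClassFunction H c ∧ RV M c ∧
      red hM c = red hM a ^ s.card ∧ ∀ ψ ∈ s, omega (ψ : H → ℂ) c = 0 := by
    intro s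
    induction s using Finset.induction_on with
    | empty => exact ⟨dl, dl_classFunction, RV_dl hM, by simp [red_dl], by simp⟩
    | insert χ s hχ ih =>
      obtain ⟨c, hc1, hc2, hc3, hc4⟩ := ih
      have hω : MemLocalRing M (omega (χ : H → ℂ) a) := memLocalRing_of_memLocalIdeal (h χ)
      have hd1 : IsClassFunction H (a - omega (χ : H → ℂ) a • dl) :=
        classFunction_sub ha (classFunction_smul _ dl_classFunction)
      have hd2 : RV M (a - omega (χ : H → ℂ) a • dl) :=
        RV.sub hM haR (RV.smul hM hω (RV_dl hM))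
      refine ⟨conv c (a - omega (χ : H → ℂ) a • dl), conv_classFunction hc1 hd1,
        RV.conv hM hc2 hd2, ?_, ?_⟩
      · rw [red_conv hM hc2 hd2, hc3, red_sub hM haR (RV.smul hM hω (RV_dl hM)),
          red_smul hM hω (RV_dl hM), (resC_eq_zero_iff hM hω).2 (h χ), zero_smul, sub_zero,
          Finset.card_insert_of_notMem hχ, pow_succ]
      · intro ψ hψ
        rw [omega_conv ψ.2 _ _ hd1]
        rcases Finset.mem_insert.1 hψ with rfl | hψ
        · rw [omega_sub, omega_smul, omega_dl (irr_one_ne_zero ψ.2), mul_one, sub_self, mul_zero]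
        · rw [hc4 ψ hψ, zero_mul]
  obtain ⟨c, hc1, _, hc3, hc4⟩ := key Finset.univ
  have : c = 0 := eq_zero_of_omega_eq_zero hc1 (fun χ => hc4 χ (Finset.mem_univ _))
  exact ⟨_, by rw [← hc3, this, red_zero]⟩

/-- lifting central elements -/
theorem exists_lift {z : GA (Kr hM) H} (hz : GA.InZ ⊤ z) :
    ∃ a : H → ℂ, IsClassFunction H a ∧ RV M a ∧ red hM a = z := by
  refine ⟨fun g => liftC hM (z g), ?_, fun g => liftC_mem hM _, ?_⟩
  · intro g h
    show liftC hM (z _) = liftC hM (z g)
    rw [hz.2.apply (Subgroup.mem_top h)]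
  · ext g
    exact resC_liftC hM _

theorem conv_blockCoeff_self (B : Set (IrrCharacter H)) :
    conv (blockCoeff B) (blockCoeff B) = blockCoeff B := by
  classical
  apply eq_of_omega_eq (conv_classFunction (blockCoeff_classFunction B)
    (blockCoeff_classFunction B)) (blockCoeff_classFunction B)
  intro χ
  rw [omega_conv χ.2 _ _ (blockCoeff_classFunction B), omega_blockCoeff]
  split_ifs <;> simp

/-- the reduction of the idempotent of a set of characters -/
noncomputable def blkR (B : Set (IrrCharacter H)) : GA (Kr hM) H := red hM (blockCoeff B)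

include hM in
theorem RV_blockCoeff {B : Set (IrrCharacter H)} (hB : IsPBlock M B) : RV M (blockCoeff B) :=
  osima hM B hB

theorem blkR_idem {B : Set (IrrCharacter H)} (hB : IsPBlock M B) :
    blkR hM B * blkR hM B = blkR hM B := by
  unfold blkR
  rw [← red_conv hM (RV_blockCoeff hM hB) (RV_blockCoeff hM hB), conv_blockCoeff_self]

theorem blkR_inZ (B : Set (IrrCharacter H)) : GA.InZ ⊤ (blkR hM B) :=
  inZ_red hM (blockCoeff_classFunction B)

theorem blkR_ne_zero {B : Set (IrrCharacter H)} (hB : IsPBlock M B) : blkR hM B ≠ 0 := by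
  classical
  intro h
  obtain ⟨χ, hχ⟩ := isPBlock_nonempty hM hB
  have h1 := omega_memLocalIdeal hM χ (blockCoeff_classFunction B)
    ((red_eq_zero_iff hM (RV_blockCoeff hM hB)).1 h)
  rw [omega_blockCoeff, if_pos hχ] at h1
  exact not_memLocalIdeal_one hM h1

/-- if the central character of the block kills `a`, then `a` times the block idempotent is
nilpotent -/
theorem isNilpotent_red_mul_blkR {B : Set (IrrCharacter H)} (hB : IsPBlock M B) {a : H → ℂ}
    (ha : IsClassFunction H a) (haR : RV M a) {χ : IrrCharacter H} (hχ : χ ∈ B)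
    (h : MemLocalIdeal M (omega (χ : H → ℂ) a)) : IsNilpotent (red hM a * blkR hM B) := by
  classical
  unfold blkR
  rw [← red_conv hM haR (RV_blockCoeff hM hB)]
  apply isNilpotent_red hM (conv_classFunction ha (blockCoeff_classFunction B))
    (RV.conv hM haR (RV_blockCoeff hM hB))
  intro ψ
  rw [omega_conv ψ.2 _ _ (blockCoeff_classFunction B), omega_blockCoeff]
  split_ifs with hψ
  · rw [mul_one]
    have h1 := omega_sub_memLocalIdeal hM (isPBlock_sameBlock hM hB hψ hχ) ha haR
    have := memLocalIdeal_add hM h1 h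
    rwa [sub_add_cancel] at this
  · rw [mul_zero]; exact memLocalIdeal_zero hM

theorem omega_red_idem {a : H → ℂ} (ha : IsClassFunction H a) (haR : RV M a)
    (hidem : red hM a * red hM a = red hM a) (χ : IrrCharacter H) :
    MemLocalIdeal M (omega (χ : H → ℂ) a) ∨ MemLocalIdeal M (omega (χ : H → ℂ) a - 1) := by
  have h1 := omega_sub_mem_of_red_eq hM χ (conv_classFunction ha ha) ha (RV.conv hM haR haR) haR
    (by rw [red_conv hM haR haR, hidem])
  rw [omega_conv χ.2 _ _ ha] at h1
  have hω := omega_memLocalRing hM χ ha haR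
  have h2 : omega (χ : H → ℂ) a * omega (χ : H → ℂ) a - omega (χ : H → ℂ) a
      = omega (χ : H → ℂ) a * (omega (χ : H → ℂ) a - 1) := by ring
  rw [h2] at h1
  exact (memLocalIdeal_mul_iff hM hω (memLocalRing_sub hM hω (memLocalRing_one hM))).1 h1

theorem red_mul_blkR_cases {B : Set (IrrCharacter H)} (hB : IsPBlock M B) {a : H → ℂ}
    (ha : IsClassFunction H a) (haR : RV M a) (hidem : red hM a * red hM a = red hM a)
    {χ : IrrCharacter H} (hχ : χ ∈ B) :
    (MemLocalIdeal M (omega (χ : H → ℂ) a) ∧ red hM a * blkR hM B = 0) ∨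
    (MemLocalIdeal M (omega (χ : H → ℂ) a - 1) ∧ red hM a * blkR hM B = blkR hM B) := by
  have hcomm : red hM a * blkR hM B = blkR hM B * red hM a :=
    (inZ_red hM ha).comm (blkR_inZ hM B)
  rcases omega_red_idem hM ha haR hidem χ with h | h
  · left
    refine ⟨h, GA.eq_zero_of_idem_of_nilpotent ?_ (isNilpotent_red_mul_blkR hM hB ha haR hχ h)⟩
    calc red hM a * blkR hM B * (red hM a * blkR hM B)
        = red hM a * (blkR hM B * red hM a) * blkR hM B := by simp only [mul_assoc]
      _ = (red hM a * red hM a) * (blkR hM B * blkR hM B) := by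
          rw [← hcomm]; simp only [mul_assoc]
      _ = _ := by rw [hidem, blkR_idem hM hB]
  · right
    refine ⟨h, ?_⟩
    have hd1 : IsClassFunction H (dl - a) := classFunction_sub dl_classFunction ha
    have hd2 : RV M (dl - a) := RV.sub hM (RV_dl hM) haR
    have h1 : MemLocalIdeal M (omega (χ : H → ℂ) (dl - a)) := by
      rw [omega_sub, omega_dl (irr_one_ne_zero χ.2)]
      have := memLocalIdeal_neg h
      rwa [neg_sub] at this
    have h2 := isNilpotent_red_mul_blkR hM hB hd1 hd2 hχ h1
    rw [red_sub hM (RV_dl hM) haR, red_dl] at h2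
    have h3 : (1 - red hM a) * blkR hM B = 0 := by
      apply GA.eq_zero_of_idem_of_nilpotent _ h2
      have e1 : (1 - red hM a) * (1 - red hM a) = 1 - red hM a := by
        rw [mul_sub, sub_mul, sub_mul, hidem]; simp
      have e2 : (1 - red hM a) * blkR hM B = blkR hM B * (1 - red hM a) := by
        rw [sub_mul, mul_sub, hcomm]; simp
      calc (1 - red hM a) * blkR hM B * ((1 - red hM a) * blkR hM B)
          = (1 - red hM a) * (blkR hM B * (1 - red hM a)) * blkR hM B := by simp only [mul_assoc]
        _ = ((1 - red hM a) * (1 - red hM a)) * (blkR hM B * blkR hM B) := by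
            rw [← e2]; simp only [mul_assoc]
        _ = _ := by rw [e1, blkR_idem hM hB]
    rw [sub_mul, one_mul, sub_eq_zero] at h3
    exact h3.symm

/-- the reduction of a block idempotent is a block idempotent of the modular group algebra -/
theorem isBlk_blkR {B : Set (IrrCharacter H)} (hB : IsPBlock M B) : GA.IsBlk ⊤ (blkR hM B) where
  inZ := blkR_inZ hM B
  idem := blkR_idem hM hB
  ne_zero := blkR_ne_zero hM hB
  prim := fun e he hee => by
    obtain ⟨a, ha, haR, rfl⟩ := exists_lift hM he
    obtain ⟨χ, hχ⟩ := isPBlock_nonempty hM hB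
    rcases red_mul_blkR_cases hM hB ha haR hee hχ with h | h
    · left; exact h.2
    · right; exact h.2

/-- evaluation criterion -/
theorem omega_sub_one_mem_iff {B : Set (IrrCharacter H)} (hB : IsPBlock M B) {a : H → ℂ}
    (ha : IsClassFunction H a) (haR : RV M a) (hidem : red hM a * red hM a = red hM a)
    {χ : IrrCharacter H} (hχ : χ ∈ B) :
    MemLocalIdeal M (omega (χ : H → ℂ) a - 1) ↔ red hM a * blkR hM B = blkR hM B := by
  rcases red_mul_blkR_cases hM hB ha haR hidem hχ with h | h
  · constructor
    · intro h1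
      exfalso
      apply not_memLocalIdeal_one hM
      have := memLocalIdeal_sub hM h.1 h1
      rwa [sub_sub_cancel] at this
    · intro h1
      exfalso
      exact blkR_ne_zero hM hB (by rw [← h1, h.2])
  · exact ⟨fun _ => h.2, fun _ => h.1⟩

theorem blkR_injective {B B' : Set (IrrCharacter H)} (hB : IsPBlock M B) (hB' : IsPBlock M B')
    (h : blkR hM B = blkR hM B') : B = B' := by
  classical
  obtain ⟨χ, hχ⟩ := isPBlock_nonempty hM hB
  have h1 := omega_sub_mem_of_red_eq hM χ (blockCoeff_classFunction B)
    (blockCoeff_classFunction B') (RV_blockCoeff hM hB) (RV_blockCoeff hM hB') h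
  rw [omega_blockCoeff, omega_blockCoeff, if_pos hχ] at h1
  have hχ' : χ ∈ B' := by
    by_contra hn
    rw [if_neg hn, sub_zero] at h1
    exact not_memLocalIdeal_one hM h1
  rw [isPBlock_eq_blockOf hM hB hχ, isPBlock_eq_blockOf hM hB' hχ']

/-- every block idempotent of the modular group algebra comes from a block -/
theorem exists_block_of_isBlk {b : GA (Kr hM) H} (hb : GA.IsBlk ⊤ b) :
    ∃ B : Set (IrrCharacter H), IsPBlock M B ∧ b = blkR hM B := by
  obtain ⟨a, ha, haR, rfl⟩ := exists_lift hM hb.inZ
  have hex : ∃ χ : IrrCharacter H, ¬ MemLocalIdeal M (omega (χ : H → ℂ) a) := by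
    by_contra hcon
    push Not at hcon
    exact hb.not_nilpotent (isNilpotent_red hM ha haR hcon)
  obtain ⟨χ, hχ⟩ := hex
  have hB : IsPBlock M (blockOf M (χ : H → ℂ)) := ⟨χ, rfl⟩
  refine ⟨_, hB, ?_⟩
  rcases red_mul_blkR_cases hM hB ha haR hb.idem (mem_blockOf_self hM χ) with h | h
  · exact absurd h.1 hχ
  · rcases hb.eq_or_orth (isBlk_blkR hM hB) with h1 | h1
    · exact h1
    · exfalso
      exact blkR_ne_zero hM hB (by rw [← h.2, h1])

end Cfsg.Agent.Lib.Helper80
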