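import Mathlib
import Cfsg.Prelude.Def_BrauerPairs
import Cfsg.Agent.Lib.Helper83.Basic2
import Cfsg.Agent.Lib.Helper81.ClassSum

set_option autoImplicit false
set_option linter.unusedSectionVars false

namespace Cfsg.Agent.Lib.Helper80

open scoped BigOperators ComplexConjugate
open Cfsg Cfsg.Agent.Lib.Helper81

section iso

variable {A B : Type*} [Group A] [Group B] (φ : A ≃* B)

/-- transport of irreducible characters along an isomorphism -/
def irrMap : IrrCharacter B ≃ IrrCharacter A where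
  toFun ξ := ⟨(ξ : B → ℂ) ∘ φ,
    Cfsg.Agent.Lib.Helper83.isIrr_comp_surjective φ.toMonoidHom φ.surjective ξ.2⟩
  invFun ξ := ⟨(ξ : A → ℂ) ∘ φ.symm,
    Cfsg.Agent.Lib.Helper83.isIrr_comp_surjective φ.symm.toMonoidHom φ.symm.surjective ξ.2⟩
  left_inv ξ := by
    apply Subtype.ext; funext b; simp
  right_inv ξ := by
    apply Subtype.ext; funext b; simp

theorem irrMap_apply (ξ : IrrCharacter B) (a : A) : (irrMap φ ξ : A → ℂ) a = (ξ : B → ℂ) (φ a) := rfl

theorem index_centralizer_iso (a : A) :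
    (Subgroup.centralizer ({φ a} : Set B)).index = (Subgroup.centralizer ({a} : Set A)).index := by
  have h : (Subgroup.centralizer ({φ a} : Set B)).comap φ.toMonoidHom
      = Subgroup.centralizer ({a} : Set A) := by
    ext x
    simp only [Subgroup.mem_comap, Subgroup.mem_centralizer_singleton_iff]
    constructor
    · intro h1
      apply φ.injective
      simpa using h1
    · intro h1
      have := congrArg φ h1
      simpa using this
  rw [← h, Subgroup.index_comap_of_surjective _ φ.surjective]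

theorem centralChar_iso (χ : B → ℂ) (a : A) :
    centralChar (χ ∘ φ) a = centralChar χ (φ a) := by
  simp only [centralChar, Function.comp, index_centralizer_iso, map_one]

theorem sameBlock_iso {M : Ideal AlgInt} (χ ψ : B → ℂ) :
    SameBlock M (χ ∘ φ) (ψ ∘ φ) ↔ SameBlock M χ ψ := by
  constructor
  · intro h b
    have := h (φ.symm b)
    simpa [centralChar_iso] using this
  · intro h a
    rw [centralChar_iso, centralChar_iso]
    exact h (φ a)

theorem isPBlock_image {M : Ideal AlgInt} {f : Set (IrrCharacter B)} (hf : IsPBlock M f) :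
    IsPBlock M (irrMap φ '' f) := by
  obtain ⟨χ, rfl⟩ := hf
  refine ⟨irrMap φ χ, ?_⟩
  ext ψ
  constructor
  · rintro ⟨ψ', hψ', rfl⟩
    exact (sameBlock_iso φ _ _).2 hψ'
  · intro hψ
    refine ⟨(irrMap φ).symm ψ, ?_, by simp⟩
    have h1 : SameBlock M ((χ : B → ℂ) ∘ φ) (((irrMap φ).symm ψ : B → ℂ) ∘ φ) := by
      have : (((irrMap φ).symm ψ : B → ℂ) ∘ φ) = (ψ : A → ℂ) := by
        have := congrArg (fun z : IrrCharacter A => (z : A → ℂ)) ((irrMap φ).apply_symm_apply ψ)
        exact this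
      rw [this]; exact hψ
    exact (sameBlock_iso φ _ _).1 h1

theorem blockCoeff_image (f : Set (IrrCharacter B)) (a : A) :
    blockCoeff (irrMap φ '' f) a = blockCoeff f (φ a) := by
  simp only [blockCoeff]
  rw [Nat.card_congr φ.toEquiv]
  congr 1
  rw [finsum_mem_image (irrMap φ).injective.injOn]
  apply finsum_congr; intro ξ
  apply finsum_congr; intro _
  rw [irrMap_apply, irrMap_apply, map_one]

end iso

section conjsec

variable {G : Type*} [Group G] (K K' : Subgroup G) (x : G)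

/-- the isomorphism induced by conjugation -/
def cjIso (hK : ∀ g, g ∈ K' ↔ x⁻¹ * g * x ∈ K) : K' ≃* K where
  toFun c := ⟨x⁻¹ * c * x, (hK c).1 c.2⟩
  invFun c := ⟨x * c * x⁻¹, (hK _).2 (by simp [mul_assoc])⟩
  left_inv c := by apply Subtype.ext; simp [mul_assoc]
  right_inv c := by apply Subtype.ext; simp [mul_assoc]
  map_mul' a b := by apply Subtype.ext; simp [mul_assoc]

/-- the conjugate of a set of characters -/
def cjSet (f : Set (IrrCharacter K)) : Set (IrrCharacter K') :=
  {ξ' | ∃ ξ ∈ f, ∀ (c : K) (c' : K'), (c' : G) = x * (c : G) * x⁻¹ →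
    (ξ' : K' → ℂ) c' = (ξ : K → ℂ) c}

variable {K K' x}

theorem conj_rel_iff (hK : ∀ g, g ∈ K' ↔ x⁻¹ * g * x ∈ K) (ξ : K → ℂ) (ξ' : K' → ℂ) :
    (∀ (c : K) (c' : K'), (c' : G) = x * (c : G) * x⁻¹ → ξ' c' = ξ c) ↔
      ξ' = ξ ∘ cjIso K K' x hK := by
  constructor
  · intro h
    funext c'
    exact h (cjIso K K' x hK c') c' (by simp [cjIso, mul_assoc])
  · rintro rfl c c' hc
    simp only [Function.comp]
    congr 1
    apply Subtype.ext
    simp [cjIso, hc, mul_assoc]

theorem cjSet_eq_image (hK : ∀ g, g ∈ K' ↔ x⁻¹ * g * x ∈ K) (f : Set (IrrCharacter K)) :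
    cjSet K K' x f = irrMap (cjIso K K' x hK) '' f := by
  ext ξ'
  constructor
  · rintro ⟨ξ, hξ, h⟩
    exact ⟨ξ, hξ, Subtype.ext ((conj_rel_iff hK _ _).1 h).symm⟩
  · rintro ⟨ξ, hξ, rfl⟩
    exact ⟨ξ, hξ, (conj_rel_iff hK _ _).2 rfl⟩

theorem isPBlock_cjSet {M : Ideal AlgInt} (hK : ∀ g, g ∈ K' ↔ x⁻¹ * g * x ∈ K)
    {f : Set (IrrCharacter K)} (hf : IsPBlock M f) : IsPBlock M (cjSet K K' x f) := by
  rw [cjSet_eq_image hK]; exact isPBlock_image _ hf

theorem subgroupBlockCoeff_cjSet (hK : ∀ g, g ∈ K' ↔ x⁻¹ * g * x ∈ K)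
    (f : Set (IrrCharacter K)) (g : G) :
    subgroupBlockCoeff K' (cjSet K K' x f) g = subgroupBlockCoeff K f (x⁻¹ * g * x) := by
  classical
  unfold subgroupBlockCoeff
  by_cases hg : g ∈ K'
  · rw [dif_pos hg, dif_pos ((hK g).1 hg), cjSet_eq_image hK, blockCoeff_image]
    rfl
  · rw [dif_neg hg, dif_neg (fun h => hg ((hK g).2 h))]

end conjsec

end Cfsg.Agent.Lib.Helper80
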