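import Mathlib
import Cfsg.Agent.Lib.Helper80.GALink
import Cfsg.Agent.Lib.Helper80.GAEmb
import Cfsg.Agent.Lib.Helper80.IrrIso

set_option autoImplicit false
set_option linter.unusedSectionVars false
set_option linter.style.haveILetI false

namespace Cfsg.Agent.Lib.Helper80

open scoped BigOperators
open Cfsg Cfsg.Agent.Lib.Helper81 Cfsg.Agent.Lib.Helper20 GA

variable {p : ℕ} {M : Ideal AlgInt} (hM : IsPModular p M) {G : Type*} [Group G] [Fintype G]

theorem subgroupBlockCoeff_mem (H : Subgroup G) (e : Set (IrrCharacter H)) {g : G} (h : g ∈ H) :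
    subgroupBlockCoeff H e g = blockCoeff e ⟨g, h⟩ := by
  unfold subgroupBlockCoeff; rw [dif_pos h]

theorem subgroupBlockCoeff_not_mem (H : Subgroup G) (e : Set (IrrCharacter H)) {g : G}
    (h : g ∉ H) : subgroupBlockCoeff H e g = 0 := by
  unfold subgroupBlockCoeff; rw [dif_neg h]

/-- the element of the modular group algebra of `G` attached to a set of characters of `H` -/
noncomputable def bl (H : Subgroup G) (e : Set (IrrCharacter H)) : GA (Kr hM) G :=
  red hM (subgroupBlockCoeff H e)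

theorem bl_eq_emb (H : Subgroup G) (e : Set (IrrCharacter H)) :
    bl hM H e = emb H (blkR hM e) := by
  ext g
  by_cases hg : g ∈ H
  · rw [emb_apply_mem H _ hg]
    show resC hM _ = resC hM _
    rw [subgroupBlockCoeff_mem H e hg]
  · rw [emb_apply_not_mem H _ hg]
    show resC hM _ = 0
    rw [subgroupBlockCoeff_not_mem H e hg, resC_zero]

include hM in
theorem RV_subgroupBlockCoeff (H : Subgroup G) {e : Set (IrrCharacter H)} (he : IsPBlock M e) :
    RV M (subgroupBlockCoeff H e) := fun g => by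
  haveI : Fintype H := Fintype.ofFinite H
  by_cases hg : g ∈ H
  · rw [subgroupBlockCoeff_mem H e hg]; exact osima hM e he _
  · rw [subgroupBlockCoeff_not_mem H e hg]; exact memLocalRing_zero hM

theorem isBlk_bl (H : Subgroup G) {e : Set (IrrCharacter H)} (he : IsPBlock M e) :
    IsBlk H (bl hM H e) := by
  haveI : Fintype H := Fintype.ofFinite H
  rw [bl_eq_emb, isBlk_emb_iff]
  exact isBlk_blkR hM he

theorem bl_injective (H : Subgroup G) {e e' : Set (IrrCharacter H)} (he : IsPBlock M e)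
    (he' : IsPBlock M e') (h : bl hM H e = bl hM H e') : e = e' := by
  haveI : Fintype H := Fintype.ofFinite H
  rw [bl_eq_emb, bl_eq_emb] at h
  exact blkR_injective hM he he' (emb_injective H h)

theorem exists_block_of_isBlk_sub (H : Subgroup G) {b : GA (Kr hM) G} (hb : IsBlk H b) :
    ∃ e : Set (IrrCharacter H), IsPBlock M e ∧ b = bl hM H e := by
  haveI : Fintype H := Fintype.ofFinite H
  obtain ⟨b', hb', rfl⟩ := exists_of_isBlk H hb
  obtain ⟨e, he, rfl⟩ := exists_block_of_isBlk hM hb'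
  exact ⟨e, he, (bl_eq_emb hM H e).symm⟩

theorem brauerOmega_iff (P : Subgroup G) {e : Set (IrrCharacter (Cn P))} (he : IsPBlock M e)
    {β : G → ℂ} (hβR : RV M β) (hβ : ∀ c ∈ Cn P, ∀ x ∈ Cn P, β (c * x * c⁻¹) = β x)
    (hidem : br P (red hM β) * br P (red hM β) = br P (red hM β)) :
    (∀ ξ ∈ e, MemLocalIdeal M (brauerOmega P β (ξ : Cn P → ℂ) - 1)) ↔
      br P (red hM β) * bl hM (Cn P) e = bl hM (Cn P) e := by
  classical
  haveI : Fintype (Cn P) := Fintype.ofFinite _
  obtain ⟨a, ha0⟩ : ∃ a : Cn P → ℂ, a = fun c : Cn P => β (c : G) := ⟨_, rfl⟩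
  have ha : IsClassFunction (Cn P) a := fun g h => by
    rw [ha0]; exact hβ h h.2 g g.2
  have haR : RV M a := fun c => by rw [ha0]; exact hβR c
  have hemb : emb (Cn P) (red hM a) = br P (red hM β) := by
    rw [ha0]; exact emb_rst_eq_trunc (Cn P) (red hM β)
  have hid : red hM a * red hM a = red hM a := by
    apply emb_injective (Cn P)
    rw [emb_mul, hemb, hidem]
  have hom : ∀ ξ : Cn P → ℂ, brauerOmega P β ξ = omega ξ a := by
    intro ξ
    unfold brauerOmega omega
    rw [finsum_eq_sum_of_fintype, ha0]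
  have hiff : red hM a * blkR hM e = blkR hM e ↔
      br P (red hM β) * bl hM (Cn P) e = bl hM (Cn P) e := by
    rw [bl_eq_emb, ← hemb, ← emb_mul]
    exact ⟨fun h => by rw [h], fun h => emb_injective _ h⟩
  rw [← hiff]
  constructor
  · intro h
    obtain ⟨ξ, hξ⟩ := isPBlock_nonempty hM he
    have := h ξ hξ
    rw [hom] at this
    exact (omega_sub_one_mem_iff hM he ha haR hid hξ).1 this
  · intro h ξ hξ
    rw [hom]
    exact (omega_sub_one_mem_iff hM he ha haR hid hξ).2 h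

theorem bl_cjSet {K K' : Subgroup G} {x : G} (hK : ∀ g, g ∈ K' ↔ x⁻¹ * g * x ∈ K)
    (f : Set (IrrCharacter K)) : bl hM K' (cjSet K K' x f) = cj x (bl hM K f) := by
  ext g
  rw [cj_apply]
  show resC hM _ = resC hM _
  rw [subgroupBlockCoeff_cjSet hK]

theorem mem_iff_of_mem_normalizer {K : Subgroup G} {x : G}
    (hx : x ∈ Subgroup.normalizer (K : Set G)) : ∀ g, g ∈ K ↔ x⁻¹ * g * x ∈ K := by
  intro g
  have h1 := (Subgroup.mem_normalizer_iff.1 (Subgroup.inv_mem _ hx)) g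
  simpa using h1

theorem stabilizesBlock_iff (K : Subgroup G) {f : Set (IrrCharacter K)} (hf : IsPBlock M f)
    {x : G} (hx : x ∈ Subgroup.normalizer (K : Set G)) :
    StabilizesBlock K f x ↔ cj x (bl hM K f) = bl hM K f := by
  haveI : Fintype K := Fintype.ofFinite K
  have hK := mem_iff_of_mem_normalizer hx
  have hblk := isPBlock_cjSet (M := M) hK hf
  rw [← bl_cjSet hM hK]
  constructor
  · rintro ⟨_, h⟩
    have hsub : cjSet K K x f ⊆ f := by
      rintro ξ' ⟨ξ, hξ, hrel⟩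
      obtain ⟨χ', hχ', hrel'⟩ := h ξ hξ
      have e1 := (conj_rel_iff hK _ _).1 hrel
      have e2 := (conj_rel_iff hK _ _).1 hrel'
      have : ξ' = χ' := Subtype.ext (e1.trans e2.symm)
      rw [this]; exact hχ'
    obtain ⟨ξ', hξ'⟩ := isPBlock_nonempty hM hblk
    have : cjSet K K x f = f := by
      rw [isPBlock_eq_blockOf hM hblk hξ', isPBlock_eq_blockOf hM hf (hsub hξ')]
    rw [this]
  · intro h
    have h1 := bl_injective hM K hblk hf h
    refine ⟨hx, fun χ hχ => ?_⟩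
    refine ⟨irrMap (cjIso K K x hK) χ, ?_, (conj_rel_iff hK _ _).2 rfl⟩
    rw [← h1, cjSet_eq_image hK]
    exact ⟨χ, hχ, rfl⟩

theorem mem_Cn_cS_iff (Q : Subgroup G) (x : G) : ∀ g, g ∈ Cn (cS x Q) ↔ x⁻¹ * g * x ∈ Cn Q := by
  intro g
  rw [← cS_Cn, mem_cS]

theorem bl_conjBlock (Q : Subgroup G) (x : G) (f : Set (IrrCharacter (Cn Q))) :
    bl hM (Cn (cS x Q)) (conjBlock Q x f) = cj x (bl hM (Cn Q) f) :=
  bl_cjSet hM (mem_Cn_cS_iff Q x) f

theorem isPBlock_conjBlock (Q : Subgroup G) (x : G) {f : Set (IrrCharacter (Cn Q))}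
    (hf : IsPBlock M f) : IsPBlock M (conjBlock Q x f) :=
  isPBlock_cjSet (mem_Cn_cS_iff Q x) hf

variable [Fact p.Prime]

theorem isBP_of_isBrauerPair {Q : Subgroup G} {e : Set (IrrCharacter (Cn Q))}
    (h : IsBrauerPair p M Q e) : IsBP p Q (bl hM (Cn Q) e) :=
  ⟨h.1, isBlk_bl hM _ h.2⟩

theorem isBrauerPairOf_iff {B : Set (IrrCharacter G)} {Q : Subgroup G}
    {e : Set (IrrCharacter (Cn Q))} :
    IsBrauerPairOf p M B Q e ↔ IsBrauerPair p M Q e ∧ IsPBlock M B ∧
      IsBPOf p (blkR hM B) Q (bl hM (Cn Q) e) := by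
  have key : IsBrauerPair p M Q e → IsPBlock M B →
      ((∀ ξ ∈ e, MemLocalIdeal M (brauerOmega Q (blockCoeff B) (ξ : Cn Q → ℂ) - 1)) ↔
      br Q (blkR hM B) * bl hM (Cn Q) e = bl hM (Cn Q) e) := by
    intro h1 h2
    apply brauerOmega_iff hM Q h1.2 (RV_blockCoeff hM h2)
      (fun c _ x _ => blockCoeff_classFunction B x c)
    exact br_idem h1.1 (fixBy_top_mono (blkR_inZ hM B).2) (blkR_idem hM h2)
  constructor
  · rintro ⟨h1, h2, h3⟩
    exact ⟨h1, h2, isBP_of_isBrauerPair hM h1, isBlk_blkR hM h2, (key h1 h2).1 h3⟩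
  · rintro ⟨h1, h2, _, _, h3⟩
    exact ⟨h1, h2, (key h1 h2).2 h3⟩

theorem Nn_le_normalizer_Cn (Q : Subgroup G) : Nn Q ≤ Subgroup.normalizer ((Cn Q : Subgroup G) : Set G) := by
  intro x hx
  rw [Subgroup.mem_normalizer_iff]
  intro g
  have h1 : cS x (Cn Q) = Cn Q := cS_Cn_of_mem_Nn hx
  constructor
  · intro hg
    rw [← h1, mem_cS]; simpa [mul_assoc] using hg
  · intro hg
    rw [← h1, mem_cS] at hg; simpa [mul_assoc] using hg

theorem isNormalSubpair_iff {P Q : Subgroup G} {e : Set (IrrCharacter (Cn P))}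
    {f : Set (IrrCharacter (Cn Q))} :
    IsNormalSubpair p M Q f P e ↔ IsBrauerPair p M Q f ∧ IsBrauerPair p M P e ∧
      NSub p Q (bl hM (Cn Q) f) P (bl hM (Cn P) e) := by
  have stab : IsBrauerPair p M Q f → P ≤ Nn Q →
      ((∀ x ∈ P, StabilizesBlock (Cn Q) f x) ↔ FixBy P (bl hM (Cn Q) f)) := by
    intro h1 h2
    constructor
    · intro h x hx
      exact (stabilizesBlock_iff hM _ h1.2 (Nn_le_normalizer_Cn Q (h2 hx))).1 (h x hx)
    · intro h x hx
      exact (stabilizesBlock_iff hM _ h1.2 (Nn_le_normalizer_Cn Q (h2 hx))).2 (h x hx)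
  have key : IsBrauerPair p M Q f → IsBrauerPair p M P e → Q ≤ P →
      FixBy P (bl hM (Cn Q) f) →
      ((∀ ξ ∈ e, MemLocalIdeal M
        (brauerOmega P (subgroupBlockCoeff (Cn Q) f) (ξ : Cn P → ℂ) - 1)) ↔
      br P (bl hM (Cn Q) f) * bl hM (Cn P) e = bl hM (Cn P) e) := by
    intro h1 h2 h3 h4
    haveI : Fintype (Cn Q) := Fintype.ofFinite _
    apply brauerOmega_iff hM P h2.2 (RV_subgroupBlockCoeff hM _ h1.2)
    · intro c hc x hx
      have hc' := Cn_anti h3 hc
      have hx' := Cn_anti h3 hx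
      rw [subgroupBlockCoeff_mem _ _ hx',
        subgroupBlockCoeff_mem _ _ ((Cn Q).mul_mem ((Cn Q).mul_mem hc' hx') ((Cn Q).inv_mem hc'))]
      exact blockCoeff_classFunction f ⟨x, hx'⟩ ⟨c, hc'⟩
    · exact br_idem h2.1 h4 (isBlk_bl hM _ h1.2).idem
  constructor
  · rintro ⟨h1, h2, h3, h4, h5, h6⟩
    have h5' := (stab h1 h4).1 h5
    exact ⟨h1, h2, isBP_of_isBrauerPair hM h1, isBP_of_isBrauerPair hM h2, h3, h4, h5',
      (key h1 h2 h3 h5').1 h6⟩
  · rintro ⟨h1, h2, _, _, h3, h4, h5, h6⟩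
    exact ⟨h1, h2, h3, h4, (stab h1 h4).2 h5, (key h1 h2 h3 h5).2 h6⟩

/-- the abstract pair attached to a pair of the character-theoretic kind -/
noncomputable def toBP (a : BrauerPairIdx G) : Subgroup G × GA (Kr hM) G :=
  (a.1, bl hM (Cn a.1) a.2)

theorem bple_of_subpairLE {P Q : Subgroup G} {e : Set (IrrCharacter (Cn P))}
    {f : Set (IrrCharacter (Cn Q))} (h : SubpairLE p M Q f P e) :
    BPLE p (Q, bl hM (Cn Q) f) (P, bl hM (Cn P) e) := by
  have := Relation.ReflTransGen.lift (toBP hM) (r := NormalSubpairRel p M)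
    (p := fun a b : Subgroup G × GA (Kr hM) G => NSub p a.1 a.2 b.1 b.2)
    (fun a b hab => ((isNormalSubpair_iff hM).1 hab).2.2) _ _ h
  exact this

theorem subpairLE_of_bple {P : Subgroup G} {e : Set (IrrCharacter (Cn P))}
    (he : IsBrauerPair p M P e) {a : Subgroup G × GA (Kr hM) G}
    (h : BPLE p a (P, bl hM (Cn P) e)) :
    ∀ (Q : Subgroup G) (f : Set (IrrCharacter (Cn Q))), IsBrauerPair p M Q f →
      a = (Q, bl hM (Cn Q) f) → SubpairLE p M Q f P e := by
  induction h using Relation.ReflTransGen.head_induction_on with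
  | refl =>
    intro Q f hf heq
    have h1 : P = Q := congrArg Prod.fst heq
    subst h1
    have h2 : bl hM (Cn P) e = bl hM (Cn P) f := congrArg Prod.snd heq
    rw [bl_injective hM _ he.2 hf.2 h2]
    exact Relation.ReflTransGen.refl
  | @head a c hac hc ih =>
    intro Q f hf heq
    subst heq
    obtain ⟨R, g⟩ := c
    simp only at hac
    obtain ⟨g', hg', rfl⟩ := exists_block_of_isBlk_sub hM _ hac.2.1.2
    have hRg : IsBrauerPair p M R g' := ⟨hac.2.1.1, hg'⟩
    exact Relation.ReflTransGen.head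
      (show NormalSubpairRel p M ⟨Q, f⟩ ⟨R, g'⟩ from (isNormalSubpair_iff hM).2 ⟨hf, hRg, hac⟩)
      (ih R g' hRg rfl)

theorem subpairLE_iff {P Q : Subgroup G} {e : Set (IrrCharacter (Cn P))}
    {f : Set (IrrCharacter (Cn Q))} (he : IsBrauerPair p M P e) (hf : IsBrauerPair p M Q f) :
    SubpairLE p M Q f P e ↔ BPLE p (Q, bl hM (Cn Q) f) (P, bl hM (Cn P) e) :=
  ⟨bple_of_subpairLE hM, fun h => subpairLE_of_bple hM he h Q f hf rfl⟩

end Cfsg.Agent.Lib.Helper80
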