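import Mathlib
import Cfsg.Agent.Lib.Helper80.GATrans
import Cfsg.Agent.Lib.Helper80.GAMax

set_option autoImplicit false
set_option linter.unusedSectionVars false
set_option linter.style.haveILetI false

namespace Cfsg.Agent.Lib.Helper80

open scoped BigOperators
open Cfsg Cfsg.Agent.Lib.Helper81 Cfsg.Agent.Lib.Helper20 GA

variable {p : ℕ} [Fact p.Prime] {M : Ideal AlgInt} (hM : IsPModular p M)
  {G : Type*} [Group G] [Fintype G]

theorem isMaxBP_of_isMaximalBrauerPair {B : Set (IrrCharacter G)} {P : Subgroup G}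
    {e : Set (IrrCharacter (Cn P))} (h : IsMaximalBrauerPair p M B P e) :
    IsMaxBP p (blkR hM B) P (bl hM (Cn P) e) := by
  have h1 := (isBrauerPairOf_iff hM).1 h.1
  refine ⟨h1.2.2, fun R g hg hle => ?_⟩
  obtain ⟨g', hg', rfl⟩ := exists_block_of_isBlk_sub hM _ hg.1.2
  have hRg : IsBrauerPair p M R g' := ⟨hg.1.1, hg'⟩
  exact h.2 R g' ((isBrauerPairOf_iff hM).2 ⟨hRg, h1.2.1, hg⟩)
    ((subpairLE_iff hM hRg h1.1).2 hle)

theorem isBrauerPair_conjBlock {Q : Subgroup G} {f : Set (IrrCharacter (Cn Q))}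
    (h : IsBrauerPair p M Q f) (x : G) : IsBrauerPair p M (cS x Q) (conjBlock Q x f) :=
  ⟨h.1.map _, isPBlock_conjBlock Q x h.2⟩

end Cfsg.Agent.Lib.Helper80
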