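import Mathlib
import Cfsg.Agent.Lib.Helper80.GATrans2
import Cfsg.Agent.Lib.Helper80.GAPrin
import Cfsg.Agent.Lib.Helper80.BlockBasic

set_option autoImplicit false
set_option linter.unusedSectionVars false
set_option linter.style.haveILetI false

namespace Cfsg.Agent.Lib.Helper80

open scoped BigOperators
open Cfsg Cfsg.Agent.Lib.Helper81 Cfsg.Agent.Lib.Helper20 GA

variable {p : ℕ} {M : Ideal AlgInt} (hM : IsPModular p M)

section typelevel
variable {H : Type*} [Group H] [Fintype H]

theorem aug_red {a : H → ℂ} (ha : RV M a) : aug (red hM a) = resC hM (∑ g, a g) := by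
  rw [resC_sum hM _ _ (fun g _ => ha g)]
  rfl

theorem aug_blkR {B : Set (IrrCharacter H)} (hB : IsPBlock M B) [Decidable (trivIrr H ∈ B)] :
    aug (blkR hM B) = if trivIrr H ∈ B then 1 else 0 := by
  classical
  unfold blkR
  rw [aug_red hM (RV_blockCoeff hM hB)]
  have h1 : ∑ g, blockCoeff B g = omega (trivIrr H : H → ℂ) (blockCoeff B) := by
    unfold omega trivIrr
    simp
  rw [h1, omega_blockCoeff]
  split_ifs
  · exact resC_one hM
  · exact resC_zero hM

theorem isPrin_blkR_iff {B : Set (IrrCharacter H)} (hB : IsPBlock M B) :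
    IsPrin ⊤ (blkR hM B) ↔ B = principalBlock M H := by
  classical
  constructor
  · rintro ⟨_, h⟩
    rw [aug_blkR hM hB] at h
    have ht : trivIrr H ∈ B := by
      by_contra hn
      rw [if_neg hn] at h
      exact h rfl
    rw [isPBlock_eq_blockOf hM hB ht]
    rfl
  · rintro rfl
    refine ⟨isBlk_blkR hM hB, ?_⟩
    rw [aug_blkR hM hB, if_pos (trivIrr_mem_principalBlock hM)]
    exact one_ne_zero

end typelevel

variable {G : Type*} [Group G] [Fintype G]

theorem aug_emb {k : Type*} [Field k] (H : Subgroup G) [Fintype H] (a : GA k H) :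
    aug (emb H a) = aug a := by
  unfold aug
  rw [sum_eq_sum_subgroup H (fun g => emb H a g) (fun x hx => emb_apply_not_mem H a hx)]
  exact Finset.sum_congr rfl (fun x _ => emb_coe H a x)

theorem isPrin_bl_iff (H : Subgroup G) {e : Set (IrrCharacter H)} (he : IsPBlock M e) :
    IsPrin H (bl hM H e) ↔ e = principalBlock M H := by
  haveI : Fintype H := Fintype.ofFinite H
  rw [← isPrin_blkR_iff hM he, bl_eq_emb]
  unfold IsPrin
  rw [isBlk_emb_iff, aug_emb]

end Cfsg.Agent.Lib.Helper80
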