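import Mathlib
import Cfsg.Agent.Lib.Helper80.GATrans3

set_option autoImplicit false
set_option linter.unusedSectionVars false
set_option linter.style.haveILetI false

namespace Cfsg.Agent.Lib.Helper80

open scoped BigOperators Pointwise
open Cfsg Cfsg.Agent.Lib.Helper81 Cfsg.Agent.Lib.Helper20

namespace GA

variable {k : Type*} {G : Type*} [Field k] [Group G] [Fintype G]

/-- `D` behaves like a Sylow `p`-subgroup of `L` -/
def SylLike (p : ℕ) (L D : Subgroup G) : Prop :=
  D ≤ L ∧ IsPGroup p D ∧ ∀ S : Subgroup G, S ≤ L → IsPGroup p S → ∃ x ∈ L, S ≤ cS x D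

theorem sylLike_of_sylow {p : ℕ} [Fact p.Prime] (L : Subgroup G) (P : Sylow p L) :
    SylLike p L ((P : Subgroup L).map L.subtype) := by
  refine ⟨?_, P.2.map _, ?_⟩
  · rintro _ ⟨x, _, rfl⟩; exact x.2
  · intro S hSL hS
    have hS' : IsPGroup p (S.subgroupOf L) :=
      hS.comap_of_injective L.subtype L.subtype_injective
    obtain ⟨Q, hQ⟩ := hS'.exists_le_sylow
    obtain ⟨x, hx⟩ := MulAction.exists_smul_eq L P Q
    refine ⟨x, x.2, ?_⟩
    intro s hs
    have h1 : (⟨s, hSL hs⟩ : L) ∈ Q := hQ (Subgroup.mem_subgroupOf.2 hs)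
    rw [← hx] at h1
    have h2 : (⟨s, hSL hs⟩ : L) ∈ MulAut.conj x • (P : Subgroup L) := h1
    rw [mem_conj_smul] at h2
    rw [mem_cS]
    exact ⟨_, h2, by simp⟩

variable {p : ℕ} [Fact p.Prime] [CharP k p]

theorem zd_cls {H D : Subgroup G} {g : G}
    (hD : SylLike p (H ⊓ Subgroup.centralizer {g}) D) : ZD p H D (cls H g : GA k G) := by
  obtain ⟨_, _, hsyl⟩ := hD
  intro y hy S hSH hS hSy
  have hy' : ∃ x ∈ H, y = x * g * x⁻¹ := by
    by_contra h; exact hy (cls_apply_not H g h)
  obtain ⟨x, hx, rfl⟩ := hy'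
  have h1 : cS x⁻¹ S ≤ H ⊓ Subgroup.centralizer {g} := by
    intro s hs
    have hs' := mem_cS.1 hs
    simp only [inv_inv] at hs'
    refine Subgroup.mem_inf.2 ⟨cS_le_of_mem (H.inv_mem hx) hSH hs, ?_⟩
    rw [Subgroup.mem_centralizer_singleton_iff]
    have h2 := hSy _ hs'
    have h3 : x⁻¹ * (x * s * x⁻¹ * (x * g * x⁻¹)) * x = x⁻¹ * (x * g * x⁻¹ * (x * s * x⁻¹)) * x := by
      rw [h2]
    simpa [mul_assoc] using h3
  obtain ⟨l, hl, hle⟩ := hsyl _ h1 (hS.map _)
  refine ⟨x * l, H.mul_mem hx (Subgroup.mem_inf.1 hl).1, ?_⟩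
  have := cS_mono x hle
  rwa [cS_cS, cS_cS, mul_inv_cancel, cS_one] at this

theorem IsBlk.isDef_of_cls {H D : Subgroup G} {b : GA k G} (hb : IsBlk H b) {g : G}
    (hg : b g ≠ 0) (hnil : ¬ IsNilpotent (cls H g * b))
    (hD : SylLike p (H ⊓ Subgroup.centralizer {g}) D) : IsDef p H b D := by
  have hgH : g ∈ H := by
    by_contra h; exact hg (hb.inZ.1 g h)
  rcases hb.nilpotent_or_unit (cls_inZ hgH) with h | ⟨w, hw, hwb⟩
  · exact absurd h hnil
  · refine ⟨hD.1.trans inf_le_left, hD.2.1, ?_, ?_⟩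
    · rw [← hwb, mul_assoc]
      exact (zd_cls hD).mul (cls_inZ hgH).2 (hw.mul hb.inZ).2
    · intro h0
      apply hg
      have hgC : g ∈ Cn D := by
        rw [mem_Cn]
        intro u hu
        have := (Subgroup.mem_inf.1 (hD.1 hu)).2
        rw [Subgroup.mem_centralizer_singleton_iff] at this
        exact this
      rw [← br_apply_mem b hgC, h0, zero_apply]

/-- transport of defect groups from the ambient algebra to the algebra of the subgroup -/
theorem isDef_top_of_isDef_emb (H : Subgroup G) [Fintype H] {b : GA k H} {D : Subgroup G}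
    (h : IsDef p H (emb H b) D) : IsDef p ⊤ b (D.subgroupOf H) where
  le := le_top
  pgroup := h.pgroup.comap_of_injective H.subtype H.subtype_injective
  zd := fun g hg S _ hS hSg => by
    have hg' : emb H b (g : G) ≠ 0 := by rw [emb_coe]; exact hg
    obtain ⟨x, hx, hle⟩ := h.zd _ hg' (S.map H.subtype)
      (by rintro _ ⟨s, _, rfl⟩; exact s.2) (hS.map _)
      (by
        rintro _ ⟨s, hs, rfl⟩
        have := congrArg (fun t : H => (t : G)) (hSg s hs)
        simpa using this)
    refine ⟨⟨x, hx⟩, Subgroup.mem_top _, ?_⟩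
    intro s hs
    have h1 := hle (Subgroup.mem_map_of_mem H.subtype hs)
    rw [mem_cS] at h1 ⊢
    rw [Subgroup.mem_subgroupOf]
    simpa using h1
  br_ne := fun h0 => by
    apply h.br_ne
    ext g
    by_cases hg : g ∈ Cn D
    · rw [br_apply_mem _ hg, zero_apply]
      by_cases hgH : g ∈ H
      · rw [emb_apply_mem H _ hgH]
        have hgC : (⟨g, hgH⟩ : H) ∈ Cn (D.subgroupOf H) := by
          rw [mem_Cn]
          intro u hu
          apply Subtype.ext
          exact mem_Cn.1 hg u (Subgroup.mem_subgroupOf.1 hu)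
        have := congrArg (fun c : GA k H => c ⟨g, hgH⟩) h0
        simpa [br_apply_mem _ hgC] using this
      · exact emb_apply_not_mem H _ hgH
    · rw [br_apply_not_mem _ hg, zero_apply]

end GA

open GA

variable {p : ℕ} [Fact p.Prime] {M : Ideal AlgInt} (hM : IsPModular p M)

section typelevel

variable {H : Type*} [Group H] [Fintype H]

theorem red_classInd (g : H) : red hM (classInd g) = cls ⊤ g := by
  classical
  ext y
  rw [red_apply]
  by_cases h : IsConj g y
  · have h1 : classInd g y = 1 := by unfold classInd; exact if_pos h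
    rw [h1, resC_one]
    obtain ⟨c, hc⟩ := isConj_iff.1 h
    exact (cls_apply_of ⊤ g ⟨c, Subgroup.mem_top c, hc.symm⟩).symm
  · have h1 : classInd g y = 0 := by unfold classInd; exact if_neg h
    rw [h1, resC_zero]
    refine (cls_apply_not ⊤ g ?_).symm
    rintro ⟨c, _, hc⟩
    exact h (isConj_iff.2 ⟨c, hc.symm⟩)

include hM in
theorem RV_classInd (g : H) : RV M (classInd g) := fun y => by
  classical
  simp only [classInd]
  split_ifs
  · exact memLocalRing_one hM
  · exact memLocalRing_zero hM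

/-- non-nilpotency from a nonzero central character value -/
theorem not_isNilpotent_red_mul_blkR {B : Set (IrrCharacter H)} (hB : IsPBlock M B) {a : H → ℂ}
    (ha : IsClassFunction H a) (haR : RV M a) {χ : IrrCharacter H} (hχ : χ ∈ B)
    (h : ¬ MemLocalIdeal M (omega (χ : H → ℂ) a)) : ¬ IsNilpotent (red hM a * blkR hM B) := by
  intro hnil
  have hω := omega_memLocalRing hM χ ha haR
  have hd1 : IsClassFunction H (a - omega (χ : H → ℂ) a • dl) :=
    classFunction_sub ha (classFunction_smul _ dl_classFunction)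
  have hd2 : RV M (a - omega (χ : H → ℂ) a • dl) := RV.sub hM haR (RV.smul hM hω (RV_dl hM))
  have h0 : MemLocalIdeal M (omega (χ : H → ℂ) (a - omega (χ : H → ℂ) a • dl)) := by
    rw [omega_sub, omega_smul, omega_dl (irr_one_ne_zero χ.2), mul_one, sub_self]
    exact memLocalIdeal_zero hM
  have h1 := isNilpotent_red_mul_blkR hM hB hd1 hd2 hχ h0
  rw [red_sub hM haR (RV.smul hM hω (RV_dl hM)), red_smul hM hω (RV_dl hM), red_dl, sub_mul,
    smul_mul_assoc, one_mul] at h1
  have hlam : resC hM (omega (χ : H → ℂ) a) ≠ 0 := fun h2 => h ((resC_eq_zero_iff hM hω).1 h2)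
  have hc : Commute (red hM a * blkR hM B)
      (red hM a * blkR hM B - resC hM (omega (χ : H → ℂ) a) • blkR hM B) :=
    ((inZ_red hM ha).mul (blkR_inZ hM B)).comm
      (((inZ_red hM ha).mul (blkR_inZ hM B)).sub ((blkR_inZ hM B).smul _))
  have h2 := hc.isNilpotent_sub hnil h1
  rw [sub_sub_cancel] at h2
  have h3 := isNilpotent_smul (resC hM (omega (χ : H → ℂ) a))⁻¹ h2
  rw [smul_smul, inv_mul_cancel₀ hlam, one_smul] at h3
  exact (isBlk_blkR hM hB).not_nilpotent h3

theorem isDef_of_isDefectGroup {B : Set (IrrCharacter H)} (hB : IsPBlock M B) {D : Subgroup H}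
    (h : IsDefectGroup p M B D) : IsDef p ⊤ (blkR hM B) D := by
  obtain ⟨g, ⟨h1, h2, h3⟩, P, rfl⟩ := h
  obtain ⟨χ, hχ⟩ := isPBlock_nonempty hM hB
  apply (isBlk_blkR hM hB).isDef_of_cls (g := g)
  · intro h0
    exact h2 ((resC_eq_zero_iff hM h1).1 h0)
  · rw [← red_classInd hM]
    apply not_isNilpotent_red_mul_blkR hM hB (classInd_classFunction g) (RV_classInd hM g) hχ
    rw [omega_classInd (irr_classFunction χ)]
    exact h3 χ hχ
  · rw [top_inf_eq]
    exact sylLike_of_sylow _ P

theorem isDefectGroup_of_isDef {B : Set (IrrCharacter H)} (hB : IsPBlock M B) {D : Subgroup H}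
    (h : IsDef p ⊤ (blkR hM B) D) : IsDefectGroup p M B D := by
  obtain ⟨g, hg⟩ := exists_defectClass hM B hB
  obtain ⟨P⟩ : Nonempty (Sylow p (Subgroup.centralizer ({g} : Set H))) := inferInstance
  have h1 : IsDefectGroup p M B ((P : Subgroup _).map (Subgroup.centralizer ({g} : Set H)).subtype) :=
    ⟨g, hg, P, rfl⟩
  obtain ⟨x, _, rfl⟩ := (isDef_of_isDefectGroup hM hB h1).exists_conj h
  exact isDefectGroup_conj h1 x

theorem isDefectGroup_iff_isDef {B : Set (IrrCharacter H)} (hB : IsPBlock M B) {D : Subgroup H} :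
    IsDefectGroup p M B D ↔ IsDef p ⊤ (blkR hM B) D :=
  ⟨isDef_of_isDefectGroup hM hB, isDefectGroup_of_isDef hM hB⟩

end typelevel

variable {G : Type*} [Group G] [Fintype G]

theorem isDefectGroup_of_isDef_sub (H : Subgroup G) {f : Set (IrrCharacter H)}
    (hf : IsPBlock M f) {D : Subgroup G} (h : IsDef p H (bl hM H f) D) :
    IsDefectGroup p M f (D.subgroupOf H) := by
  haveI : Fintype H := Fintype.ofFinite H
  rw [bl_eq_emb] at h
  exact isDefectGroup_of_isDef hM hf (isDef_top_of_isDef_emb H h)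

end Cfsg.Agent.Lib.Helper80
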