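import Mathlib
import Cfsg.Agent.Lib.Helper80.GAMax

set_option autoImplicit false
set_option linter.unusedSectionVars false

namespace Cfsg.Agent.Lib.Helper80

open scoped BigOperators

namespace GA

variable {k : Type*} {G : Type*} [Field k] [Group G] [Fintype G]
variable {p : ℕ} [Fact p.Prime] [CharP k p]

/-- a pair below `(P,e)` is normal in the pair on any intermediate subgroup normalising it -/
theorem BPLE.exists_nsub_mid {P Q R : Subgroup G} {e f : GA k G} (he : IsBP p P e)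
    (hle : BPLE p (Q, f) (P, e)) (hQR : Q ≤ R) (hRP : R ≤ P) (hRN : R ≤ Nn Q) :
    ∃ g, NSub p Q f R g ∧ BPLE p (R, g) (P, e) := by
  obtain ⟨g, hg, hgle⟩ := he.exists_subpair' hRP
  have hbpR : IsBP p R g := ⟨he.1.to_le hRP, hg⟩
  obtain ⟨f1, hf1, _⟩ := hbpR.existsUnique_nsub hQR hRN
  have h1 : BPLE p (Q, f1) (P, e) := Relation.ReflTransGen.head hf1 hgle
  have : f1 = f := he.subpair_unique _ Q f1 f rfl h1 hle
  subst this
  exact ⟨g, hf1, hgle⟩

theorem NSub.br_ne_zero {P Q : Subgroup G} {e f : GA k G} (h : NSub p Q f P e) : br P f ≠ 0 := by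
  intro h0
  apply h.2.1.2.ne_zero
  rw [← h.2.2.2.2.2, h0, zero_mul]

theorem br_ne_zero_of_le {P R : Subgroup G} {f : GA k G} (hPR : P ≤ R) (h : br R f ≠ 0) :
    br P f ≠ 0 := by
  intro h0
  apply h
  rw [← br_br hPR, h0, br_zero]

theorem BPLE.exists_isDef_Cn {P Q : Subgroup G} {e f : GA k G} (he : IsBP p P e)
    (hle : BPLE p (Q, f) (P, e)) : ∃ D, IsDef p (Cn Q) f D ∧ P ⊓ Cn Q ≤ D := by
  have hQP : Q ≤ P := hle.le
  have hf : IsBP p Q f := hle.isBP he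
  obtain ⟨g, hg, _⟩ := hle.exists_nsub_mid he (R := Q ⊔ (P ⊓ Cn Q)) le_sup_left
    (sup_le hQP inf_le_left) (sup_le Subgroup.le_normalizer (inf_le_right.trans (Cn_le_Nn Q)))
  obtain ⟨D0, hD0⟩ := hf.2.exists_isDef (p := p)
  have hbr : br (P ⊓ Cn Q) f ≠ 0 := br_ne_zero_of_le le_sup_right hg.br_ne_zero
  obtain ⟨x, hx, hxle⟩ := hD0.zd.le_conj_of_br_ne inf_le_right (he.1.to_le inf_le_left) hbr
  exact ⟨cS x D0, hD0.conj hf.2.inZ.2 hx, hxle⟩

theorem mem_Cn_sup {Q S : Subgroup G} {g : G} (h1 : g ∈ Cn Q) (h2 : g ∈ Cn S) :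
    g ∈ Cn (Q ⊔ S) := by
  have hQ : Q ≤ Subgroup.centralizer ({g} : Set G) := fun u hu => by
    rw [Subgroup.mem_centralizer_singleton_iff]; exact mem_Cn.1 h1 u hu
  have hS : S ≤ Subgroup.centralizer ({g} : Set G) := fun u hu => by
    rw [Subgroup.mem_centralizer_singleton_iff]; exact mem_Cn.1 h2 u hu
  rw [mem_Cn]
  intro u hu
  have := sup_le hQ hS hu
  rwa [Subgroup.mem_centralizer_singleton_iff] at this

theorem IsMaxBP.exists_conj_isDef_Cn {b e f : GA k G} {P Q : Subgroup G} (h : IsMaxBP p b P e)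
    (hle : BPLE p (Q, f) (P, e)) :
    ∃ x : G, BPLE p (cS x Q, cj x f) (P, e) ∧
      IsDef p (Cn (cS x Q)) (cj x f) (P ⊓ Cn (cS x Q)) := by
  have he : IsBP p P e := h.1.1
  have hf : IsBP p Q f := hle.isBP he
  have hfb : IsBPOf p b Q f := hle.isBPOf_iff.1 h.1
  obtain ⟨S, hS⟩ := hf.2.exists_isDef (p := p)
  have hQS : Q ≤ Nn S := by
    refine le_trans ?_ (Cn_le_Nn S)
    intro u hu
    rw [mem_Cn]
    intro s hs
    exact (mem_Cn.1 (hS.le hs) u hu).symm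
  have hR : IsPGroup p (Q ⊔ S : Subgroup G) := IsPGroup.to_sup_of_normal_right' hf.1 hS.pgroup hQS
  have hRT : Q ⊔ S ≤ stabP Q f :=
    sup_le (le_stabP hf.2.inZ) (hS.le.trans (Cn_le_stabP hf.2.inZ))
  have hbr : br (Q ⊔ S) f ≠ 0 := by
    intro h0
    apply hS.br_ne
    ext g
    by_cases hg : g ∈ Cn S
    · rw [br_apply_mem _ hg, zero_apply]
      by_cases hgQ : g ∈ Cn Q
      · have := congrArg (fun c : GA k G => c g) h0
        simpa [br_apply_mem _ (mem_Cn_sup hgQ hg)] using this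
      · exact hf.2.inZ.1 g hgQ
    · rw [br_apply_not_mem _ hg, zero_apply]
  obtain ⟨g', hg'⟩ := hf.exists_nsub_above le_sup_left hR hRT hbr
  obtain ⟨x, hx⟩ := h.exists_conj_le (hg'.isBPOf_up hfb)
  have hle' : BPLE p (cS x Q, cj x f) (P, e) := Relation.ReflTransGen.head (hg'.cj x) hx
  refine ⟨x, hle', ?_⟩
  have hS' := hS.cj x
  rw [cS_Cn] at hS'
  obtain ⟨D, hD, hPD⟩ := hle'.exists_isDef_Cn he
  have h1 : cS x S ≤ P ⊓ Cn (cS x Q) :=
    le_inf ((cS_mono x le_sup_right).trans hx.le) hS'.le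
  have h2 : P ⊓ Cn (cS x Q) = D := by
    apply Subgroup.eq_of_le_of_card_ge hPD
    rw [hS'.card_eq hD]
    exact Subgroup.card_le_of_le h1
  rw [h2]; exact hD

theorem BPLE.exists_isDef_stabP {P Q : Subgroup G} {e f : GA k G} (he : IsBP p P e)
    (hle : BPLE p (Q, f) (P, e)) : ∃ D, IsDef p (stabP Q f) f D ∧ P ⊓ Nn Q ≤ D := by
  have hQP : Q ≤ P := hle.le
  have hf : IsBP p Q f := hle.isBP he
  obtain ⟨g, hg, _⟩ := hle.exists_nsub_mid he (R := P ⊓ Nn Q)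
    (le_inf hQP Subgroup.le_normalizer) inf_le_left inf_le_right
  obtain ⟨D0, hD0⟩ := hf.isBlk_stabP.exists_isDef (p := p)
  have hRT : P ⊓ Nn Q ≤ stabP Q f := fun x hx =>
    ⟨(Subgroup.mem_inf.1 hx).2, hg.2.2.2.2.1 x hx⟩
  obtain ⟨x, hx, hxle⟩ := hD0.zd.le_conj_of_br_ne hRT (he.1.to_le inf_le_left) hg.br_ne_zero
  exact ⟨cS x D0, hD0.conj (fixBy_stabP Q f) hx, hxle⟩

theorem cS_stabP (x : G) (Q : Subgroup G) (f : GA k G) :
    cS x (stabP Q f) = stabP (cS x Q) (cj x f) := by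
  ext g
  rw [mem_cS, mem_stabP, mem_stabP, ← cS_Nn, mem_cS]
  refine and_congr Iff.rfl ?_
  constructor
  · intro h
    have h2 := congrArg (cj x) h
    rw [cj_cj] at h2
    have e : x * (x⁻¹ * g * x) = g * x := by group
    rw [e] at h2
    rw [cj_cj, h2]
  · intro h
    have h2 := congrArg (cj x⁻¹) h
    rw [cj_cj, cj_cj, cj_inv_cj] at h2
    exact h2

theorem IsMaxBP.exists_conj_isDef_stabP {b e f : GA k G} {P Q : Subgroup G}
    (h : IsMaxBP p b P e) (hle : BPLE p (Q, f) (P, e)) :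
    ∃ x : G, BPLE p (cS x Q, cj x f) (P, e) ∧
      IsDef p (stabP (cS x Q) (cj x f)) (cj x f) (P ⊓ Nn (cS x Q)) := by
  have he : IsBP p P e := h.1.1
  have hf : IsBP p Q f := hle.isBP he
  have hfb : IsBPOf p b Q f := hle.isBPOf_iff.1 h.1
  obtain ⟨S0, hS0⟩ := hf.isBlk_stabP.exists_isDef (p := p)
  have hbrQ : br Q f ≠ 0 := by rw [br_eq_self hf.2.inZ.1]; exact hf.2.ne_zero
  obtain ⟨t, ht, hQS⟩ := hS0.zd.le_conj_of_br_ne (le_stabP hf.2.inZ) hf.1 hbrQ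
  have hS := hS0.conj (fixBy_stabP Q f) ht
  obtain ⟨g', hg'⟩ := hf.exists_nsub_above hQS hS.pgroup hS.le hS.br_ne
  obtain ⟨x, hx⟩ := h.exists_conj_le (hg'.isBPOf_up hfb)
  have hle' : BPLE p (cS x Q, cj x f) (P, e) := Relation.ReflTransGen.head (hg'.cj x) hx
  refine ⟨x, hle', ?_⟩
  have hS' := hS.cj x
  rw [cS_stabP] at hS'
  obtain ⟨D, hD, hPD⟩ := hle'.exists_isDef_stabP he
  have h1 : cS x (cS t S0) ≤ P ⊓ Nn (cS x Q) :=
    le_inf hx.le (hS'.le.trans (stabP_le_Nn _ _))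
  have h2 : P ⊓ Nn (cS x Q) = D := by
    apply Subgroup.eq_of_le_of_card_ge hPD
    rw [hS'.card_eq hD]
    exact Subgroup.card_le_of_le h1
  rw [h2]; exact hD

end GA

end Cfsg.Agent.Lib.Helper80
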