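import Mathlib
import Cfsg.Agent.Lib.Helper80.GALocal

set_option autoImplicit false
set_option linter.unusedSectionVars false

namespace Cfsg.Agent.Lib.Helper80

open scoped BigOperators

namespace GA

variable {k : Type*} {G : Type*} [Field k] [Group G] [Fintype G]
variable {p : ℕ} [Fact p.Prime] [CharP k p]

theorem cS_inf (x : G) (A B : Subgroup G) : cS x (A ⊓ B) = cS x A ⊓ cS x B := by
  ext g
  simp only [mem_cS, Subgroup.mem_inf]

theorem cS_inv_cS (x : G) (A : Subgroup G) : cS x⁻¹ (cS x A) = A := by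
  rw [cS_cS, inv_mul_cancel]
  ext g
  simp

theorem BPLE.inf_Nn_le_stabP {P Q : Subgroup G} {e f : GA k G} (he : IsBP p P e)
    (hle : BPLE p (Q, f) (P, e)) : P ⊓ Nn Q ≤ stabP Q f := by
  obtain ⟨g, hg, _⟩ := hle.exists_nsub_mid he (R := P ⊓ Nn Q)
    (le_inf hle.le Subgroup.le_normalizer) inf_le_left inf_le_right
  exact fun x hx => ⟨(Subgroup.mem_inf.1 hx).2, hg.2.2.2.2.1 x hx⟩

/-- fully centralised pairs -/
theorem IsMaxBP.fullyCentralized_iff {b e f : GA k G} {P Q : Subgroup G} (h : IsMaxBP p b P e)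
    (hle : BPLE p (Q, f) (P, e)) :
    (∀ x : G, BPLE p (cS x Q, cj x f) (P, e) →
      Nat.card (P ⊓ Cn (cS x Q) : Subgroup G) ≤ Nat.card (P ⊓ Cn Q : Subgroup G)) ↔
    IsDef p (Cn Q) f (P ⊓ Cn Q) := by
  have he : IsBP p P e := h.1.1
  constructor
  · intro hall
    obtain ⟨x, hx, hdef⟩ := h.exists_conj_isDef_Cn hle
    obtain ⟨D, hD, hPD⟩ := hle.exists_isDef_Cn he
    have hD' := hD.cj x
    rw [cS_Cn] at hD'
    have h2 : P ⊓ Cn Q = D := by
      apply Subgroup.eq_of_le_of_card_ge hPD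
      rw [← card_cS x D, hdef.card_eq hD']
      exact hall x hx
    rw [h2]; exact hD
  · intro hdef x hx
    obtain ⟨D, hD, hPD⟩ := hx.exists_isDef_Cn he
    have hdef' := hdef.cj x
    rw [cS_Cn] at hdef'
    rw [← card_cS x (P ⊓ Cn Q), hD.card_eq hdef']
    exact Subgroup.card_le_of_le hPD

/-- fully normalised pairs -/
theorem IsMaxBP.fullyNormalized_iff {b e f : GA k G} {P Q : Subgroup G} (h : IsMaxBP p b P e)
    (hle : BPLE p (Q, f) (P, e)) :
    (∀ x : G, BPLE p (cS x Q, cj x f) (P, e) →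
      Nat.card (P ⊓ Nn (cS x Q) : Subgroup G) ≤ Nat.card (P ⊓ Nn Q : Subgroup G)) ↔
    IsDef p (stabP Q f) f (P ⊓ Nn Q) := by
  have he : IsBP p P e := h.1.1
  constructor
  · intro hall
    obtain ⟨x, hx, hdef⟩ := h.exists_conj_isDef_stabP hle
    obtain ⟨D, hD, hPD⟩ := hle.exists_isDef_stabP he
    have hD' := hD.cj x
    rw [cS_stabP] at hD'
    have h2 : P ⊓ Nn Q = D := by
      apply Subgroup.eq_of_le_of_card_ge hPD
      rw [← card_cS x D, hdef.card_eq hD']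
      exact hall x hx
    rw [h2]; exact hD
  · intro hdef x hx
    obtain ⟨D, hD, hPD⟩ := hx.exists_isDef_stabP he
    have hdef' := hdef.cj x
    rw [cS_stabP] at hdef'
    rw [← card_cS x (P ⊓ Nn Q), hD.card_eq hdef']
    exact Subgroup.card_le_of_le hPD

/-- centric pairs -/
theorem IsMaxBP.centric_iff {b e f : GA k G} {P Q : Subgroup G} (h : IsMaxBP p b P e)
    (hle : BPLE p (Q, f) (P, e)) :
    (∀ x : G, BPLE p (cS x Q, cj x f) (P, e) → P ⊓ Cn (cS x Q) ≤ cS x Q) ↔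
    IsDef p (Cn Q) f (Q ⊓ Cn Q) := by
  have he : IsBP p P e := h.1.1
  constructor
  · intro hall
    obtain ⟨x, hx, hdef⟩ := h.exists_conj_isDef_Cn hle
    have h1 : P ⊓ Cn (cS x Q) = cS x (Q ⊓ Cn Q) := by
      rw [cS_inf, cS_Cn]
      apply le_antisymm
      · exact le_inf (hall x hx) inf_le_right
      · exact inf_le_inf_right _ hx.le
    rw [h1] at hdef
    have h2 := hdef.cj x⁻¹
    rwa [cS_inv_cS, cj_inv_cj, cS_Cn, cS_inv_cS] at h2
  · intro hdef x hx
    obtain ⟨D, hD, hPD⟩ := hx.exists_isDef_Cn he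
    have hdef' := hdef.cj x
    rw [cS_Cn] at hdef'
    have h1 : cS x (Q ⊓ Cn Q) ≤ D := by
      rw [cS_inf, cS_Cn]
      exact (inf_le_inf_right _ hx.le).trans hPD
    have h2 : cS x (Q ⊓ Cn Q) = D :=
      Subgroup.eq_of_le_of_card_ge h1 (hdef'.card_eq hD).le
    calc P ⊓ Cn (cS x Q) ≤ D := hPD
      _ = cS x (Q ⊓ Cn Q) := h2.symm
      _ ≤ cS x Q := cS_mono x inf_le_left

end GA

end Cfsg.Agent.Lib.Helper80
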