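import Mathlib
import Cfsg.Agent.Lib.Helper80.GADef2
import Cfsg.Agent.Lib.Helper80.GALocal

set_option autoImplicit false
set_option linter.unusedSectionVars false
set_option linter.style.haveILetI false

namespace Cfsg.Agent.Lib.Helper80

open scoped BigOperators
open Cfsg Cfsg.Agent.Lib.Helper81 Cfsg.Agent.Lib.Helper20 GA

variable {p : ℕ} {M : Ideal AlgInt} (hM : IsPModular p M)

section typelevel

variable {H : Type*} [Group H] [Fintype H]

/-- two exact central idempotents with locally integral coefficients that agree modulo the local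
ideal are equal -/
theorem eq_of_red_eq_of_idem {u v : H → ℂ} (hu : IsClassFunction H u) (hv : IsClassFunction H v)
    (huR : RV M u) (hvR : RV M v) (huu : conv u u = u) (hvv : conv v v = v)
    (h : red hM u = red hM v) : u = v := by
  apply eq_of_omega_eq hu hv
  intro χ
  have h1 := omega_sub_mem_of_red_eq hM χ hu hv huR hvR h
  have ha : omega (χ : H → ℂ) u * omega (χ : H → ℂ) u = omega (χ : H → ℂ) u := by
    rw [← omega_conv χ.2 _ _ hu, huu]
  have hb : omega (χ : H → ℂ) v * omega (χ : H → ℂ) v = omega (χ : H → ℂ) v := by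
    rw [← omega_conv χ.2 _ _ hv, hvv]
  have ha' : omega (χ : H → ℂ) u = 0 ∨ omega (χ : H → ℂ) u = 1 := by
    have : omega (χ : H → ℂ) u * (omega (χ : H → ℂ) u - 1) = 0 := by rw [mul_sub, ha]; ring
    rcases mul_eq_zero.1 this with h | h
    · left; exact h
    · right; exact sub_eq_zero.1 h
  have hb' : omega (χ : H → ℂ) v = 0 ∨ omega (χ : H → ℂ) v = 1 := by
    have : omega (χ : H → ℂ) v * (omega (χ : H → ℂ) v - 1) = 0 := by rw [mul_sub, hb]; ring
    rcases mul_eq_zero.1 this with h | h
    · left; exact h
    · right; exact sub_eq_zero.1 h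
  rcases ha' with ha' | ha' <;> rcases hb' with hb' | hb'
  · rw [ha', hb']
  · exfalso
    rw [ha', hb', zero_sub] at h1
    have := memLocalIdeal_neg h1
    rw [neg_neg] at this
    exact not_memLocalIdeal_one hM this
  · exfalso
    rw [ha', hb', sub_zero] at h1
    exact not_memLocalIdeal_one hM h1
  · rw [ha', hb']

end typelevel

variable {G : Type*} [Group G] [Fintype G]

/-- a function regarded as an element of the group algebra -/
def GA.mk {k : Type*} {X : Type*} (a : X → k) : GA k X := a

theorem GA.mk_apply {k : Type*} {X : Type*} (a : X → k) (x : X) : GA.mk a x = a x := rfl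

theorem GA.mk_conv {X : Type*} [Group X] [Fintype X] (a b : X → ℂ) :
    GA.mk (conv a b) = GA.mk a * GA.mk b := rfl

theorem GA.mk_injective {k : Type*} {X : Type*} {a b : X → k} (h : GA.mk a = GA.mk b) : a = b := h

theorem subgroupBlockCoeff_eq_emb (K : Subgroup G) (f : Set (IrrCharacter K)) :
    GA.mk (subgroupBlockCoeff K f) = emb K (GA.mk (blockCoeff f)) := by
  ext g
  by_cases hg : g ∈ K
  · rw [GA.mk_apply, subgroupBlockCoeff_mem K f hg]
    exact (emb_apply_mem K _ hg).symm
  · rw [GA.mk_apply, subgroupBlockCoeff_not_mem K f hg]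
    exact (emb_apply_not_mem K _ hg).symm

/-- the idempotent of a set of characters of a subgroup is an idempotent of `ℂG` -/
theorem subgroupBlockCoeff_idem (K : Subgroup G) (f : Set (IrrCharacter K)) :
    GA.mk (subgroupBlockCoeff K f) * GA.mk (subgroupBlockCoeff K f)
      = GA.mk (subgroupBlockCoeff K f) := by
  haveI : Fintype K := Fintype.ofFinite K
  rw [subgroupBlockCoeff_eq_emb, ← emb_mul, ← GA.mk_conv, conv_blockCoeff_self f]

theorem cjSet_eq_self_of_cj_eq (K : Subgroup G) {f : Set (IrrCharacter K)} (hf : IsPBlock M f)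
    {x : G} (hx : x ∈ Subgroup.normalizer (K : Set G)) (h : cj x (bl hM K f) = bl hM K f) :
    cjSet K K x f = f := by
  have hK := mem_iff_of_mem_normalizer hx
  have hblk := isPBlock_cjSet (M := M) hK hf
  rw [← bl_cjSet hM hK] at h
  exact bl_injective hM K hblk hf h

/-- exact invariance of the idempotent under the stabiliser -/
theorem subgroupBlockCoeff_conj_of_cj_eq (K : Subgroup G) {f : Set (IrrCharacter K)}
    (hf : IsPBlock M f) {x : G} (hx : x ∈ Subgroup.normalizer (K : Set G))
    (h : cj x (bl hM K f) = bl hM K f) (g : G) :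
    subgroupBlockCoeff K f (x⁻¹ * g * x) = subgroupBlockCoeff K f g := by
  have hK := mem_iff_of_mem_normalizer hx
  rw [← subgroupBlockCoeff_cjSet hK, cjSet_eq_self_of_cj_eq hM K hf hx h]

/-- If the reductions agree, the idempotent of the block `F` of `T` is exactly the idempotent of
the block `f` of `K ≤ T`. -/
theorem blockCoeff_eq_of_bl_eq {T K : Subgroup G} (hKT : K ≤ T)
    (hTN : T ≤ Subgroup.normalizer (K : Set G)) {F : Set (IrrCharacter T)}
    {f : Set (IrrCharacter K)} (hF : IsPBlock M F) (hf : IsPBlock M f)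
    (h : bl hM T F = bl hM K f) (t : T) :
    blockCoeff F t = subgroupBlockCoeff K f (t : G) := by
  haveI : Fintype T := Fintype.ofFinite T
  have hfix : FixBy T (bl hM K f) := by rw [← h]; exact (isBlk_bl hM T hF).inZ.2
  obtain ⟨v, hv0⟩ : ∃ v : T → ℂ, v = fun t : T => subgroupBlockCoeff K f (t : G) := ⟨_, rfl⟩
  have hv : IsClassFunction T v := by
    intro g y
    rw [hv0]
    have := subgroupBlockCoeff_conj_of_cj_eq hM K hf (hTN (T.inv_mem y.2))
      (hfix _ (T.inv_mem y.2)) (g : G)
    simpa using this
  have hvR : RV M v := fun t => by rw [hv0]; exact RV_subgroupBlockCoeff hM K hf _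
  have hsupp : SuppOn T (GA.mk (subgroupBlockCoeff K f)) := fun g hg =>
    subgroupBlockCoeff_not_mem K f (fun h => hg (hKT h))
  have hemb : emb T (GA.mk v) = GA.mk (subgroupBlockCoeff K f) := by
    rw [hv0]; exact emb_rst T hsupp
  have hvv : conv v v = v := by
    apply GA.mk_injective
    apply emb_injective T
    rw [GA.mk_conv, emb_mul, hemb, subgroupBlockCoeff_idem]
  have hred : red hM (blockCoeff F) = red hM v := by
    ext t
    have := congrArg (fun c : GA (Kr hM) G => c (t : G)) h
    simp only [bl, red_apply] at this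
    rw [subgroupBlockCoeff_mem T F t.2] at this
    rw [red_apply, red_apply, hv0]
    exact this
  have := eq_of_red_eq_of_idem hM (blockCoeff_classFunction F) hv (RV_blockCoeff hM hF) hvR
    (conv_blockCoeff_self F) hvv hred
  rw [this, hv0]

end Cfsg.Agent.Lib.Helper80
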