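import Mathlib
import Cfsg.Agent.Lib.Helper80.GAExact

set_option autoImplicit false
set_option linter.unusedSectionVars false
set_option linter.style.haveILetI false

namespace Cfsg.Agent.Lib.Helper80

open scoped BigOperators
open Cfsg Cfsg.Agent.Lib.Helper81 Cfsg.Agent.Lib.Helper20 GA

variable {p : ℕ} [Fact p.Prime] {M : Ideal AlgInt} (hM : IsPModular p M)
  {G : Type*} [Group G] [Fintype G]

theorem eq_stabP_of_forall {Q : Subgroup G} {f : Set (IrrCharacter (Cn Q))} (hf : IsPBlock M f)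
    {T : Subgroup G}
    (hT : ∀ y : G, y ∈ T ↔ y ∈ Nn Q ∧ StabilizesBlock (Cn Q) f y) :
    T = stabP Q (bl hM (Cn Q) f) := by
  ext y
  rw [hT y, mem_stabP]
  constructor
  · rintro ⟨h1, h2⟩
    exact ⟨h1, (stabilizesBlock_iff hM _ hf (Nn_le_normalizer_Cn Q h1)).1 h2⟩
  · rintro ⟨h1, h2⟩
    exact ⟨h1, (stabilizesBlock_iff hM _ hf (Nn_le_normalizer_Cn Q h1)).2 h2⟩

/-- the block of a group `T` between `Q C(Q)` and `N(Q)` fixing `f` having the same idempotent -/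
theorem exists_block_same_idem {Q T : Subgroup G} {f : Set (IrrCharacter (Cn Q))}
    (hQf : IsBrauerPair p M Q f) (hQT : Q ≤ T) (hCT : Cn Q ≤ T) (hTN : T ≤ Nn Q)
    (hfix : FixBy T (bl hM (Cn Q) f)) :
    ∃ F : Set (IrrCharacter T), IsPBlock M F ∧ bl hM T F = bl hM (Cn Q) f ∧
      ∀ t : T, blockCoeff F t = subgroupBlockCoeff (Cn Q) f (t : G) := by
  have h1 : IsBlk T (bl hM (Cn Q) f) :=
    (isBP_of_isBrauerPair hM hQf).isBlk_of_fix hQT hCT hTN hfix
  obtain ⟨F, hF, hFe⟩ := exists_block_of_isBlk_sub hM T h1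
  exact ⟨F, hF, hFe.symm, blockCoeff_eq_of_bl_eq hM hCT (hTN.trans (Nn_le_normalizer_Cn Q)) hF
    hQf.2 hFe.symm⟩

theorem exists_block_stabP {Q : Subgroup G} {f : Set (IrrCharacter (Cn Q))}
    (hQf : IsBrauerPair p M Q f) :
    ∃ F : Set (IrrCharacter (stabP Q (bl hM (Cn Q) f))), IsPBlock M F ∧
      bl hM _ F = bl hM (Cn Q) f ∧
      ∀ t : stabP Q (bl hM (Cn Q) f), blockCoeff F t = subgroupBlockCoeff (Cn Q) f (t : G) :=
  have h := (isBP_of_isBrauerPair hM hQf).2.inZ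
  exists_block_same_idem hM hQf (le_stabP h) (Cn_le_stabP h) (stabP_le_Nn _ _) (fixBy_stabP _ _)

end Cfsg.Agent.Lib.Helper80
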