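import Mathlib
import Cfsg.Prelude.Def_BlockFusion
import Cfsg.Agent.Lib.Helper80.GAFus
import Cfsg.Agent.Lib.Helper80.GADef2
import Cfsg.Agent.Lib.Helper80.GATrans3
import Cfsg.Agent.Lib.Helper80.GAStab

set_option autoImplicit false
set_option linter.unusedSectionVars false
set_option linter.style.haveILetI false

namespace Cfsg.Agent.Lib.Helper80

open scoped BigOperators
open Cfsg Cfsg.Agent.Lib.Helper81 Cfsg.Agent.Lib.Helper20 GA

variable {p : ℕ} [Fact p.Prime] {M : Ideal AlgInt} (hM : IsPModular p M)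
  {G : Type*} [Group G] [Fintype G]

/-- converse of `isDefectGroup_of_isDef_sub` -/
theorem isDef_sub_of_isDefectGroup (H : Subgroup G) {f : Set (IrrCharacter H)}
    (hf : IsPBlock M f) {D : Subgroup G} (hD : D ≤ H)
    (h : IsDefectGroup p M f (D.subgroupOf H)) : IsDef p H (bl hM H f) D := by
  haveI : Fintype H := Fintype.ofFinite H
  obtain ⟨D0, hD0⟩ := (isBlk_bl hM H hf).exists_isDef (p := p)
  have h0 := isDefectGroup_of_isDef_sub hM H hf hD0
  obtain ⟨x, _, hx⟩ := (isDef_of_isDefectGroup hM hf h0).exists_conj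
    (isDef_of_isDefectGroup hM hf h)
  have h1 : D = cS (x : G) D0 := by
    ext g
    constructor
    · intro hg
      have h2 : (⟨g, hD hg⟩ : H) ∈ D.subgroupOf H := by
        rw [Subgroup.mem_subgroupOf]; exact hg
      rw [hx, mem_cS, Subgroup.mem_subgroupOf] at h2
      rw [mem_cS]
      simpa using h2
    · intro hg
      have hgH : g ∈ H := cS_le_of_mem x.2 hD0.le hg
      have h2 : (⟨g, hgH⟩ : H) ∈ D.subgroupOf H := by
        rw [hx, mem_cS, Subgroup.mem_subgroupOf]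
        rw [mem_cS] at hg
        simpa using hg
      rw [Subgroup.mem_subgroupOf] at h2
      exact h2
  rw [h1]
  exact hD0.conj (isBlk_bl hM H hf).inZ.2 x.2

theorem isDefectGroup_sub_iff (H : Subgroup G) {f : Set (IrrCharacter H)}
    (hf : IsPBlock M f) {D : Subgroup G} (hD : D ≤ H) :
    IsDefectGroup p M f (D.subgroupOf H) ↔ IsDef p H (bl hM H f) D :=
  ⟨isDef_sub_of_isDefectGroup hM H hf hD, isDefectGroup_of_isDef_sub hM H hf⟩

theorem range_eq_cS {Q : Subgroup G} {φ : Q →* G} {g : G}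
    (h : ∀ u : Q, φ u = g * (u : G) * g⁻¹) : φ.range = cS g Q := by
  ext y
  rw [mem_cS, MonoidHom.mem_range]
  constructor
  · rintro ⟨u, rfl⟩
    rw [h u]
    simp [mul_assoc]
  · intro hy
    refine ⟨⟨_, hy⟩, ?_⟩
    rw [h]
    simp [mul_assoc]

/-- membership in the fusion system of a block, in abstract terms -/
theorem mem_hom_iff {B : Set (IrrCharacter G)} {P : Subgroup G}
    {e : Set (IrrCharacter (Cn P))} {F : FusionSystem P}
    (hF : IsBlockFusionSystemOn p M B P e F) {Q : Subgroup G} {f : Set (IrrCharacter (Cn Q))}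
    (hf : IsPBlock M f) (hle : SubpairLE p M Q f P e) (φ : Q →* G) :
    φ ∈ F.Hom Q ↔ ∃ g : G, (∀ u : Q, φ u = g * (u : G) * g⁻¹) ∧
      BPLE p (cS g Q, cj g (bl hM (Cn Q) f)) (P, bl hM (Cn P) e) := by
  have hPe : IsBrauerPair p M P e := hF.1.1.1
  have he : IsBP p P (bl hM (Cn P) e) := isBP_of_isBrauerPair hM hPe
  have hle' := bple_of_subpairLE hM hle
  have hQP : Q ≤ P := hle'.le
  have hQf : IsBrauerPair p M Q f := ⟨hPe.1.to_le hQP, hf⟩
  rw [hF.2 Q φ]
  constructor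
  · rintro ⟨_, g, hg, _, f', h1, h2⟩
    refine ⟨g, hg, ?_⟩
    have h1' := bple_of_subpairLE hM h1
    have h2' := bple_of_subpairLE hM h2
    have h3 : bl hM (Cn Q) f' = bl hM (Cn Q) f := he.subpair_unique _ Q _ _ rfl h1' hle'
    have h4 := bl_conjBlock hM Q g f'
    rw [h3] at h4
    have h5 : BPLE p (cS g Q, bl hM (Cn (cS g Q)) (conjBlock Q g f')) (P, bl hM (Cn P) e) := h2'
    rw [h4] at h5
    exact h5
  · rintro ⟨g, hg, h1⟩
    refine ⟨hQP, g, hg, h1.le, f, hle, ?_⟩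
    have h2 : SubpairLE p M (cS g Q) (conjBlock Q g f) P e := by
      rw [subpairLE_iff hM hPe (isBrauerPair_conjBlock hQf g), bl_conjBlock]
      exact h1
    exact h2

theorem isConj_iff {B : Set (IrrCharacter G)} {P : Subgroup G}
    {e : Set (IrrCharacter (Cn P))} {F : FusionSystem P}
    (hF : IsBlockFusionSystemOn p M B P e F) {Q : Subgroup G} {f : Set (IrrCharacter (Cn Q))}
    (hf : IsPBlock M f) (hle : SubpairLE p M Q f P e) (Q' : Subgroup G) :
    F.IsConj Q Q' ↔ ∃ g : G, Q' = cS g Q ∧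
      BPLE p (cS g Q, cj g (bl hM (Cn Q) f)) (P, bl hM (Cn P) e) := by
  constructor
  · rintro ⟨φ, hφ, rfl⟩
    obtain ⟨g, hg, h1⟩ := (mem_hom_iff hM hF hf hle φ).1 hφ
    exact ⟨g, range_eq_cS hg, h1⟩
  · rintro ⟨g, rfl, h1⟩
    exact ⟨conjHom Q g, (mem_hom_iff hM hF hf hle _).2 ⟨g, fun _ => rfl, h1⟩,
      range_eq_cS (fun _ => rfl)⟩

end Cfsg.Agent.Lib.Helper80
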