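import Cfsg.Agent.Lib.Helper80.BRCaseB3
import Cfsg.Agent.Lib.Helper69.BRZ
import Cfsg.Agent.Lib.Helper41.BRCITR
import Cfsg.Agent.Lib.Helper41.BRQ
import Cfsg.Agent.Lib.Helper41.BRSLPSL

/-! Brauer--Reynolds ladder: the main theorems. -/

set_option autoImplicit false
set_option linter.unusedVariables false
set_option linter.unusedSectionVars false

namespace Cfsg.Agent.Lib.Helper80.BR

open Cfsg Cfsg.Agent.Lib Cfsg.Agent.Lib.Helper67.BR Cfsg.Agent.Lib.Helper9.BR Cfsg.Agent.Lib.Helper41.BR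

/-- the self-centralising case -/
theorem core {G : Type*} [Group G] [Finite G] (hperf : commutator G = ⊤) (p : ℕ)
    [hp : Fact p.Prime] (z : G) (hz : orderOf z = p)
    (hC : Subgroup.centralizer ({z} : Set G) = Subgroup.zpowers z) (n : ℕ)
    (hn : Nat.card (Sylow p G) = 1 + n * p) (hF : ¬ FForm p n) :
    (∃ (F : Type) (_ : Field F) (_ : Fintype F), Fintype.card F = p ∧ 3 < p ∧
      Nonempty (G ≃* Matrix.ProjectiveSpecialLinearGroup (Fin 2) F)) ∨
    (∃ (m : ℕ) (F : Type) (_ : Field F) (_ : Fintype F), Fintype.card F = 2 ^ m ∧ p = 2 ^ m + 1 ∧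
      3 < p ∧ Nonempty (G ≃* Matrix.ProjectiveSpecialLinearGroup (Fin 2) F)) := by
  classical
  have := Fintype.ofFinite G
  have := Fintype.ofFinite (IrrCharacter G)
  obtain ⟨A, B, Y, Z, ε, y, e, t, H⟩ := exists_pat hperf p z hz hC n hn hF
  have he2 := H.he2
  have het := H.het
  have fin1 : n = 1 ∧ t = 2 → (∃ (F : Type) (_ : Field F) (_ : Fintype F), Fintype.card F = p ∧
      3 < p ∧ Nonempty (G ≃* Matrix.ProjectiveSpecialLinearGroup (Fin 2) F)) := by
    rintro ⟨rfl, rfl⟩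
    have hp3 : 3 < p := by omega
    apply Cfsg.Agent.Lib.Helper69.BR.recog_n_one hperf p hp3 z hz hC (by rw [hn, one_mul])
    rw [H.cardG, ← het]
    ring
  have hεcases : ε = 1 ∨ ε = -1 := by
    rcases H.epsy with h | h
    · exact Or.inr h.1
    · exact Or.inl h.1
  rcases hεcases with hε | hε
  · exact Or.inl (fin1 (H.caseA hperf z hz hC hε))
  · obtain ⟨hty, c, hc1, hnc, hec, hyc, hbc⟩ := H.numB hε
    obtain ⟨f, M⟩ := H.multB hε z hz hC hc1 hnc hec hty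
    have hc := H.c_one z hz hC hc1 hnc hec M
    subst hc
    rw [one_mul] at hnc hyc
    have hev := H.t_even hperf z hz hC (by omega)
    by_cases ht2 : t = 2
    · exact Or.inl (fin1 ⟨by omega, ht2⟩)
    · right
      have ht4 : 4 ≤ t := by
        obtain ⟨k, hk⟩ := hev
        have : 1 ≤ t := by omega
        omega
      obtain ⟨w₀, ho, hconj, hcw, hG⟩ := H.caseB_invol hε z hz hC hnc
        (by rw [hec, hnc]) hyc hty ht4 hev M
      have hp5 : 5 < p := by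
        have : 4 * 2 ≤ t * e := Nat.mul_le_mul ht4 he2
        omega
      exact Cfsg.Agent.Lib.Helper41.BR.cit_recog p hp5 w₀ ho hconj hcw hG

/-- a character of degree `p - 1` in the principal block -/
theorem exists_deg_pred {G : Type*} [Group G] [Finite G] (hperf : commutator G = ⊤) (p : ℕ)
    [hp : Fact p.Prime] (P : Sylow p G)
    (hP : Nat.card P = p) {X Y : Finset (IrrCharacter G)} {s : IrrCharacter G → ℤ} {ε : ℤ}
    (D : Dat p (P : Subgroup G) X Y s ε) (n : ℕ) (hn : Nat.card (Sylow p G) = 1 + n * p)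
    (hF : ¬ FForm p n) : ∃ χ ∈ X, s χ = -1 ∧ charDegree (χ : G → ℂ) = p - 1 := by
  classical
  obtain ⟨pX, pY⟩ := pattern hperf p P hP D n hn hF
  by_contra hcon
  push Not at hcon
  have hp2 : 2 ≤ p := hp.out.two_le
  have hall : ∀ χ ∈ X.erase (Helper82.trivIrr G),
      s χ * (charDegree (χ : G → ℂ) : ℤ) = ((1 + n * p : ℕ) : ℤ) := by
    intro χ hχ
    rcases pX χ (Finset.mem_of_mem_erase hχ) (Finset.ne_of_mem_erase hχ) with h | h
    · rw [h.1, h.2, one_mul]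
    · exact absurd h.2 (hcon χ (Finset.mem_of_mem_erase hχ) h.1)
  have hn0 : n ≠ 0 := by
    rintro rfl
    exact card_sylow_ne_one hperf p P hP (by rw [hn]; simp)
  have he2 : 2 ≤ X.card := by
    rw [D.cardX]; exact two_le_relIndex hperf p P hP
  obtain ⟨θ0, hθ0⟩ : Y.Nonempty := by
    rw [← Finset.card_pos]
    rcases Nat.eq_zero_or_pos Y.card with h | h
    · have := D.cardY
      rw [h, zero_mul] at this
      omega
    · exact h
  have h1 := D.rel_one hθ0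
  rw [← Finset.add_sum_erase X _ D.triv, D.s_triv hP, deg_triv, Finset.sum_congr rfl hall,
    Finset.sum_const, Finset.card_erase_of_mem D.triv, nsmul_eq_mul] at h1
  have h2 : (1 : ℤ) ≤ ((X.card - 1 : ℕ) : ℤ) := by
    have : 1 ≤ X.card - 1 := by omega
    exact_mod_cast this
  have h3 : ((p : ℤ) + 1) ≤ ((1 + n * p : ℕ) : ℤ) := by
    have : 1 * p ≤ n * p := Nat.mul_le_mul_right p (Nat.one_le_iff_ne_zero.2 hn0)
    have h4 : p + 1 ≤ 1 + n * p := by omega
    exact_mod_cast h4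
  have h5 : ((p : ℤ) + 1) ≤ ((X.card - 1 : ℕ) : ℤ) * ((1 + n * p : ℕ) : ℤ) := by nlinarith
  have hy0 : (0 : ℤ) ≤ (charDegree (θ0 : G → ℂ) : ℤ) := Int.natCast_nonneg _
  rcases pY θ0 hθ0 with h | h
  · rw [h.1] at h1
    push_cast at h1 h5
    nlinarith
  · rw [h.1] at h1
    have ht0 : 0 < Y.card := Finset.card_pos.2 ⟨θ0, hθ0⟩
    have h6 : charDegree (θ0 : G → ℂ) ≤ p - 1 := by
      rw [← h.2]; exact Nat.le_mul_of_pos_left _ ht0
    have h7 : (charDegree (θ0 : G → ℂ) : ℤ) ≤ (p : ℤ) - 1 := by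
      have : ((charDegree (θ0 : G → ℂ) : ℕ) : ℤ) ≤ ((p - 1 : ℕ) : ℤ) := by exact_mod_cast h6
      rwa [Nat.cast_sub (by omega : 1 ≤ p), Nat.cast_one] at this
    push_cast at h1 h5
    nlinarith

/-- the general case -/
theorem main {G : Type*} [Group G] [Finite G] (hperf : commutator G = ⊤) (p : ℕ)
    [hp : Fact p.Prime] (P : Sylow p G) (hP : Nat.card P = p) (n : ℕ)
    (hn : Nat.card (Sylow p G) = 1 + n * p) :
    (∃ (F : Type) (_ : Field F) (_ : Fintype F), Fintype.card F = p ∧ 3 < p ∧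
      Nonempty (G ⧸ Cfsg.pPrimeCore p G ≃* Matrix.ProjectiveSpecialLinearGroup (Fin 2) F)) ∨
    (∃ (m : ℕ) (F : Type) (_ : Field F) (_ : Fintype F), Fintype.card F = 2 ^ m ∧ p = 2 ^ m + 1 ∧
      3 < p ∧ Nonempty (G ⧸ Cfsg.pPrimeCore p G ≃* Matrix.SpecialLinearGroup (Fin 2) F)) ∨
    (∃ h u : ℕ, 0 < h ∧ 0 < u ∧ n * (u + 1) = h * u * p + u ^ 2 + u + h) := by
  classical
  obtain ⟨hperf', ⟨Q, hQ⟩, hdvd, hcore⟩ := quot_pack hperf p P hP
  obtain ⟨n', hn'⟩ : ∃ n' : ℕ, Nat.card (Sylow p (G ⧸ Cfsg.pPrimeCore p G)) = 1 + n' * p := by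
    have h := card_sylow_modEq_one p (G ⧸ Cfsg.pPrimeCore p G)
    have hpos : 0 < Nat.card (Sylow p (G ⧸ Cfsg.pPrimeCore p G)) := Nat.card_pos
    obtain ⟨k, hk⟩ := (Nat.modEq_iff_dvd' hpos).1 h.symm
    exact ⟨k, by rw [mul_comm]; omega⟩
  by_cases hF : FForm p n'
  · right; right
    obtain ⟨r, hr⟩ := hdvd
    rw [hn, hn'] at hr
    exact fform_mul hp.out.two_le hF hr
  · obtain ⟨X, Y, s, ε, D⟩ := data hperf' p Q hQ
    obtain ⟨χ, hχ, hs, hd⟩ := exists_deg_pred hperf' p Q hQ D n' hn' hF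
    obtain ⟨z, hz, hC⟩ := self_cent_of_deg_pred p Q hQ χ hd (by
      intro x hx hx1 y hy hyp
      rw [D.valX χ hχ x hx hx1 y hy hyp, hs]; simp) hcore
    rcases core hperf' p z hz hC n' hn' hF with h | ⟨m, F, i1, i2, h1, h2, h3, ⟨φ⟩⟩
    · exact Or.inl h
    · right; left
      obtain ⟨ψ⟩ := psl_equiv_sl F m h1
      exact ⟨m, F, i1, i2, h1, h2, h3, ⟨φ.trans ψ⟩⟩

end Cfsg.Agent.Lib.Helper80.BR
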