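import Mathlib
import Cfsg.Agent.Lib.Helper80.GAEmb
import Cfsg.Agent.Lib.Helper80.GAFus

set_option autoImplicit false
set_option linter.unusedSectionVars false
set_option linter.style.haveILetI false

namespace Cfsg.Agent.Lib.Helper80

open scoped BigOperators

namespace GA

variable {k : Type*} {G : Type*} [Field k] [Group G] [Fintype G] (L : Subgroup G) [Fintype L]

/-- the image in `G` of a subgroup of `L` -/
abbrev up (R : Subgroup L) : Subgroup G := R.map L.subtype

theorem mem_up {R : Subgroup L} {g : G} : g ∈ up L R ↔ ∃ h : g ∈ L, (⟨g, h⟩ : L) ∈ R := by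
  constructor
  · rintro ⟨x, hx, rfl⟩
    exact ⟨x.2, hx⟩
  · rintro ⟨h, hx⟩
    exact ⟨⟨g, h⟩, hx, rfl⟩

theorem coe_mem_up {R : Subgroup L} {x : L} : (x : G) ∈ up L R ↔ x ∈ R := by
  rw [mem_up]
  constructor
  · rintro ⟨_, hx⟩; exact hx
  · intro hx; exact ⟨x.2, hx⟩

theorem up_le (R : Subgroup L) : up L R ≤ L := by
  rintro _ ⟨x, _, rfl⟩; exact x.2

theorem up_le_up {R S : Subgroup L} : up L R ≤ up L S ↔ R ≤ S :=
  Subgroup.map_le_map_iff_of_injective L.subtype_injective

theorem up_injective : Function.Injective (up L) :=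
  Subgroup.map_injective L.subtype_injective

theorem up_subgroupOf {R : Subgroup G} (h : R ≤ L) : up L (R.subgroupOf L) = R :=
  Subgroup.map_subgroupOf_eq_of_le h

theorem up_top : up L ⊤ = L := by
  ext g
  rw [mem_up]
  constructor
  · rintro ⟨h, _⟩; exact h
  · intro h; exact ⟨h, Subgroup.mem_top _⟩

theorem up_Cn (R : Subgroup L) : up L (Cn R) = L ⊓ Cn (up L R) := by
  ext g
  rw [mem_up, Subgroup.mem_inf]
  constructor
  · rintro ⟨h, hg⟩
    refine ⟨h, ?_⟩
    rw [mem_Cn]
    rintro _ ⟨u, hu, rfl⟩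
    have := mem_Cn.1 hg u hu
    exact congrArg (fun t : L => (t : G)) this
  · rintro ⟨h, hg⟩
    refine ⟨h, ?_⟩
    rw [mem_Cn]
    intro u hu
    apply Subtype.ext
    exact mem_Cn.1 hg u ((coe_mem_up L).2 hu)

theorem up_cS (x : L) (R : Subgroup L) : up L (cS x R) = cS (x : G) (up L R) := by
  ext g
  rw [mem_up, mem_cS, mem_up]
  constructor
  · rintro ⟨h, hg⟩
    rw [mem_cS] at hg
    exact ⟨L.mul_mem (L.mul_mem (L.inv_mem x.2) h) x.2, hg⟩
  · rintro ⟨h, hg⟩
    have hgL : g ∈ L := by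
      have := L.mul_mem (L.mul_mem x.2 h) (L.inv_mem x.2)
      simpa [mul_assoc] using this
    refine ⟨hgL, ?_⟩
    rw [mem_cS]
    exact hg

theorem up_Nn (R : Subgroup L) : up L (Nn R) = L ⊓ Nn (up L R) := by
  ext g
  rw [mem_up, Subgroup.mem_inf]
  constructor
  · rintro ⟨h, hg⟩
    refine ⟨h, ?_⟩
    have h1 : cS (⟨g, h⟩ : L) R = R := cS_eq_self_of_mem_Nn hg
    have h2 := up_cS L ⟨g, h⟩ R
    rw [h1] at h2
    rw [Subgroup.mem_normalizer_iff]
    intro y
    constructor
    · intro hy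
      rw [h2, mem_cS]
      simpa [mul_assoc] using hy
    · intro hy
      rw [h2, mem_cS] at hy
      simpa [mul_assoc] using hy
  · rintro ⟨h, hg⟩
    refine ⟨h, ?_⟩
    rw [Subgroup.mem_normalizer_iff]
    intro y
    have := (Subgroup.mem_normalizer_iff.1 hg) (y : G)
    rw [coe_mem_up] at this
    rw [this]
    exact (coe_mem_up L (x := ⟨g, h⟩ * y * ⟨g, h⟩⁻¹))

theorem isPGroup_up {p : ℕ} {R : Subgroup L} : IsPGroup p (up L R) ↔ IsPGroup p R := by
  constructor
  · intro h
    have := h.comap_of_injective L.subtype L.subtype_injective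
    rwa [Subgroup.comap_map_eq_self_of_injective L.subtype_injective] at this
  · intro h; exact h.map _

theorem le_Nn_up {P Q : Subgroup L} : up L P ≤ Nn (up L Q) ↔ P ≤ Nn Q := by
  rw [← up_le_up L, up_Nn]
  constructor
  · intro h; exact le_inf (up_le L P) h
  · intro h; exact h.trans inf_le_right

theorem emb_trunc (H : Subgroup L) (a : GA k L) :
    emb L (trunc H a) = trunc (up L H) (emb L a) := by
  ext g
  by_cases hg : g ∈ L
  · rw [emb_apply_mem L _ hg]
    by_cases hgH : (⟨g, hg⟩ : L) ∈ H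
    · rw [trunc_apply_mem _ hgH, trunc_apply_mem _ ((mem_up L).2 ⟨hg, hgH⟩), emb_apply_mem L _ hg]
    · rw [trunc_apply_not_mem _ hgH, trunc_apply_not_mem]
      rintro h
      obtain ⟨_, h2⟩ := (mem_up L).1 h
      exact hgH h2
  · rw [emb_apply_not_mem L _ hg]
    by_cases hgH : g ∈ up L H
    · exact absurd (up_le L H hgH) hg
    · rw [trunc_apply_not_mem _ hgH]

theorem emb_br (R : Subgroup L) (a : GA k L) : emb L (br R a) = br (up L R) (emb L a) := by
  unfold br
  rw [emb_trunc, up_Cn]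
  ext g
  by_cases hg : g ∈ Cn (up L R)
  · rw [trunc_apply_mem _ hg]
    by_cases hgL : g ∈ L
    · rw [trunc_apply_mem _ (Subgroup.mem_inf.2 ⟨hgL, hg⟩)]
    · rw [trunc_apply_not_mem _ (fun h => hgL (Subgroup.mem_inf.1 h).1), emb_apply_not_mem L _ hgL]
  · rw [trunc_apply_not_mem _ hg, trunc_apply_not_mem _ (fun h => hg (Subgroup.mem_inf.1 h).2)]

theorem suppOn_emb_iff (H : Subgroup L) (a : GA k L) :
    SuppOn (up L H) (emb L a) ↔ SuppOn H a := by
  constructor
  · intro h x hx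
    have := h (x : G) (fun hh => hx ((coe_mem_up L).1 hh))
    rwa [emb_coe] at this
  · intro h g hg
    by_cases hgL : g ∈ L
    · rw [emb_apply_mem L _ hgL]
      exact h _ (fun hh => hg ((mem_up L).2 ⟨hgL, hh⟩))
    · exact emb_apply_not_mem L _ hgL

theorem fixBy_emb_iff (H : Subgroup L) (a : GA k L) :
    FixBy (up L H) (emb L a) ↔ FixBy H a := by
  constructor
  · intro h x hx
    apply emb_injective L
    rw [emb_cj]
    exact h x ((coe_mem_up L).2 hx)
  · rintro h _ ⟨x, hx, rfl⟩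
    have := congrArg (emb L) (h x hx)
    rwa [emb_cj] at this

theorem inZ_up_iff (H : Subgroup L) (a : GA k L) : InZ (up L H) (emb L a) ↔ InZ H a :=
  and_congr (suppOn_emb_iff L H a) (fixBy_emb_iff L H a)

theorem isBlk_up_iff (H : Subgroup L) (b : GA k L) : IsBlk (up L H) (emb L b) ↔ IsBlk H b := by
  constructor
  · intro h
    refine ⟨(inZ_up_iff L H b).1 h.inZ, ?_, fun h0 => h.ne_zero ((emb_eq_zero_iff L b).2 h0), ?_⟩
    · apply emb_injective L; rw [emb_mul, h.idem]
    · intro e he hee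
      rcases h.prim (emb L e) ((inZ_up_iff L H e).2 he) (by rw [← emb_mul, hee]) with h1 | h1
      · left; apply emb_injective L; rw [emb_mul, h1, emb_zero]
      · right; apply emb_injective L; rw [emb_mul, h1]
  · intro h
    refine ⟨(inZ_up_iff L H b).2 h.inZ, by rw [← emb_mul, h.idem],
      fun h0 => h.ne_zero ((emb_eq_zero_iff L b).1 h0), ?_⟩
    intro e he hee
    have he' : emb L (rst L e) = e := emb_rst L (he.1.mono (up_le L H))
    have h1 : InZ H (rst L e) := (inZ_up_iff L H _).1 (by rw [he']; exact he)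
    have h2 : rst L e * rst L e = rst L e := by
      apply emb_injective L; rw [emb_mul, he', hee]
    rcases h.prim _ h1 h2 with h3 | h3
    · left; rw [← he', ← emb_mul, h3, emb_zero]
    · right; rw [← he', ← emb_mul, h3]

/-! ### pairs above a fixed subgroup `Q` with `C(Q) ≤ L` -/

variable {L} {p : ℕ} [Fact p.Prime] [CharP k p] {Q : Subgroup G}

theorem up_Cn_of_le (hCL : Cn Q ≤ L) {R : Subgroup L} (hQR : Q ≤ up L R) :
    up L (Cn R) = Cn (up L R) := by
  rw [up_Cn]
  exact inf_eq_right.2 ((Cn_anti hQR).trans hCL)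

theorem isBP_up_iff (hCL : Cn Q ≤ L) {R : Subgroup L} (hQR : Q ≤ up L R) (g : GA k L) :
    IsBP p (up L R) (emb L g) ↔ IsBP p R g := by
  unfold IsBP
  rw [isPGroup_up, ← up_Cn_of_le hCL hQR, isBlk_up_iff]

theorem nsub_up_iff (hCL : Cn Q ≤ L) {Q' P' : Subgroup L} (hQ : Q ≤ up L Q') (f' e' : GA k L) :
    NSub p (up L Q') (emb L f') (up L P') (emb L e') ↔ NSub p Q' f' P' e' := by
  unfold NSub
  constructor
  · rintro ⟨h1, h2, h3, h4, h5, h6⟩
    refine ⟨(isBP_up_iff hCL hQ f').1 h1, (isBP_up_iff hCL (hQ.trans h3) e').1 h2,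
      (up_le_up L).1 h3, (le_Nn_up L).1 h4, (fixBy_emb_iff L _ _).1 h5, ?_⟩
    apply emb_injective L
    rw [emb_mul, emb_br, h6]
  · rintro ⟨h1, h2, h3, h4, h5, h6⟩
    have h3' := (up_le_up L).2 h3
    refine ⟨(isBP_up_iff hCL hQ f').2 h1, (isBP_up_iff hCL (hQ.trans h3') e').2 h2,
      h3', (le_Nn_up L).2 h4, (fixBy_emb_iff L _ _).2 h5, ?_⟩
    rw [← emb_br, ← emb_mul, h6]

/-- transport of pairs -/
noncomputable def upP (L : Subgroup G) (a : Subgroup L × GA k L) : Subgroup G × GA k G :=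
  (up L a.1, emb L a.2)

theorem bple_up (hCL : Cn Q ≤ L) {a c : Subgroup L × GA k L} (hQ : Q ≤ up L a.1)
    (h : BPLE p a c) : BPLE p (upP L a) (upP L c) := by
  induction h with
  | refl => exact Relation.ReflTransGen.refl
  | @tail b c hab hbc ih =>
    refine Relation.ReflTransGen.tail ih ?_
    exact (nsub_up_iff hCL (hQ.trans ((up_le_up L).2 (BPLE.le hab))) _ _).2 hbc

theorem bple_of_up (hCL : Cn Q ≤ L) {a : Subgroup G × GA k G} {c' : Subgroup L × GA k L}
    (h : BPLE p a (upP L c')) : Q ≤ a.1 → ∃ a', a = upP L a' ∧ BPLE p a' c' := by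
  induction h using Relation.ReflTransGen.head_induction_on with
  | refl => intro _; exact ⟨c', rfl, Relation.ReflTransGen.refl⟩
  | @head a b hab _ ih =>
    intro hQ
    obtain ⟨b', rfl, hb'⟩ := ih (hQ.trans hab.2.2.1)
    have haL : a.1 ≤ L := hab.2.2.1.trans (up_le L _)
    have h1 : up L (a.1.subgroupOf L) = a.1 := up_subgroupOf L haL
    have h2 : emb L (rst L a.2) = a.2 :=
      emb_rst L (hab.1.2.inZ.1.mono ((Cn_anti hQ).trans hCL))
    refine ⟨(a.1.subgroupOf L, rst L a.2), ?_, ?_⟩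
    · unfold upP
      rw [h1, h2]
    · refine Relation.ReflTransGen.head ?_ hb'
      apply (nsub_up_iff hCL (Q' := a.1.subgroupOf L) (by rw [h1]; exact hQ) _ _).1
      rw [h1, h2]
      exact hab

end GA

end Cfsg.Agent.Lib.Helper80
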