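import Mathlib
import Cfsg.Agent.Lib.Helper80.GAUp

set_option autoImplicit false
set_option linter.unusedSectionVars false
set_option linter.style.haveILetI false

namespace Cfsg.Agent.Lib.Helper80

open scoped BigOperators

namespace GA

variable {k : Type*} {G : Type*} [Field k] [Group G] [Fintype G]
variable {p : ℕ} [Fact p.Prime] [CharP k p]

/-- transport of defect groups from the algebra of the subgroup to the ambient algebra -/
theorem isDef_emb_of_isDef_top (L : Subgroup G) [Fintype L] {b : GA k L} {D : Subgroup L}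
    (h : IsDef p ⊤ b D) : IsDef p L (emb L b) (up L D) where
  le := up_le L D
  pgroup := h.pgroup.map _
  zd := fun g hg S hSL hS hSg => by
    have hgL : g ∈ L := by
      by_contra hn; exact hg (emb_apply_not_mem L b hn)
    rw [emb_apply_mem L b hgL] at hg
    obtain ⟨x, _, hx⟩ := h.zd ⟨g, hgL⟩ hg (S.subgroupOf L) le_top
      (hS.comap_of_injective L.subtype L.subtype_injective)
      (fun s hs => Subtype.ext (hSg s (Subgroup.mem_subgroupOf.1 hs)))
    refine ⟨x, x.2, ?_⟩
    rw [← up_cS, ← up_subgroupOf L hSL]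
    exact (up_le_up L).2 hx
  br_ne := by
    rw [← emb_br]
    intro h0
    exact h.br_ne ((emb_eq_zero_iff L _).1 h0)

/-- the local situation: `Q C(Q) ≤ L ≤ N(Q,f)` -/
structure Loc (p : ℕ) (Q : Subgroup G) (f : GA k G) (L : Subgroup G) : Prop where
  bp : IsBP p Q f
  le : Q ≤ L
  cn : Cn Q ≤ L
  st : L ≤ stabP Q f

theorem Loc.isBlk {Q L : Subgroup G} {f : GA k G} (h : Loc p Q f L) : IsBlk L f :=
  h.bp.isBlk_of_fix h.le h.cn (h.st.trans (stabP_le_Nn Q f)) ((fixBy_stabP Q f).mono h.st)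

theorem BPLE.br_ne_zero {Q R : Subgroup G} {f g : GA k G} (hg : IsBP p R g)
    (hle : BPLE p (Q, f) (R, g)) (hRN : R ≤ Nn Q) : br R f ≠ 0 := by
  obtain ⟨g', hg', _⟩ := hle.exists_nsub_mid hg (R := R) hle.le le_rfl hRN
  exact hg'.br_ne_zero

/-- relative conjugacy of Brauer pairs: pairs above `(Q,f)` inside `L` are `L`-conjugate into a
pair on a defect group of `f` in `L` -/
theorem Loc.exists_conj_le {Q L P R : Subgroup G} {f e g : GA k G} (h : Loc p Q f L)
    (hPe : BPLE p (Q, f) (P, e)) (hdef : IsDef p L f P)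
    (hRg : BPLE p (Q, f) (R, g)) (hRL : R ≤ L) :
    ∃ x ∈ L, BPLE p (cS x R, cj x g) (P, e) := by
  haveI : Fintype L := Fintype.ofFinite L
  have hPL : P ≤ L := hdef.le
  have hLN : L ≤ Nn Q := h.st.trans (stabP_le_Nn Q f)
  have hfe : emb L (rst L f) = f := emb_rst L (h.bp.2.inZ.1.mono h.cn)
  have hQu : up L (Q.subgroupOf L) = Q := up_subgroupOf L h.le
  have hPu : up L (P.subgroupOf L) = P := up_subgroupOf L hPL
  have hRu : up L (R.subgroupOf L) = R := up_subgroupOf L hRL
  have he : IsBP p P e := hPe.isBP_up h.bp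
  have hg : IsBP p R g := hRg.isBP_up h.bp
  have hee : emb L (rst L e) = e := emb_rst L (he.2.inZ.1.mono ((Cn_anti hPe.le).trans h.cn))
  have hge : emb L (rst L g) = g := emb_rst L (hg.2.inZ.1.mono ((Cn_anti hRg.le).trans h.cn))
  -- the block of `L`
  have hb : IsBlk (⊤ : Subgroup L) (rst L f) := by
    rw [← isBlk_emb_iff, hfe]; exact h.isBlk
  have hQ' : IsBP p (Q.subgroupOf L) (rst L f) := by
    rw [← isBP_up_iff h.cn (by rw [hQu]), hQu, hfe]; exact h.bp
  have hQb : IsBPOf p (rst L f) (Q.subgroupOf L) (rst L f) := by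
    refine ⟨hQ', hb, ?_⟩
    apply emb_injective L
    rw [emb_mul, emb_br, hfe, hQu, br_eq_self h.bp.2.inZ.1, h.bp.2.idem]
  -- pairs in `L`
  have key : ∀ (S : Subgroup G) (s : GA k G), S ≤ L → emb L (rst L s) = s →
      BPLE p (Q, f) (S, s) → BPLE p (Q.subgroupOf L, rst L f) (S.subgroupOf L, rst L s) := by
    intro S s hSL hs hle
    have h1 : BPLE p (Q, f) (upP L (S.subgroupOf L, rst L s)) := by
      unfold upP
      simp only
      rw [up_subgroupOf L hSL, hs]; exact hle
    obtain ⟨a', ha', hle'⟩ := bple_of_up h.cn h1 le_rfl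
    have h2 : a' = (Q.subgroupOf L, rst L f) := by
      obtain ⟨a1, a2⟩ := a'
      unfold upP at ha'
      simp only [Prod.mk.injEq] at ha'
      obtain ⟨h3, h4⟩ := ha'
      have h5 : a1 = Q.subgroupOf L := by
        apply up_injective L; rw [hQu, ← h3]
      have h6 : a2 = rst L f := by
        apply emb_injective L; rw [hfe, ← h4]
      rw [h5, h6]
    rw [← h2]; exact hle'
  have hP' := key P e hPL hee hPe
  have hR' := key R g hRL hge hRg
  have hPb : IsBPOf p (rst L f) (P.subgroupOf L) (rst L e) := hP'.isBPOf_iff.2 hQb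
  have hRb : IsBPOf p (rst L f) (R.subgroupOf L) (rst L g) := hR'.isBPOf_iff.2 hQb
  have hmax : IsMaxBP p (rst L f) (P.subgroupOf L) (rst L e) := by
    refine ⟨hPb, fun S s hS hle => ?_⟩
    have h1 := bple_up h.cn (a := (P.subgroupOf L, rst L e)) (by
      show Q ≤ up L (P.subgroupOf L)
      rw [hPu]; exact hPe.le) hle
    unfold upP at h1
    simp only at h1
    rw [hPu, hee] at h1
    have h2 : BPLE p (Q, f) (up L S, emb L s) := hPe.trans h1
    have h3 : br (up L S) f ≠ 0 :=
      h2.br_ne_zero (h2.isBP_up h.bp) ((up_le L S).trans hLN)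
    obtain ⟨x, _, hx⟩ := hdef.zd.le_conj_of_br_ne (up_le L S) (h2.isBP_up h.bp).1 h3
    have h4 : P = up L S := by
      apply Subgroup.eq_of_le_of_card_ge h1.le
      calc Nat.card (up L S) ≤ Nat.card (cS x P) := Subgroup.card_le_of_le hx
        _ = Nat.card P := card_cS x P
    apply up_injective L
    rw [hPu, h4]
  obtain ⟨x, hx⟩ := hmax.exists_conj_le hRb
  refine ⟨x, x.2, ?_⟩
  have hxQ : cS (x : G) Q = Q := cS_eq_self_of_mem_Nn (hLN x.2)
  have h1 := bple_up h.cn (a := (cS x (R.subgroupOf L), cj x (rst L g))) (by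
    show Q ≤ up L (cS x (R.subgroupOf L))
    rw [up_cS, hRu, ← hxQ]
    exact cS_mono _ hRg.le) hx
  unfold upP at h1
  simp only at h1
  rwa [up_cS, hRu, emb_cj, hge, hPu, hee] at h1

end GA

end Cfsg.Agent.Lib.Helper80
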