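import Mathlib
import Cfsg.Agent.Lib.Helper80.GARel
import Cfsg.Agent.Lib.Helper1.Coprime

set_option autoImplicit false
set_option linter.unusedSectionVars false
set_option linter.style.haveILetI false

namespace Cfsg.Agent.Lib.Helper80

open scoped BigOperators

namespace GA

variable {k : Type*} {G : Type*} [Field k] [Group G] [Fintype G]

/-- the subgroup of elements fixing `b` under conjugation -/
def fixer (b : GA k G) : Subgroup G where
  carrier := {x | cj x b = b}
  one_mem' := one_cj b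
  mul_mem' := fun {x y} hx hy => by
    show cj (x * y) b = b
    rw [← cj_cj, show cj y b = b from hy, show cj x b = b from hx]
  inv_mem' := fun {x} hx => by
    show cj x⁻¹ b = b
    have h : cj x b = b := hx
    calc cj x⁻¹ b = cj x⁻¹ (cj x b) := by rw [h]
      _ = b := cj_inv_cj x b

theorem fixBy_iff_le_fixer {H : Subgroup G} {b : GA k G} : FixBy H b ↔ H ≤ fixer b := Iff.rfl

theorem FixBy.sup {A B : Subgroup G} {b : GA k G} (hA : FixBy A b) (hB : FixBy B b) :
    FixBy (A ⊔ B) b :=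
  fixBy_iff_le_fixer.2 (sup_le (fixBy_iff_le_fixer.1 hA) (fixBy_iff_le_fixer.1 hB))

theorem cls_eq_of_conj {N : Subgroup G} {g : G} {m : G} (hm : m ∈ N) :
    (cls N (m * g * m⁻¹) : GA k G) = cls N g := by
  ext y
  by_cases h : ∃ x ∈ N, y = x * g * x⁻¹
  · rw [cls_apply_of N g h]
    obtain ⟨x, hx, rfl⟩ := h
    exact cls_apply_of N _ ⟨x * m⁻¹, N.mul_mem hx (N.inv_mem hm), by group⟩
  · rw [cls_apply_not N g h]
    apply cls_apply_not
    rintro ⟨x, hx, rfl⟩
    exact h ⟨x * m, N.mul_mem hx hm, by group⟩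

theorem cj_cls {N : Subgroup G} {t : G} (ht : t ∈ Nn N) (g : G) :
    cj t (cls N g : GA k G) = cls N (t * g * t⁻¹) := by
  have hN : ∀ x, x ∈ N → t * x * t⁻¹ ∈ N := fun x hx =>
    (Subgroup.mem_normalizer_iff.1 ht x).1 hx
  have hN' : ∀ x, x ∈ N → t⁻¹ * x * t ∈ N := fun x hx => by
    have := (Subgroup.mem_normalizer_iff.1 ((Nn N).inv_mem ht) x).1 hx
    simpa using this
  ext y
  rw [cj_apply]
  by_cases h : ∃ x ∈ N, y = x * (t * g * t⁻¹) * x⁻¹
  · rw [cls_apply_of N _ h]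
    obtain ⟨x, hx, rfl⟩ := h
    exact cls_apply_of N _ ⟨t⁻¹ * x * t, hN' x hx, by group⟩
  · rw [cls_apply_not N _ h]
    apply cls_apply_not
    rintro ⟨x, hx, hxy⟩
    apply h
    refine ⟨t * x * t⁻¹, hN x hx, ?_⟩
    have : y = t * (t⁻¹ * y * t) * t⁻¹ := by group
    rw [this, hxy]; group

theorem cls_self (N : Subgroup G) (g : G) : (cls N g : GA k G) g = 1 :=
  cls_apply_of N g ⟨1, N.one_mem, by simp⟩

theorem cls_apply_ne_zero {N : Subgroup G} {g y : G} (h : (cls N g : GA k G) y ≠ 0) :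
    ∃ x ∈ N, y = x * g * x⁻¹ := by
  by_contra hn
  exact h (cls_apply_not N g hn)

theorem isNilpotent_cj {a : GA k G} (x : G) (ha : IsNilpotent a) : IsNilpotent (cj x a) := by
  obtain ⟨n, hn⟩ := ha
  exact ⟨n, by rw [← cj_pow, hn, cj_zero]⟩

theorem isNilpotent_sum_inZ {N : Subgroup G} {ι : Type*} (s : Finset ι) (F : ι → GA k G)
    (h : ∀ i ∈ s, InZ N (F i) ∧ IsNilpotent (F i)) :
    InZ N (∑ i ∈ s, F i) ∧ IsNilpotent (∑ i ∈ s, F i) := by
  classical
  induction s using Finset.induction_on with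
  | empty => simp only [Finset.sum_empty]; exact ⟨InZ.zero, IsNilpotent.zero⟩
  | insert a s ha ih =>
    rw [Finset.sum_insert ha]
    have h1 := h a (Finset.mem_insert_self a s)
    have h2 := ih (fun i hi => h i (Finset.mem_insert_of_mem hi))
    exact ⟨h1.1.add h2.1, Commute.isNilpotent_add (h1.1.comm h2.1) h1.2 h2.2⟩

variable {p : ℕ} [Fact p.Prime] [CharP k p]

/-- the class sum of `S N` is the sum over the `S`-orbit of the class sum of `N` -/
theorem cls_sup_eq_sum {N S : Subgroup G} (hSN : S ≤ Nn N) (g : G)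
    [DecidableEq (GA k G)] [Fintype S] :
    (cls (S ⊔ N) g : GA k G) =
      ∑ κ ∈ Finset.univ.image (fun s : S => cj (s : G) (cls N g : GA k G)), κ := by
  ext y
  rw [sum_apply]
  by_cases h : ∃ x ∈ S ⊔ N, y = x * g * x⁻¹
  · rw [cls_apply_of _ g h]
    obtain ⟨w, hw, rfl⟩ := h
    obtain ⟨s, hs, n, hn, rfl⟩ := (Cfsg.Agent.Lib.Helper1.mem_sup_of_le_normalizer hSN).1 hw
    rw [Finset.sum_eq_single (cj s (cls N g : GA k G))]
    · rw [cj_apply]
      symm
      exact cls_apply_of N g ⟨n, hn, by group⟩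
    · intro κ hκ hne
      by_contra hκy
      apply hne
      obtain ⟨s', _, rfl⟩ := Finset.mem_image.1 hκ
      rw [cj_apply] at hκy
      obtain ⟨n', hn', hy⟩ := cls_apply_ne_zero hκy
      obtain ⟨t, ht⟩ := s'
      simp only at hy ⊢
      have e2 : t * (n' * g * n'⁻¹) * t⁻¹ = s * (n * g * n⁻¹) * s⁻¹ := by
        rw [← hy]; group
      calc cj t (cls N g : GA k G) = cj t (cls N (n' * g * n'⁻¹)) := by rw [cls_eq_of_conj hn']
        _ = cls N (t * (n' * g * n'⁻¹) * t⁻¹) := cj_cls (hSN ht) _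
        _ = cls N (s * (n * g * n⁻¹) * s⁻¹) := by rw [e2]
        _ = cj s (cls N (n * g * n⁻¹)) := (cj_cls (hSN hs) _).symm
        _ = cj s (cls N g) := by rw [cls_eq_of_conj hn]
    · intro hn'
      exact absurd (Finset.mem_image_of_mem (fun s : S => cj (s : G) (cls N g : GA k G))
        (Finset.mem_univ (⟨s, hs⟩ : S))) hn'
  · rw [cls_apply_not _ g h]
    symm
    apply Finset.sum_eq_zero
    intro κ hκ
    obtain ⟨s', _, rfl⟩ := Finset.mem_image.1 hκ
    by_contra hκy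
    rw [cj_apply] at hκy
    obtain ⟨n', hn', hy⟩ := cls_apply_ne_zero hκy
    apply h
    refine ⟨s' * n', Subgroup.mul_mem _ (Subgroup.mem_sup_left s'.2) (Subgroup.mem_sup_right hn'), ?_⟩
    have : y = (s' : G) * ((s' : G)⁻¹ * y * s') * (s' : G)⁻¹ := by group
    rw [this, hy]; group

/-- Key lemma: a `p`-group `S` normalising `N` and fixing the block `b` of `N` (split) stabilises
an `N`-class in the support of `b`. -/
theorem IsBlk.exists_stable_class {N S : Subgroup G} {b : GA k G} (hb : IsBlk N b)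
    (hSN : S ≤ Nn N) (hS : IsPGroup p S) (hfix : FixBy S b)
    (hsp : ∀ z, InZ N z → ∃ c : k, IsNilpotent (z * b - c • b)) :
    ∃ g, b g ≠ 0 ∧ ∀ s ∈ S, GA.cj s (cls N g : GA k G) = cls N g := by
  classical
  haveI : Fintype S := Fintype.ofFinite S
  by_contra hcon
  push Not at hcon
  have hbW : InZ (S ⊔ N) b := ⟨hb.inZ.1.mono le_sup_right, hfix.sup hb.inZ.2⟩
  have key : InZ N b ∧ IsNilpotent (b * b) := by
    refine inZ_induction (H := S ⊔ N) (fun a => InZ N a ∧ IsNilpotent (a * b))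
      ⟨InZ.zero, by rw [zero_mul]; exact IsNilpotent.zero⟩ ?_ _ b hbW ?_ rfl
    · rintro a a' ⟨h1, h2⟩ ⟨h3, h4⟩
      refine ⟨h1.add h3, ?_⟩
      rw [add_mul]
      exact Commute.isNilpotent_add ((h1.mul hb.inZ).comm (h3.mul hb.inZ)) h2 h4
    · intro g hg
      have hgN : g ∈ N := by
        by_contra hn; exact hg (hb.inZ.1 g hn)
      obtain ⟨s₀, hs₀, hne⟩ := hcon g hg
      obtain ⟨c, hc⟩ := hsp _ (cls_inZ (k := k) hgN)
      obtain ⟨O, hO⟩ : ∃ O, O = Finset.univ.image (fun s : S => GA.cj (s : G) (cls N g : GA k G)) :=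
        ⟨_, rfl⟩
      have hOmem : ∀ κ ∈ O, ∃ s ∈ S, κ = GA.cj s (cls N g : GA k G) := by
        intro κ hκ
        rw [hO] at hκ
        obtain ⟨s, _, rfl⟩ := Finset.mem_image.1 hκ
        exact ⟨s, s.2, rfl⟩
      have hOZ : ∀ κ ∈ O, InZ N κ := by
        intro κ hκ
        obtain ⟨s, hs, rfl⟩ := hOmem κ hκ
        have := (cls_inZ (k := k) hgN).cj s
        rwa [cS_eq_self_of_mem_Nn (hSN hs)] at this
      -- the orbit has size divisible by `p`
      have hcard : ((O.card : ℕ) : k) = 0 := by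
        have h1 := sum_eq_sum_fixed (p := p) (S := S) (Y := GA k G) (k := k) hS
          (fun s κ => GA.cj (s : G) κ) (fun κ => one_cj κ)
          (fun a a' κ => by
            show GA.cj ((a * a' : S) : G) κ = GA.cj (a : G) (GA.cj (a' : G) κ)
            rw [cj_cj]; rfl) O
          (fun a κ hκ => by
            obtain ⟨s, hs, rfl⟩ := hOmem κ hκ
            rw [hO]
            refine Finset.mem_image.2 ⟨a * ⟨s, hs⟩, Finset.mem_univ _, ?_⟩
            show GA.cj ((a : G) * s) _ = GA.cj (a : G) (GA.cj s _)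
            rw [cj_cj]) (fun _ => (1 : k)) (fun _ _ _ => rfl)
        have h2 : O.filter (fun κ => ∀ a : S, GA.cj (a : G) κ = κ) = ∅ := by
          rw [Finset.filter_eq_empty_iff]
          intro κ hκ hfixed
          obtain ⟨s, hs, rfl⟩ := hOmem κ hκ
          apply hne
          have e1 : GA.cj s⁻¹ (GA.cj s (cls N g : GA k G)) = GA.cj s (cls N g : GA k G) :=
            hfixed ⟨s⁻¹, S.inv_mem hs⟩
          rw [cj_inv_cj] at e1
          have e2 : GA.cj (s₀ * s⁻¹) (GA.cj s (cls N g : GA k G)) = GA.cj s (cls N g : GA k G) :=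
            hfixed ⟨s₀ * s⁻¹, S.mul_mem hs₀ (S.inv_mem hs)⟩
          rw [← cj_cj, cj_inv_cj] at e2
          rw [e2, ← e1]
        rw [h2] at h1
        simpa using h1
      have hsum : (cls (S ⊔ N) g : GA k G) = ∑ κ ∈ O, κ := by
        rw [hO]; exact cls_sup_eq_sum hSN g
      have hnil : InZ N (∑ κ ∈ O, (κ * b - c • b)) ∧ IsNilpotent (∑ κ ∈ O, (κ * b - c • b)) := by
        apply isNilpotent_sum_inZ
        intro κ hκ
        refine ⟨((hOZ κ hκ).mul hb.inZ).sub (hb.inZ.smul c), ?_⟩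
        obtain ⟨s, hs, rfl⟩ := hOmem κ hκ
        have := isNilpotent_cj s hc
        rwa [cj_sub, cj_mul, cj_smul, hfix s hs] at this
      have hsum2 : (cls (S ⊔ N) g : GA k G) * b = ∑ κ ∈ O, (κ * b - c • b) := by
        rw [hsum, Finset.sum_mul, Finset.sum_sub_distrib, Finset.sum_const, ← Nat.cast_smul_eq_nsmul k,
          hcard, zero_smul, sub_zero]
      refine ⟨InZ.smul _ (by rw [hsum]; exact InZ.sum _ _ hOZ), ?_⟩
      rw [smul_mul_assoc, hsum2]
      exact isNilpotent_smul _ hnil.2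
  rw [hb.idem] at key
  exact hb.not_nilpotent key.2

/-- If `b` is a (split) block of `N ⊴ H` which is `H`-stable, with defect group `D` in `H`, then
every `p`-subgroup of `H` lies in `D^y N` for some `y`: the index of `D N` in `H` is prime to `p`. -/
theorem IsDef.le_conj_sup {N H D S : Subgroup G} {b : GA k G} (hdef : IsDef p H b D)
    (hb : IsBlk N b) (hNH : N ≤ H) (hHN : H ≤ Nn N) (hfix : FixBy H b)
    (hsp : ∀ z, InZ N z → ∃ c : k, IsNilpotent (z * b - c • b))
    (hSH : S ≤ H) (hS : IsPGroup p S) : ∃ y ∈ H, S ≤ cS y D ⊔ N := by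
  obtain ⟨g, hg, hstab⟩ := hb.exists_stable_class (hSH.trans hHN) hS (hfix.mono hSH) hsp
  obtain ⟨X, hX⟩ : ∃ X, X = (S ⊔ N) ⊓ Subgroup.centralizer ({g} : Set G) := ⟨_, rfl⟩
  have hXV : X ≤ S ⊔ N := hX ▸ inf_le_left
  have hVH : S ⊔ N ≤ H := sup_le hSH hNH
  have hSX : S ≤ X ⊔ N := by
    intro s hs
    have h1 := hstab s hs
    rw [cj_cls (hHN (hSH hs))] at h1
    have h2 : (cls N g : GA k G) (s * g * s⁻¹) ≠ 0 := by
      rw [← h1, cls_self]; exact one_ne_zero
    obtain ⟨n, hn, hsn⟩ := cls_apply_ne_zero h2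
    have h3 : n⁻¹ * s ∈ X := by
      rw [hX, Subgroup.mem_inf]
      refine ⟨Subgroup.mul_mem _ (Subgroup.mem_sup_right (N.inv_mem hn)) (Subgroup.mem_sup_left hs), ?_⟩
      rw [Subgroup.mem_centralizer_singleton_iff]
      calc n⁻¹ * s * g = n⁻¹ * (s * g * s⁻¹) * s := by group
        _ = g * (n⁻¹ * s) := by rw [hsn]; group
    have h4 : s = n * (n⁻¹ * s) := by group
    rw [h4]
    exact Subgroup.mul_mem _ (Subgroup.mem_sup_right hn) (Subgroup.mem_sup_left h3)
  obtain ⟨P⟩ : Nonempty (Sylow p X) := inferInstance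
  obtain ⟨R, hR⟩ : ∃ R, R = (P : Subgroup X).map X.subtype := ⟨_, rfl⟩
  have hRX : R ≤ X := by
    rw [hR]; rintro _ ⟨x, _, rfl⟩; exact x.2
  have hRp : IsPGroup p R := by rw [hR]; exact P.2.map _
  have hRi : ¬ p ∣ R.relIndex X := by
    have : R.subgroupOf X = P := by
      rw [hR]; exact Subgroup.comap_map_eq_self_of_injective X.subtype_injective _
    unfold Subgroup.relIndex
    rw [this]
    exact P.not_dvd_index
  have h1 : (R ⊔ (N ⊓ X)).relIndex X ∣ R.relIndex X := Subgroup.relIndex_dvd_of_le_left X le_sup_left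
  have h2 : (R ⊔ (N ⊓ X)).relIndex X ∣ N.relIndex X := by
    rw [← Subgroup.inf_relIndex_right N X]
    exact Subgroup.relIndex_dvd_of_le_left X le_sup_right
  obtain ⟨a, ha⟩ := IsPGroup.iff_card.1 hS
  have h3 : N.relIndex X ∣ p ^ a := by
    rw [← Cfsg.Agent.Lib.Helper1.relIndex_sup_right_of_le_normalizer (hXV.trans (hVH.trans hHN)), ← ha]
    refine Dvd.dvd.trans ?_ (Subgroup.relIndex_dvd_card N S)
    rw [← Cfsg.Agent.Lib.Helper1.relIndex_sup_right_of_le_normalizer (hSH.trans hHN),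
      ← Subgroup.relIndex_mul_relIndex N (X ⊔ N) (S ⊔ N) le_sup_right (sup_le hXV le_sup_right)]
    exact Dvd.intro _ rfl
  have h4 : (R ⊔ (N ⊓ X)).relIndex X = 1 := by
    have hcop : Nat.Coprime (p ^ a) (R.relIndex X) :=
      Nat.Coprime.pow_left a ((Nat.Prime.coprime_iff_not_dvd Fact.out).2 hRi)
    exact Nat.eq_one_of_dvd_coprimes hcop (h2.trans h3) h1
  have h5 : X ≤ R ⊔ (N ⊓ X) := Subgroup.relIndex_eq_one.1 h4
  obtain ⟨y, hy, hRy⟩ := hdef.zd g hg R (hRX.trans (hXV.trans hVH)) hRp (fun s hs => by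
    have := hRX hs
    rw [hX, Subgroup.mem_inf] at this
    exact Subgroup.mem_centralizer_singleton_iff.1 this.2)
  refine ⟨y, hy, hSX.trans (sup_le (h5.trans (sup_le ?_ ?_)) le_sup_right)⟩
  · exact hRy.trans le_sup_left
  · exact inf_le_left.trans le_sup_right

end GA

end Cfsg.Agent.Lib.Helper80
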