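import Mathlib
import Cfsg.Agent.Lib.Helper80.GASplit

set_option autoImplicit false
set_option linter.unusedSectionVars false
set_option linter.style.haveILetI false

namespace Cfsg.Agent.Lib.Helper80

open scoped BigOperators

namespace GA

variable {k : Type*} {G : Type*} [Field k] [Group G] [Fintype G]
variable {p : ℕ} [Fact p.Prime] [CharP k p]

theorem mem_Nn_of_cS_eq {x : G} {P : Subgroup G} (h : cS x P = P) : x ∈ Nn P := by
  rw [Subgroup.mem_normalizer_iff]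
  intro g
  constructor
  · intro hg
    rw [← h, mem_cS]; simpa [mul_assoc] using hg
  · intro hg
    rw [← h, mem_cS] at hg; simpa [mul_assoc] using hg

theorem cS_sup (x : G) (A B : Subgroup G) : cS x (A ⊔ B) = cS x A ⊔ cS x B :=
  Subgroup.map_sup _ _ _

/-- two pairs below the same pair are comparable as soon as their subgroups are -/
theorem IsBP.bple_of_le {P A B : Subgroup G} {e a b : GA k G} (he : IsBP p P e)
    (h1 : BPLE p (A, a) (P, e)) (h2 : BPLE p (B, b) (P, e)) (hAB : A ≤ B) :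
    BPLE p (A, a) (B, b) := by
  obtain ⟨a', _, ha'⟩ := (h2.isBP he).exists_subpair' hAB
  have : a' = a := he.subpair_unique _ A a' a rfl (ha'.trans h2) h1
  rw [← this]; exact ha'

theorem IsBP.cj_self {P : Subgroup G} {e : GA k G} (he : IsBP p P e) {g : G} (hg : g ∈ P) :
    cS g P = P ∧ GA.cj g e = e :=
  ⟨cS_eq_self_of_mem_Nn (Subgroup.le_normalizer hg), fixBy_of_suppOn_Cn he.2.inZ.1 g hg⟩

theorem Nn_le_normalizer_Cn' (Q : Subgroup G) :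
    Nn Q ≤ Subgroup.normalizer ((Cn Q : Subgroup G) : Set G) := fun _ hx =>
  mem_Nn_of_cS_eq (cS_Cn_of_mem_Nn hx)

theorem Nn_le_Nn_sup_Cn (Q : Subgroup G) : Nn Q ≤ Nn (Q ⊔ Cn Q) := by
  intro t ht
  apply mem_Nn_of_cS_eq
  rw [cS_sup, cS_eq_self_of_mem_Nn ht, cS_Cn_of_mem_Nn ht]

/-- a defect group of `f` in `N(Q,f)` meets `C(Q)` in a defect group of `f` in `C(Q)` -/
theorem IsBP.isDef_Cn_of_isDef_stabP {Q D : Subgroup G} {f : GA k G} (hf : IsBP p Q f)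
    (hdef : IsDef p (stabP Q f) f D) : IsDef p (Cn Q) f (D ⊓ Cn Q) := by
  obtain ⟨D0, hD0⟩ := hf.2.exists_isDef (p := p)
  have h1 : br (D ⊓ Cn Q) f ≠ 0 := br_ne_zero_of_le inf_le_left hdef.br_ne
  obtain ⟨c, hc, hcle⟩ := hD0.zd.le_conj_of_br_ne inf_le_right (hdef.pgroup.to_le inf_le_left) h1
  obtain ⟨t, ht, htle⟩ := hdef.zd.le_conj_of_br_ne (hD0.le.trans (Cn_le_stabP hf.2.inZ))
    hD0.pgroup hD0.br_ne
  have h2 : D0 ≤ cS t (D ⊓ Cn Q) := by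
    rw [cS_inf, cS_Cn_of_mem_Nn ht.1]
    exact le_inf htle hD0.le
  have h3 : D ⊓ Cn Q = cS c D0 := by
    apply Subgroup.eq_of_le_of_card_ge hcle
    rw [card_cS, ← card_cS t (D ⊓ Cn Q)]
    exact Subgroup.card_le_of_le h2
  rw [h3]
  exact hD0.conj hf.2.inZ.2 hc

/-- automiser: `p`-subgroups of `N(Q,f)` containing the defect group `N_P(Q)` lie in
`N_P(Q) C(Q)` -/
theorem BPLE.pSubgroup_le_sup {P Q S : Subgroup G} {e f : GA k G} (he : IsBP p P e)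
    (hle : BPLE p (Q, f) (P, e)) (hdef : IsDef p (stabP Q f) f (P ⊓ Nn Q))
    (hsp : ∀ z, InZ (Q ⊔ Cn Q) z → ∃ c : k, IsNilpotent (z * f - c • f))
    (hS : S ≤ stabP Q f) (hSp : IsPGroup p S) (hDS : P ⊓ Nn Q ≤ S) :
    S ≤ (P ⊓ Nn Q) ⊔ Cn Q := by
  have hf : IsBP p Q f := hle.isBP he
  have hN : Q ⊔ Cn Q ≤ stabP Q f := sup_le (le_stabP hf.2.inZ) (Cn_le_stabP hf.2.inZ)
  have hblk : IsBlk (Q ⊔ Cn Q) f :=
    hf.isBlk_of_fix le_sup_left le_sup_right (hN.trans (stabP_le_Nn Q f))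
      ((fixBy_stabP Q f).mono hN)
  obtain ⟨y, hy, hyle⟩ := hdef.le_conj_sup hblk hN ((stabP_le_Nn Q f).trans (Nn_le_Nn_sup_Cn Q))
    (fixBy_stabP Q f) hsp hS hSp
  have hQD : Q ≤ P ⊓ Nn Q := le_inf hle.le Subgroup.le_normalizer
  have h1 : cS y (P ⊓ Nn Q) ⊔ (Q ⊔ Cn Q) = cS y ((P ⊓ Nn Q) ⊔ Cn Q) := by
    rw [cS_sup, cS_Cn_of_mem_Nn hy.1]
    apply le_antisymm
    · refine sup_le le_sup_left (sup_le ?_ le_sup_right)
      have := cS_mono y hQD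
      rw [cS_eq_self_of_mem_Nn hy.1] at this
      exact this.trans le_sup_left
    · exact sup_le le_sup_left (le_sup_right.trans le_sup_right)
  rw [h1] at hyle
  have h2 : (P ⊓ Nn Q) ⊔ Cn Q ≤ S ⊔ Cn Q := sup_le_sup_right hDS _
  have h3 : S ⊔ Cn Q ≤ cS y ((P ⊓ Nn Q) ⊔ Cn Q) := by
    refine sup_le hyle ?_
    rw [cS_sup, cS_Cn_of_mem_Nn hy.1]
    exact le_sup_right
  have h4 : (P ⊓ Nn Q) ⊔ Cn Q = S ⊔ Cn Q := by
    apply Subgroup.eq_of_le_of_card_ge h2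
    rw [← card_cS y ((P ⊓ Nn Q) ⊔ Cn Q)]
    exact Subgroup.card_le_of_le h3
  rw [h4]
  exact le_sup_left

theorem BPLE.loc_sup {P Q : Subgroup G} {e f : GA k G} (he : IsBP p P e)
    (hle : BPLE p (Q, f) (P, e)) : Loc p Q f ((P ⊓ Nn Q) ⊔ Cn Q) where
  bp := hle.isBP he
  le := (le_inf hle.le Subgroup.le_normalizer).trans le_sup_left
  cn := le_sup_right
  st := sup_le (hle.inf_Nn_le_stabP he) (Cn_le_stabP (hle.isBP he).2.inZ)

/-- if `C_P(Q)` is a defect group of `f` in `C(Q)` then `N_P(Q)` is a defect group of `f` in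
`N_P(Q) C(Q)` -/
theorem BPLE.isDef_sup {P Q : Subgroup G} {e f : GA k G} (he : IsBP p P e)
    (hle : BPLE p (Q, f) (P, e)) (hdefC : IsDef p (Cn Q) f (P ⊓ Cn Q)) :
    IsDef p ((P ⊓ Nn Q) ⊔ Cn Q) f (P ⊓ Nn Q) := by
  have hloc := hle.loc_sup he
  have hf : IsBP p Q f := hle.isBP he
  obtain ⟨D0, hD0⟩ := hloc.isBlk.exists_isDef (p := p)
  obtain ⟨g, hg, _⟩ := hle.exists_nsub_mid he (R := P ⊓ Nn Q)
    (le_inf hle.le Subgroup.le_normalizer) inf_le_left inf_le_right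
  obtain ⟨x, hx, hxle⟩ := hD0.zd.le_conj_of_br_ne le_sup_left (he.1.to_le inf_le_left)
    hg.br_ne_zero
  have hD1 := hD0.conj hloc.isBlk.inZ.2 hx
  have h1 : br (cS x D0 ⊓ Cn Q) f ≠ 0 := br_ne_zero_of_le inf_le_left hD1.br_ne
  obtain ⟨c, _, hcle⟩ := hdefC.zd.le_conj_of_br_ne inf_le_right
    (hD1.pgroup.to_le inf_le_left) h1
  have h2 : P ⊓ Cn Q ≤ cS x D0 ⊓ Cn Q :=
    le_inf ((le_inf inf_le_left (inf_le_right.trans (Cn_le_Nn Q))).trans hxle) inf_le_right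
  have h3 : P ⊓ Cn Q = cS x D0 ⊓ Cn Q := by
    apply Subgroup.eq_of_le_of_card_ge h2
    rw [← card_cS c (P ⊓ Cn Q)]
    exact Subgroup.card_le_of_le hcle
  have h4 : cS x D0 ≤ P ⊓ Nn Q := by
    intro z hz
    obtain ⟨d, hd, c', hc', rfl⟩ := (Cfsg.Agent.Lib.Helper1.mem_sup_of_le_normalizer
      (inf_le_right.trans (Nn_le_normalizer_Cn' Q))).1 (hD1.le hz)
    have h5 : c' ∈ cS x D0 ⊓ Cn Q := by
      refine ⟨?_, hc'⟩
      have := (cS x D0).mul_mem ((cS x D0).inv_mem (hxle hd)) hz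
      simpa using this
    rw [← h3] at h5
    exact (P ⊓ Nn Q).mul_mem hd ⟨h5.1, Cn_le_Nn Q h5.2⟩
  have h6 : P ⊓ Nn Q = cS x D0 := le_antisymm hxle h4
  rw [← h6] at hD1
  exact hD1

/-- receptivity: a pair above `(Q,f)` inside `N_P(Q) C(Q)` is `C(Q)`-conjugate below `(P,e)` -/
theorem BPLE.exists_conj_Cn {P Q R : Subgroup G} {e f g : GA k G} (he : IsBP p P e)
    (hle : BPLE p (Q, f) (P, e)) (hdefC : IsDef p (Cn Q) f (P ⊓ Cn Q))
    (hRg : BPLE p (Q, f) (R, g)) (hRL : R ≤ (P ⊓ Nn Q) ⊔ Cn Q) :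
    ∃ c ∈ Cn Q, BPLE p (cS c R, GA.cj c g) (P, e) := by
  obtain ⟨eN, hN1, hN2⟩ := hle.exists_nsub_mid he (R := P ⊓ Nn Q)
    (le_inf hle.le Subgroup.le_normalizer) inf_le_left inf_le_right
  obtain ⟨x, hx, hxle⟩ := (hle.loc_sup he).exists_conj_le (Relation.ReflTransGen.single hN1)
    (hle.isDef_sup he hdefC) hRg hRL
  obtain ⟨d, hd, c, hc, rfl⟩ := (Cfsg.Agent.Lib.Helper1.mem_sup_of_le_normalizer
      (inf_le_right.trans (Nn_le_normalizer_Cn' Q))).1 hx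
  refine ⟨c, hc, ?_⟩
  have h1 := hxle.cj d⁻¹
  simp only at h1
  have h2 := hN1.2.1.cj_self ((P ⊓ Nn Q).inv_mem hd)
  rw [h2.1, h2.2, cS_cS, cj_cj, inv_mul_cancel_left] at h1
  exact h1.trans hN2

end GA

end Cfsg.Agent.Lib.Helper80
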