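import Mathlib
import Cfsg.Agent.Lib.Helper80.GASat
import Cfsg.Agent.Lib.Helper87.FusionMk
import Cfsg.Agent.Lib.Helper87.AutSylow

set_option autoImplicit false
set_option linter.unusedSectionVars false
set_option linter.style.haveILetI false

namespace Cfsg.Agent.Lib.Helper80

open scoped BigOperators
open Cfsg Cfsg.FusionSystem Cfsg.Agent.Lib.Helper87

namespace GA

variable {k : Type*} {G : Type*} [Field k] [Group G] [Fintype G]

/-- the maps of the fusion system of a block on a Brauer pair `(P,e)` -/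
def FM (p : ℕ) (P : Subgroup G) (e : GA k G) (R : Subgroup G) (φ : G → G) : Prop :=
  ∃ (g : G) (f : GA k G), (∀ x ∈ R, φ x = g * x * g⁻¹) ∧ BPLE p (R, f) (P, e) ∧
    BPLE p (cS g R, cj g f) (P, e)

variable {p : ℕ} [Fact p.Prime] [CharP k p]

theorem conj_mem_cS {g x : G} {R : Subgroup G} (hx : x ∈ R) : g * x * g⁻¹ ∈ cS g R := by
  rw [mem_cS]; simpa [mul_assoc] using hx

/-- the fusion system of a block on a Brauer pair `(P,e)` -/
noncomputable def bfs {P : Subgroup G} {e : GA k G} (he : IsBP p P e) : FusionSystem P :=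
  mkSystem P (FM p P e)
    (by
      rintro R φ ψ ⟨g, f, h1, h2, h3⟩ hφψ
      exact ⟨g, f, fun x hx => (hφψ x hx).symm.trans (h1 x hx), h2, h3⟩)
    (by
      rintro R φ ⟨g, f, h1, h2, h3⟩
      exact h2.le)
    (by
      rintro R φ ⟨g, f, h1, h2, h3⟩ x hx
      rw [h1 x hx]
      exact h3.le (conj_mem_cS hx))
    (by
      rintro R φ ⟨g, f, h1, h2, h3⟩ x hx y hy hxy
      rw [h1 x hx, h1 y hy] at hxy
      exact mul_left_cancel (mul_right_cancel hxy))
    (by
      intro R g hR hg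
      obtain ⟨f, _, hf⟩ := he.exists_subpair' hR
      refine ⟨g, f, fun _ _ => rfl, hf, ?_⟩
      have h1 := hf.cj g
      simp only at h1
      rwa [(he.cj_self hg).1, (he.cj_self hg).2] at h1)
    (by
      rintro R R' φ ψ ⟨g, f, h1, h2, h3⟩ ⟨g', f', h1', h2', h3'⟩ hRR'
      refine ⟨g' * g, f, fun x hx => ?_, h2, ?_⟩
      · show ψ (φ x) = _
        rw [h1' _ (hRR' x hx), h1 x hx]; group
      · have hle : cS g R ≤ R' := by
          intro y hy
          have h4 := hRR' _ (mem_cS.1 hy)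
          rw [h1 _ (mem_cS.1 hy)] at h4
          simpa [mul_assoc] using h4
        have h5 := (he.bple_of_le h3 h2' hle).cj g'
        simp only at h5
        rw [cS_cS, cj_cj] at h5
        exact h5.trans h3')
    (by
      rintro R Q φ ⟨g, f, h1, h2, h3⟩ _ hQ
      have hQe : Q = cS g R := by
        ext y
        rw [hQ, mem_cS]
        constructor
        · rintro ⟨x, hx, rfl⟩
          rw [h1 x hx]; simpa [mul_assoc] using hx
        · intro hy
          exact ⟨_, hy, by rw [h1 _ hy]; group⟩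
      refine ⟨fun y => g⁻¹ * y * g⁻¹⁻¹, ⟨g⁻¹, cj g f, fun _ _ => rfl, ?_, ?_⟩, fun x hx => ?_⟩
      · rw [hQe]; exact h3
      · rw [hQe, cS_inv_cS, cj_inv_cj]; exact h2
      · rw [h1 x hx]; group)

theorem mor_bfs_iff {P : Subgroup G} {e : GA k G} (he : IsBP p P e) (R : Subgroup G)
    (φ : G → G) : Mor (bfs he) R φ ↔ FM p P e R φ := by
  unfold bfs
  apply mor_mkSystem_iff
  rintro R φ ⟨g, f, h1, h2, h3⟩ x hx y hy
  rw [h1 x hx, h1 y hy, h1 _ (R.mul_mem hx hy)]; group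

theorem mem_bfs_hom_iff {P : Subgroup G} {e : GA k G} (he : IsBP p P e) (R : Subgroup G)
    (φ : R →* G) : φ ∈ (bfs he).Hom R ↔ FM p P e R (Cfsg.Agent.Lib.Helper87.ext φ) := Iff.rfl

theorem iso_bfs_conj {P R : Subgroup G} {e f : GA k G} (he : IsBP p P e) {g : G}
    (h2 : BPLE p (R, f) (P, e)) (h3 : BPLE p (cS g R, cj g f) (P, e)) :
    Iso (bfs he) R (cS g R) (fun x => g * x * g⁻¹) := by
  refine ⟨(mor_bfs_iff he _ _).2 ⟨g, f, fun _ _ => rfl, h2, h3⟩, fun y => ?_⟩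
  rw [mem_cS]
  constructor
  · intro hy
    exact ⟨_, hy, by group⟩
  · rintro ⟨x, hx, rfl⟩
    simpa [mul_assoc] using hx

/-- `Aut_F(Q)` is induced by `N(Q,f)` -/
theorem autGroup_bfs {P Q : Subgroup G} {e f : GA k G} (he : IsBP p P e)
    (hle : BPLE p (Q, f) (P, e)) : (bfs he).autGroup Q = autInducedBy (stabP Q f) Q := by
  ext α
  rw [mem_autGroup_iff _ hle.le, mor_bfs_iff, mem_autInducedBy_iff]
  constructor
  · rintro ⟨g, f', h1, h2, h3⟩
    have hα : ∀ x : Q, ((α x : Q) : G) = g * x * g⁻¹ := fun x => by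
      rw [← h1 x x.2, autFun_coe]
    have hgN : g ∈ Nn Q := mem_normalizer_of_induces hα
    have hf' : f' = f := he.subpair_unique _ Q f' f rfl h2 hle
    rw [cS_eq_self_of_mem_Nn hgN, hf'] at h3
    exact ⟨g, ⟨hgN, he.subpair_unique _ Q _ _ rfl h3 hle⟩, hα⟩
  · rintro ⟨g, hg, hα⟩
    refine ⟨g, f, fun x hx => ?_, hle, ?_⟩
    · rw [autFun_apply _ hx, hα]
    · rw [cS_eq_self_of_mem_Nn hg.1, hg.2]; exact hle

/-- saturation of the fusion system of a block -/
theorem bfs_saturated {b e : GA k G} {P : Subgroup G} (h : IsMaxBP p b P e)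
    (hsp : ∀ (H : Subgroup G) (c : GA k G), IsBlk H c → ∀ z, InZ H z →
      ∃ l : k, IsNilpotent (z * c - l • c)) : (bfs h.1.1).IsSaturated p := by
  have he : IsBP p P e := h.1.1
  intro R hRP
  obtain ⟨f0, _, hf0⟩ := he.exists_subpair' hRP
  obtain ⟨x, hx, hdef⟩ := h.exists_conj_isDef_stabP hf0
  obtain ⟨Q, hQ⟩ : ∃ Q, Q = cS x R := ⟨_, rfl⟩
  obtain ⟨f, hf⟩ : ∃ f, f = cj x f0 := ⟨_, rfl⟩
  have hiso := iso_bfs_conj he hf0 hx
  rw [← hQ, ← hf] at hx hdef
  rw [← hQ] at hiso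
  have hfQ : IsBP p Q f := hx.isBP he
  have hQP : Q ≤ P := hx.le
  refine ⟨Q, hiso.isConj, ⟨hQP, ?_⟩, ?_⟩
  · -- fully automised
    rw [autGroup_bfs he hx]
    have hDT : P ⊓ Nn Q ≤ stabP Q f := hx.inf_Nn_le_stabP he
    obtain ⟨S, hS, hDS⟩ := exists_isSylIn_ge hDT (he.1.to_le inf_le_left)
    have hN : Q ⊔ Cn Q ≤ stabP Q f := sup_le (le_stabP hfQ.2.inZ) (Cn_le_stabP hfQ.2.inZ)
    have hblk : IsBlk (Q ⊔ Cn Q) f :=
      hfQ.isBlk_of_fix le_sup_left le_sup_right (hN.trans (stabP_le_Nn Q f))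
        ((fixBy_stabP Q f).mono hN)
    have hSle := hx.pSubgroup_le_sup he hdef (hsp _ _ hblk) hS.1 hS.2.1 hDS
    have h1 : S ⊓ Nn Q = S := inf_eq_left.2 (hS.1.trans (stabP_le_Nn Q f))
    have h2 : stabP Q f ⊓ Nn Q = stabP Q f := inf_eq_left.2 (stabP_le_Nn Q f)
    have h3 : IsSylIn p (S ⊓ Nn Q) (stabP Q f ⊓ Nn Q) := by rw [h1, h2]; exact hS
    obtain ⟨R', hR'⟩ := autInducedBy_sylow h3
    refine ⟨R', ?_⟩
    rw [hR']
    congr 1
    ext α
    rw [mem_autInducedBy_iff, mem_autInducedBy_iff]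
    constructor
    · rintro ⟨s, hs, hα⟩
      obtain ⟨d, hd, c, hc, rfl⟩ := (Cfsg.Agent.Lib.Helper1.mem_sup_of_le_normalizer
        (inf_le_right.trans (Nn_le_normalizer_Cn' Q))).1 (hSle hs)
      refine ⟨d, hd.1, fun u => ?_⟩
      rw [hα u]
      have := mem_Cn.1 hc u u.2
      calc d * c * u * (d * c)⁻¹ = d * (c * u) * c⁻¹ * d⁻¹ := by group
        _ = d * u * d⁻¹ := by rw [← this]; group
    · rintro ⟨g, hg, hα⟩
      exact ⟨g, hDS ⟨hg, mem_normalizer_of_induces hα⟩, hα⟩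
  · -- receptive
    have hdefC : IsDef p (Cn Q) f (P ⊓ Cn Q) := by
      have h1 := hfQ.isDef_Cn_of_isDef_stabP hdef
      have h2 : P ⊓ Nn Q ⊓ Cn Q = P ⊓ Cn Q := by
        rw [inf_assoc, inf_eq_right.2 (Cn_le_Nn Q)]
      rwa [h2] at h1
    apply receptive_of hQP
    intro R' φ hφ N hN
    obtain ⟨g, f', hg, h2, h3⟩ := (mor_bfs_iff he _ _).1 hφ.1
    have hmap : cS g R' = Q := by
      ext y
      rw [hφ.2 y, mem_cS]
      constructor
      · intro hy
        exact ⟨_, hy, by rw [hg _ hy]; group⟩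
      · rintro ⟨u, hu, rfl⟩
        rw [hg u hu]; simpa [mul_assoc] using hu
    have hR'P : R' ≤ P := h2.le
    have hNP : N ≤ P := fun n hn => ((hN n).1 hn).1
    have hR'N : R' ≤ N := by
      intro u hu
      rw [hN]
      refine ⟨hR'P hu, Subgroup.le_normalizer hu, φ u, hφ.1.mem hu, fun y hy => ?_⟩
      exact hφ.1.map_conj hu hy
    obtain ⟨eN, _, heN⟩ := he.exists_subpair' hNP
    have h4 : BPLE p (R', f') (N, eN) := he.bple_of_le h2 heN hR'N
    have h5 := h4.cj g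
    simp only at h5
    rw [hmap] at h5 h3
    have h6 : cj g f' = f := he.subpair_unique _ Q _ _ rfl h3 hx
    rw [h6] at h5
    have hNle : cS g N ≤ (P ⊓ Nn Q) ⊔ Cn Q := by
      intro y hy
      obtain ⟨n, hn, hny⟩ : ∃ n ∈ N, y = g * n * g⁻¹ := ⟨_, mem_cS.1 hy, by group⟩
      obtain ⟨_, hnN, k', hk', hkx⟩ := (hN n).1 hn
      have hact : ∀ q ∈ Q, y * q * y⁻¹ = k' * q * k'⁻¹ := by
        intro q hq
        obtain ⟨z, hz, rfl⟩ := hφ.surj hq
        rw [← hkx z hz, hg z hz, hg _ ((Subgroup.mem_normalizer_iff.1 hnN z).1 hz), hny]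
        group
      have hyN : y ∈ Nn Q := by
        rw [← hmap, ← cS_Nn, hny]
        exact conj_mem_cS hnN
      have hcen : k'⁻¹ * y ∈ Cn Q := by
        rw [mem_Cn]
        intro q hq
        have h7 := hact q hq
        have h8 : y * q = k' * q * k'⁻¹ * y := by rw [← h7]; group
        calc q * (k'⁻¹ * y) = k'⁻¹ * (k' * q * k'⁻¹ * y) := by group
          _ = k'⁻¹ * y * q := by rw [← h8]; group
      have hkN : k' ∈ Nn Q := by
        have h9 := (Nn Q).mul_mem hyN ((Nn Q).inv_mem (Cn_le_Nn Q hcen))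
        have h10 : y * (k'⁻¹ * y)⁻¹ = k' := by group
        rwa [h10] at h9
      have h11 : y = k' * (k'⁻¹ * y) := by group
      rw [h11]
      exact Subgroup.mul_mem _ (Subgroup.mem_sup_left ⟨hk', hkN⟩) (Subgroup.mem_sup_right hcen)
    obtain ⟨c, hc, hcle⟩ := hx.exists_conj_Cn he hdefC h5 hNle
    rw [cS_cS, cj_cj] at hcle
    refine ⟨fun u => (c * g) * u * (c * g)⁻¹,
      (mor_bfs_iff he _ _).2 ⟨c * g, eN, fun _ _ => rfl, heN, hcle⟩, fun u hu => ?_⟩
    rw [hg u hu]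
    have hq : g * u * g⁻¹ ∈ Q := by rw [← hmap]; exact conj_mem_cS hu
    have := mem_Cn.1 hc _ hq
    calc c * g * u * (c * g)⁻¹ = c * (g * u * g⁻¹) * c⁻¹ := by group
      _ = g * u * g⁻¹ := by rw [← this]; group

end GA

end Cfsg.Agent.Lib.Helper80
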