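import Mathlib
import Cfsg.Agent.Lib.Helper80.GARel

set_option autoImplicit false
set_option linter.unusedSectionVars false
set_option linter.style.haveILetI false

namespace Cfsg.Agent.Lib.Helper80

open scoped BigOperators

namespace GA

variable {k : Type*} {G : Type*} [Field k] [Group G] [Fintype G]
variable {p : ℕ} [Fact p.Prime] [CharP k p]

theorem le_Cn_of_abelian {P R : Subgroup G} (hab : ∀ x ∈ P, ∀ y ∈ P, x * y = y * x)
    (hR : R ≤ P) : P ≤ Cn R := fun x hx => mem_Cn.2 (fun u hu => hab u (hR hu) x hx)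

/-- an element normalising `Q` and fixing a pair above `(Q,f)` fixes `f` -/
theorem BPLE.mem_stabP_of_mem {P Q : Subgroup G} {e f : GA k G} (he : IsBP p P e)
    (hle : BPLE p (Q, f) (P, e)) {y : G} (hy : y ∈ stabP P e) (hyQ : y ∈ Nn Q) :
    y ∈ stabP Q f := by
  refine ⟨hyQ, ?_⟩
  have h1 := hle.cj y
  simp only at h1
  rw [cS_eq_self_of_mem_Nn hyQ, cS_eq_self_of_mem_Nn hy.1, hy.2] at h1
  exact he.subpair_unique _ Q _ _ rfl h1 hle

theorem IsMaxBP.abelian_isDef_Cn {b e f : GA k G} {P Q : Subgroup G} (h : IsMaxBP p b P e)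
    (hab : ∀ x ∈ P, ∀ y ∈ P, x * y = y * x) (hle : BPLE p (Q, f) (P, e)) :
    IsDef p (Cn Q) f P := by
  have h1 : ∀ R : Subgroup G, R ≤ P → P ⊓ Cn R = P := fun R hR =>
    inf_eq_left.2 (le_Cn_of_abelian hab hR)
  have h2 := (h.fullyCentralized_iff hle).1 (fun x hx => by rw [h1 _ hx.le, h1 _ hle.le])
  rwa [h1 _ hle.le] at h2

theorem IsMaxBP.abelian_factor {b e f : GA k G} {P Q : Subgroup G} (h : IsMaxBP p b P e)
    (hab : ∀ x ∈ P, ∀ y ∈ P, x * y = y * x) (hle : BPLE p (Q, f) (P, e)) {x : G}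
    (hx : x ∈ stabP Q f) : ∃ y ∈ stabP P e, ∃ c ∈ Cn Q, x = y * c := by
  have he : IsBP p P e := h.1.1
  have hf : IsBP p Q f := hle.isBP he
  have hloc : Loc p Q f (Cn Q) :=
    ⟨hf, hle.le.trans (le_Cn_of_abelian hab hle.le), le_rfl, Cn_le_stabP hf.2.inZ⟩
  have h1 := hle.cj x
  simp only at h1
  rw [cS_eq_self_of_mem_Nn hx.1, hx.2] at h1
  have h2 : cS x P ≤ Cn Q := by
    have := cS_mono x (le_Cn_of_abelian hab hle.le)
    rwa [cS_Cn, cS_eq_self_of_mem_Nn hx.1] at this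
  obtain ⟨c, hc, hcle⟩ := hloc.exists_conj_le hle (h.abelian_isDef_Cn hab hle) h1 h2
  rw [cS_cS, cj_cj] at hcle
  have h3 : cS (c * x) P = P := by
    apply Subgroup.eq_of_le_of_card_ge hcle.le
    rw [card_cS]
  rw [h3] at hcle
  have h4 : cj (c * x) e = e := he.subpair_unique _ P _ _ rfl hcle Relation.ReflTransGen.refl
  have hyN : c * x ∈ Nn P := by
    rw [Subgroup.mem_normalizer_iff]
    intro g
    constructor
    · intro hg
      rw [← h3, mem_cS]
      simpa [mul_assoc] using hg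
    · intro hg
      rw [← h3, mem_cS] at hg
      simpa [mul_assoc] using hg
  have hyQ : c * x ∈ Nn Q := (Nn Q).mul_mem (Cn_le_Nn Q hc) hx.1
  refine ⟨c * x, ⟨hyN, h4⟩, (c * x)⁻¹ * c⁻¹ * (c * x), ?_, by group⟩
  have h5 : cS (c * x)⁻¹ (Cn Q) = Cn Q := cS_Cn_of_mem_Nn ((Nn Q).inv_mem hyQ)
  rw [← h5, mem_cS]
  simpa [mul_assoc] using hc

end GA

end Cfsg.Agent.Lib.Helper80
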