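import Mathlib
import Cfsg.Agent.Lib.Helper80.GASplit
import Cfsg.Agent.Lib.Helper80.GADef2

set_option autoImplicit false
set_option linter.unusedSectionVars false
set_option linter.style.haveILetI false

namespace Cfsg.Agent.Lib.Helper80

open scoped BigOperators Pointwise
open Cfsg Cfsg.Agent.Lib.Helper81 Cfsg.Agent.Lib.Helper20 GA

variable {p : ℕ} [Fact p.Prime] {M : Ideal AlgInt} (hM : IsPModular p M)

/-- the residue field is a splitting field for the centres of the block algebras (type level) -/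
theorem split_top {H : Type*} [Group H] [Fintype H] {b z : GA (Kr hM) H} (hb : IsBlk ⊤ b)
    (hz : InZ ⊤ z) : ∃ c : Kr hM, IsNilpotent (z * b - c • b) := by
  obtain ⟨B, hB, rfl⟩ := exists_block_of_isBlk hM hb
  obtain ⟨a, ha, haR, rfl⟩ := exists_lift hM hz
  obtain ⟨χ, hχ⟩ := isPBlock_nonempty hM hB
  refine ⟨resC hM (omega (χ : H → ℂ) a), ?_⟩
  have hω := omega_memLocalRing hM χ ha haR
  have hd1 : IsClassFunction H (a - omega (χ : H → ℂ) a • dl) :=
    classFunction_sub ha (classFunction_smul _ dl_classFunction)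
  have hd2 : RV M (a - omega (χ : H → ℂ) a • dl) := RV.sub hM haR (RV.smul hM hω (RV_dl hM))
  have h0 : MemLocalIdeal M (omega (χ : H → ℂ) (a - omega (χ : H → ℂ) a • dl)) := by
    rw [omega_sub, omega_smul, omega_dl (irr_one_ne_zero χ.2), mul_one, sub_self]
    exact memLocalIdeal_zero hM
  have h1 := isNilpotent_red_mul_blkR hM hB hd1 hd2 hχ h0
  rw [red_sub hM haR (RV.smul hM hω (RV_dl hM)), red_smul hM hω (RV_dl hM), red_dl, sub_mul,
    smul_mul_assoc, one_mul] at h1
  exact h1

/-- the residue field is a splitting field for the centres of the block algebras -/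
theorem split_sub {G : Type*} [Group G] [Fintype G] {H : Subgroup G} {b : GA (Kr hM) G}
    (hb : IsBlk H b) : ∀ z, InZ H z → ∃ c : Kr hM, IsNilpotent (z * b - c • b) := by
  intro z hz
  haveI : Fintype H := Fintype.ofFinite H
  have hbe : emb H (rst H b) = b := emb_rst H hb.inZ.1
  have hze : emb H (rst H z) = z := emb_rst H hz.1
  have hb' : IsBlk ⊤ (rst H b) := by rw [← isBlk_emb_iff, hbe]; exact hb
  have hz' : InZ ⊤ (rst H z) := by rw [← inZ_emb_iff, hze]; exact hz
  obtain ⟨c, n, hn⟩ := split_top hM hb' hz'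
  refine ⟨c, n, ?_⟩
  have := congrArg (emb H) hn
  rwa [emb_pow, emb_sub, emb_mul, emb_smul, hbe, hze, emb_zero] at this

end Cfsg.Agent.Lib.Helper80
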