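import Mathlib
import Cfsg.Agent.Lib.Helper80.GASplitK
import Cfsg.Agent.Lib.Helper80.GAAb
import Cfsg.Agent.Lib.Helper80.GAFusT

set_option autoImplicit false
set_option linter.unusedSectionVars false
set_option linter.style.haveILetI false

namespace Cfsg.Agent.Lib.Helper80

open scoped BigOperators

namespace GA

variable {k : Type*} {G : Type*} [Field k] [Group G] [Fintype G]

/-- abstract nilpotent block -/
def NilB (p : ℕ) (b : GA k G) : Prop :=
  ∀ (Q : Subgroup G) (f : GA k G), IsBPOf p b Q f → ∀ x ∈ stabP Q f, ¬ p ∣ orderOf x → x ∈ Cn Q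

/-- a subgroup containing all `p`-elements and all `p'`-elements of `T` contains `T` -/
theorem le_of_p_and_p' {p : ℕ} [Fact p.Prime] {T C : Subgroup G}
    (h1 : ∀ x ∈ T, ¬ p ∣ orderOf x → x ∈ C)
    (h2 : ∀ x ∈ T, IsPGroup p (Subgroup.zpowers x) → x ∈ C) : T ≤ C := by
  intro x hx
  have hp : p.Prime := Fact.out
  obtain ⟨a, m, hm, hxo⟩ := Nat.exists_eq_pow_mul_and_not_dvd (orderOf_pos x).ne' p hp.ne_one
  have hm0 : m ≠ 0 := by
    rintro rfl; exact hm (dvd_zero p)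
  have hA : x ^ (p ^ a) ∈ C := by
    apply h1 _ (T.pow_mem hx _)
    rw [orderOf_pow_of_dvd (pow_ne_zero a hp.ne_zero) (hxo ▸ Dvd.intro _ rfl), hxo,
      Nat.mul_div_cancel_left _ (pow_pos hp.pos a)]
    exact hm
  have hB : x ^ m ∈ C := by
    apply h2 _ (T.pow_mem hx _)
    rw [IsPGroup.iff_card]
    refine ⟨a, ?_⟩
    rw [Nat.card_zpowers, orderOf_pow_of_dvd hm0 (hxo ▸ Dvd.intro_left _ rfl), hxo,
      Nat.mul_div_cancel _ (Nat.pos_of_ne_zero hm0)]
  have hcop : Nat.Coprime (p ^ a) m :=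
    Nat.Coprime.pow_left a ((Nat.Prime.coprime_iff_not_dvd hp).2 hm)
  have hbez := Nat.gcd_eq_gcd_ab (p ^ a) m
  rw [hcop.gcd_eq_one] at hbez
  have : x = (x ^ (p ^ a)) ^ (Nat.gcdA (p ^ a) m) * (x ^ m) ^ (Nat.gcdB (p ^ a) m) := by
    rw [← zpow_natCast x, ← zpow_natCast x, ← zpow_mul, ← zpow_mul, ← zpow_add, ← hbez]
    simp
  rw [this]
  exact C.mul_mem (C.zpow_mem hA _) (C.zpow_mem hB _)

variable {p : ℕ} [Fact p.Prime] [CharP k p]

/-- the inertial quotient of a maximal pair is a `p'`-group: `p`-subgroups of `N(P,e)` lie in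
`P C(P)` -/
theorem IsMaxBP.pSubgroup_le {b e : GA k G} {P S : Subgroup G} (h : IsMaxBP p b P e)
    (hsp : ∀ z, InZ (P ⊔ Cn P) z → ∃ c : k, IsNilpotent (z * e - c • e))
    (hS : S ≤ stabP P e) (hSp : IsPGroup p S) : S ≤ P ⊔ Cn P := by
  have he : IsBP p P e := h.1.1
  have hN : P ⊔ Cn P ≤ stabP P e := sup_le (le_stabP he.2.inZ) (Cn_le_stabP he.2.inZ)
  have hblk : IsBlk (P ⊔ Cn P) e :=
    he.isBlk_of_fix le_sup_left le_sup_right (hN.trans (stabP_le_Nn P e))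
      ((fixBy_stabP P e).mono hN)
  have hnorm : stabP P e ≤ Nn (P ⊔ Cn P) := by
    intro t ht
    have h1 : cS t (P ⊔ Cn P) = P ⊔ Cn P := by
      have e1 : cS t P = P := cS_eq_self_of_mem_Nn ht.1
      have e2 : cS t (Cn P) = Cn P := cS_Cn_of_mem_Nn ht.1
      calc cS t (P ⊔ Cn P) = cS t P ⊔ cS t (Cn P) := Subgroup.map_sup _ _ _
        _ = P ⊔ Cn P := by rw [e1, e2]
    rw [Subgroup.mem_normalizer_iff]
    intro g
    constructor
    · intro hg
      rw [← h1, mem_cS]; simpa [mul_assoc] using hg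
    · intro hg
      rw [← h1, mem_cS] at hg; simpa [mul_assoc] using hg
  obtain ⟨y, hy, hle⟩ := h.isDef_stabP.le_conj_sup hblk hN hnorm (fixBy_stabP P e) hsp hS hSp
  rw [cS_eq_self_of_mem_Nn hy.1] at hle
  exact hle.trans (sup_le le_sup_left le_rfl)

theorem IsMaxBP.abelian_nilB_iff {b e : GA k G} {P : Subgroup G} (h : IsMaxBP p b P e)
    (hab : ∀ x ∈ P, ∀ y ∈ P, x * y = y * x)
    (hsp : ∀ z, InZ (P ⊔ Cn P) z → ∃ c : k, IsNilpotent (z * e - c • e)) :
    NilB p b ↔ stabP P e ≤ Cn P := by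
  constructor
  · intro hnil
    apply le_of_p_and_p' (p := p)
    · intro x hx hxo
      exact hnil P e h.1 x hx hxo
    · intro x hx hxp
      have h1 := h.pSubgroup_le hsp (S := Subgroup.zpowers x)
        (by rw [Subgroup.zpowers_le]; exact hx) hxp
      have h2 : P ⊔ Cn P ≤ Cn P := sup_le (le_Cn_of_abelian hab le_rfl) le_rfl
      exact h2 (h1 (Subgroup.mem_zpowers x))
  · intro hT Q f hQf x hx _
    obtain ⟨y, hy⟩ := h.exists_conj_le hQf
    have h1 : y * x * y⁻¹ ∈ stabP (cS y Q) (cj y f) := by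
      rw [← cS_stabP, mem_cS]
      simpa [mul_assoc] using hx
    obtain ⟨t, ht, c, hc, htc⟩ := h.abelian_factor hab hy h1
    have h2 : y * x * y⁻¹ ∈ Cn (cS y Q) := by
      rw [htc]
      exact (Cn _).mul_mem (Cn_anti hy.le (hT ht)) hc
    rw [← cS_Cn, mem_cS] at h2
    simpa [mul_assoc] using h2

end GA

open Cfsg Cfsg.Agent.Lib.Helper81 Cfsg.Agent.Lib.Helper20 GA

variable {p : ℕ} [Fact p.Prime] {M : Ideal AlgInt} (hM : IsPModular p M)
  {G : Type*} [Group G] [Fintype G]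

theorem isNilpotentBlock_iff {B : Set (IrrCharacter G)} (hB : IsPBlock M B) :
    IsNilpotentBlock p M B ↔ NilB p (blkR hM B) := by
  constructor
  · rintro ⟨_, h⟩ Q f hQf x hx hxo
    obtain ⟨f', hf', rfl⟩ := exists_block_of_isBlk_sub hM _ hQf.1.2
    have hQf' : IsBrauerPair p M Q f' := ⟨hQf.1.1, hf'⟩
    exact h Q f' ((isBrauerPairOf_iff hM).2 ⟨hQf', hB, hQf⟩) x hx.1
      ((stabilizesBlock_iff hM _ hf' (Nn_le_normalizer_Cn Q hx.1)).2 hx.2) hxo
  · intro h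
    refine ⟨hB, fun Q e hQe x hx hst hreg => ?_⟩
    have h1 := (isBrauerPairOf_iff hM).1 hQe
    exact h Q _ h1.2.2 x
      ⟨hx, (stabilizesBlock_iff hM _ h1.1.2 (Nn_le_normalizer_Cn Q hx)).1 hst⟩ hreg

end Cfsg.Agent.Lib.Helper80
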