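import Mathlib
import Cfsg.Agent.Lib.Helper80.GAFSys
import Cfsg.Agent.Lib.Helper80.GANilB

set_option autoImplicit false
set_option linter.unusedSectionVars false
set_option linter.style.haveILetI false

namespace Cfsg.Agent.Lib.Helper80

open scoped BigOperators
open Cfsg Cfsg.FusionSystem Cfsg.Agent.Lib.Helper81 Cfsg.Agent.Lib.Helper20 GA

variable {p : ℕ} [Fact p.Prime] {M : Ideal AlgInt} (hM : IsPModular p M)
  {G : Type*} [Group G] [Fintype G]

/-- the abstract fusion system is the fusion system of the block -/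
theorem isBlockFusionSystemOn_bfs {B : Set (IrrCharacter G)} {P : Subgroup G}
    {e : Set (IrrCharacter (Cn P))} (hmax : IsMaximalBrauerPair p M B P e) :
    IsBlockFusionSystemOn p M B P e (bfs (isBP_of_isBrauerPair hM hmax.1.1)) := by
  have hPe : IsBrauerPair p M P e := hmax.1.1
  have he : IsBP p P (bl hM (Cn P) e) := isBP_of_isBrauerPair hM hPe
  refine ⟨hmax, fun Q φ => ?_⟩
  rw [mem_bfs_hom_iff]
  constructor
  · rintro ⟨g, f, h1, h2, h3⟩
    have hfQ : IsBP p Q f := h2.isBP he
    obtain ⟨f', hf', rfl⟩ := exists_block_of_isBlk_sub hM _ hfQ.2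
    have hQf : IsBrauerPair p M Q f' := ⟨hfQ.1, hf'⟩
    refine ⟨h2.le, g, fun u => ?_, h3.le, f', (subpairLE_iff hM hPe hQf).2 h2, ?_⟩
    · rw [← h1 u u.2, Cfsg.Agent.Lib.Helper87.ext_coe]
    · have h4 : SubpairLE p M (cS g Q) (conjBlock Q g f') P e := by
        rw [subpairLE_iff hM hPe (isBrauerPair_conjBlock hQf g), bl_conjBlock]
        exact h3
      exact h4
  · rintro ⟨_, g, hg, _, f, h1, h2⟩
    refine ⟨g, bl hM (Cn Q) f, fun x hx => ?_, bple_of_subpairLE hM h1, ?_⟩
    · rw [Cfsg.Agent.Lib.Helper87.ext_apply _ hx, hg]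
    · have h3 : BPLE p (cS g Q, bl hM (Cn (cS g Q)) (conjBlock Q g f)) (P, bl hM (Cn P) e) :=
        bple_of_subpairLE hM h2
      rwa [bl_conjBlock] at h3

theorem bfs_saturated_of_isMaximalBrauerPair {B : Set (IrrCharacter G)} {P : Subgroup G}
    {e : Set (IrrCharacter (Cn P))} (hmax : IsMaximalBrauerPair p M B P e) :
    (bfs (isBP_of_isBrauerPair hM hmax.1.1)).IsSaturated p :=
  bfs_saturated (isMaxBP_of_isMaximalBrauerPair hM hmax) (fun _ _ hc => split_sub hM hc)

/-- any two fusion systems of the same block on the same pair have the same maps -/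
theorem hom_eq_of_isBlockFusionSystemOn {B : Set (IrrCharacter G)} {P : Subgroup G}
    {e : Set (IrrCharacter (Cn P))} {F F' : FusionSystem P}
    (hF : IsBlockFusionSystemOn p M B P e F) (hF' : IsBlockFusionSystemOn p M B P e F')
    (Q : Subgroup G) : F.Hom Q = F'.Hom Q := by
  ext φ
  rw [hF.2 Q φ, hF'.2 Q φ]

end Cfsg.Agent.Lib.Helper80
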