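import Mathlib
import Cfsg.Agent.Lib.Helper80.GAFSysT
import Cfsg.Agent.Lib.Helper86.FusionFrobenius

set_option autoImplicit false
set_option linter.unusedSectionVars false
set_option linter.style.haveILetI false

namespace Cfsg.Agent.Lib.Helper80

open scoped BigOperators
open Cfsg Cfsg.FusionSystem Cfsg.Agent.Lib.Helper87

namespace GA

variable {k : Type*} {G : Type*} [Field k] [Group G] [Fintype G]
variable {p : ℕ} [Fact p.Prime] [CharP k p]

/-- a `p'`-element of `N(Q)` acting on `Q` like an element of a `p`-group centralises `Q` -/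
theorem mem_Cn_of_act_eq {Q : Subgroup G} {x u : G} (hx : x ∈ Nn Q) (hxo : ¬ p ∣ orderOf x)
    (hu : ∃ n : ℕ, u ^ (p ^ n) = 1) (h : ∀ q ∈ Q, x * q * x⁻¹ = u * q * u⁻¹) : x ∈ Cn Q := by
  obtain ⟨n, hn⟩ := hu
  have hpow : ∀ j : ℕ, ∀ q ∈ Q, x ^ j * q * (x ^ j)⁻¹ = u ^ j * q * (u ^ j)⁻¹ := by
    intro j
    induction j with
    | zero => intro q _; simp
    | succ j ih =>
      intro q hq
      have h1 : x ^ j * q * (x ^ j)⁻¹ ∈ Q :=
        (Subgroup.mem_normalizer_iff.1 ((Nn Q).pow_mem hx j) q).1 hq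
      calc x ^ (j + 1) * q * (x ^ (j + 1))⁻¹ = x * (x ^ j * q * (x ^ j)⁻¹) * x⁻¹ := by
            rw [pow_succ']; group
        _ = u * (x ^ j * q * (x ^ j)⁻¹) * u⁻¹ := h _ h1
        _ = u * (u ^ j * q * (u ^ j)⁻¹) * u⁻¹ := by rw [ih q hq]
        _ = u ^ (j + 1) * q * (u ^ (j + 1))⁻¹ := by rw [pow_succ']; group
  have h1 : x ^ (p ^ n) ∈ Cn Q := by
    rw [mem_Cn]
    intro q hq
    have := hpow (p ^ n) q hq
    rw [hn] at this
    have h2 : x ^ (p ^ n) * q * (x ^ (p ^ n))⁻¹ = q := by simpa using this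
    calc q * x ^ (p ^ n) = (x ^ (p ^ n) * q * (x ^ (p ^ n))⁻¹) * x ^ (p ^ n) := by rw [h2]
      _ = x ^ (p ^ n) * q := by group
  have hcop : (p ^ n).Coprime (orderOf x) :=
    Nat.Coprime.pow_left n ((Nat.Prime.coprime_iff_not_dvd Fact.out).2 hxo)
  obtain ⟨m, hm⟩ := exists_pow_eq_self_of_coprime hcop
  rw [← hm]
  exact (Cn Q).pow_mem h1 m

theorem NilB.isPGroup_autInducedBy {b f : GA k G} {Q : Subgroup G} (hnil : NilB p b)
    (hQf : IsBPOf p b Q f) : IsPGroup p (autInducedBy (stabP Q f) Q) := by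
  intro β
  obtain ⟨x, rfl⟩ := conjToAut_surjective (stabP Q f) Q β
  have hp : p.Prime := Fact.out
  obtain ⟨a, m, hm, hxo⟩ := Nat.exists_eq_pow_mul_and_not_dvd (orderOf_pos (x : G)).ne' p hp.ne_one
  refine ⟨a, ?_⟩
  rw [← map_pow]
  have h1 : ((x ^ (p ^ a) : ↥(stabP Q f ⊓ Nn Q)) : G) ∈ Cn Q := by
    apply hnil Q f hQf _ (x ^ (p ^ a)).2.1
    rw [Subgroup.coe_pow, orderOf_pow_of_dvd (pow_ne_zero a hp.ne_zero) (hxo ▸ Dvd.intro _ rfl), hxo,
      Nat.mul_div_cancel_left _ (pow_pos hp.pos a)]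
    exact hm
  apply Subtype.ext
  ext u
  rw [conjToAut_apply]
  have := mem_Cn.1 h1 u u.2
  show _ * (u : G) * _ = (u : G)
  rw [← this]; group

theorem IsMaxBP.nilB_iff_inner {b e : GA k G} {P : Subgroup G} (h : IsMaxBP p b P e)
    (hsp : ∀ (H : Subgroup G) (c : GA k G), IsBlk H c → ∀ z, InZ H z →
      ∃ l : k, IsNilpotent (z * c - l • c)) :
    NilB p b ↔ bfs h.1.1 = innerFusionSystem P := by
  have he : IsBP p P e := h.1.1
  constructor
  · intro hnil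
    apply Cfsg.Agent.Lib.Helper86.eq_inner_of_isPGroup he.1 _ (bfs_saturated h hsp)
    intro Q hQ
    obtain ⟨f, _, hf⟩ := he.exists_subpair' hQ
    rw [autGroup_bfs he hf]
    exact hnil.isPGroup_autInducedBy (hf.isBPOf_iff.1 h.1)
  · intro hinner Q f hQf x hx hxo
    obtain ⟨y, hy⟩ := h.exists_conj_le hQf
    have h1 : y * x * y⁻¹ ∈ stabP (cS y Q) (cj y f) := by
      rw [← cS_stabP, mem_cS]
      simpa [mul_assoc] using hx
    have h2 : Mor (bfs he) (cS y Q) (fun q => (y * x * y⁻¹) * q * (y * x * y⁻¹)⁻¹) := by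
      rw [mor_bfs_iff]
      refine ⟨_, cj y f, fun _ _ => rfl, hy, ?_⟩
      rw [cS_eq_self_of_mem_Nn h1.1, h1.2]; exact hy
    rw [hinner] at h2
    obtain ⟨φ, ⟨_, u, hu, hφ⟩, hφ'⟩ := h2
    have h3 : y * x * y⁻¹ ∈ Cn (cS y Q) := by
      apply mem_Cn_of_act_eq (p := p) (u := u) h1.1
      · have : orderOf (y * x * y⁻¹) = orderOf x := by
          exact orderOf_injective (MulAut.conj y).toMonoidHom (MulAut.conj y).injective x
        rw [this]; exact hxo
      · obtain ⟨n, hn⟩ := he.1 ⟨u, hu⟩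
        exact ⟨n, by simpa using congrArg (fun t : P => (t : G)) hn⟩
      · intro q hq
        exact (hφ' ⟨q, hq⟩).symm.trans (hφ ⟨q, hq⟩)
    rw [← cS_Cn, mem_cS] at h3
    simpa [mul_assoc] using h3

end GA

end Cfsg.Agent.Lib.Helper80
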