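import Mathlib
import Cfsg.Agent.Lib.Helper80.GANilF

set_option autoImplicit false
set_option linter.unusedSectionVars false
set_option linter.style.haveILetI false

namespace Cfsg.Agent.Lib.Helper80

open scoped BigOperators
open Cfsg Cfsg.FusionSystem Cfsg.Agent.Lib.Helper87

namespace GA

variable {k : Type*} {G : Type*} [Field k] [Group G] [Fintype G]
variable {p : ℕ} [Fact p.Prime] [CharP k p]

theorem Cn_sup (Q R : Subgroup G) : Cn (Q ⊔ R) = Cn Q ⊓ Cn R := by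
  apply le_antisymm
  · exact le_inf (Cn_anti le_sup_left) (Cn_anti le_sup_right)
  · intro g hg
    exact mem_Cn_sup hg.1 hg.2

theorem br_sup_eq {Q R : Subgroup G} {f : GA k G} (hf : SuppOn (Cn Q) f) :
    br (Q ⊔ R) f = br R f := by
  ext g
  by_cases hg : g ∈ Cn R
  · rw [br_apply_mem _ hg]
    by_cases hgQ : g ∈ Cn Q
    · rw [br_apply_mem _ (mem_Cn_sup hgQ hg)]
    · rw [br_apply_not_mem _ (fun h => hgQ (Cn_anti le_sup_left h)), hf g hgQ]
  · rw [br_apply_not_mem _ hg, br_apply_not_mem _ (fun h => hg (Cn_anti le_sup_right h))]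

/-- a Brauer pair `(R,g)` of the block `f` of `C(Q)` gives the pair `(QR,g)` above `(Q,f)` -/
theorem IsBP.nsub_of_centralizer {Q : Subgroup G} {f : GA k G} (hf : IsBP p Q f)
    [Fintype (Cn Q)] {R' : Subgroup (Cn Q)} {g' : GA k (Cn Q)}
    (h : IsBPOf p (rst (Cn Q) f) R' g') :
    NSub p Q f (Q ⊔ up (Cn Q) R') (emb (Cn Q) g') := by
  have hfe : emb (Cn Q) (rst (Cn Q) f) = f := emb_rst _ hf.2.inZ.1
  have hRC : up (Cn Q) R' ≤ Cn Q := up_le _ _
  have hRp : IsPGroup p (up (Cn Q) R') := (isPGroup_up _).2 h.1.1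
  have hQR : IsPGroup p (Q ⊔ up (Cn Q) R' : Subgroup G) :=
    IsPGroup.to_sup_of_normal_left' hf.1 hRp (hRC.trans (Cn_le_Nn Q))
  refine ⟨hf, ⟨hQR, ?_⟩, le_sup_left, sup_le Subgroup.le_normalizer (hRC.trans (Cn_le_Nn Q)),
    (fixBy_of_suppOn_Cn hf.2.inZ.1).sup (hf.2.inZ.2.mono hRC), ?_⟩
  · rw [Cn_sup, ← up_Cn, isBlk_up_iff]
    exact h.1.2
  · rw [br_sup_eq hf.2.inZ.1]
    have := congrArg (emb (Cn Q)) h.2.2
    rwa [emb_mul, emb_br, hfe] at this

/-- blocks of centralisers occurring in Brauer pairs of a nilpotent block are nilpotent -/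
theorem NilB.centralizer {b f : GA k G} {Q : Subgroup G} (hnil : NilB p b)
    (hQf : IsBPOf p b Q f) [Fintype (Cn Q)] : NilB p (rst (Cn Q) f) := by
  intro R' g' h x' hx' hxo
  have hns := hQf.1.nsub_of_centralizer h
  have hb := hns.isBPOf_up hQf
  have hxQ : (x' : G) ∈ Cn Q := x'.2
  have hxR : (x' : G) ∈ Nn (up (Cn Q) R') := by
    have : (x' : G) ∈ up (Cn Q) (Nn R') := (coe_mem_up _).2 hx'.1
    rw [up_Nn] at this
    exact this.2
  have hx : (x' : G) ∈ stabP (Q ⊔ up (Cn Q) R') (emb (Cn Q) g') := by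
    refine ⟨mem_Nn_of_cS_eq ?_, ?_⟩
    · rw [cS_sup, cS_eq_self_of_mem_Nn (Cn_le_Nn Q hxQ), cS_eq_self_of_mem_Nn hxR]
    · rw [← emb_cj, hx'.2]
  have h1 := hnil _ _ hb _ hx (by rw [Subgroup.orderOf_coe]; exact hxo)
  have h2 : (x' : G) ∈ up (Cn Q) (Cn R') := by
    rw [up_Cn]
    exact ⟨hxQ, Cn_anti le_sup_right h1⟩
  exact (coe_mem_up _).1 h2

/-- in a nilpotent block every pair below `(P,e)` is fully centralised -/
theorem IsMaxBP.isDef_Cn_of_nilB {b e f : GA k G} {P Q : Subgroup G} (h : IsMaxBP p b P e)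
    (hsp : ∀ (H : Subgroup G) (c : GA k G), IsBlk H c → ∀ z, InZ H z →
      ∃ l : k, IsNilpotent (z * c - l • c))
    (hnil : NilB p b) (hle : BPLE p (Q, f) (P, e)) : IsDef p (Cn Q) f (P ⊓ Cn Q) := by
  have he : IsBP p P e := h.1.1
  have hinner := (h.nilB_iff_inner hsp).1 hnil
  rw [← h.fullyCentralized_iff hle]
  intro x hx
  have h2 : Mor (bfs he) Q (fun q => x * q * x⁻¹) :=
    (mor_bfs_iff he _ _).2 ⟨x, f, fun _ _ => rfl, hle, hx⟩
  rw [hinner] at h2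
  obtain ⟨φ, ⟨_, u, hu, hφ⟩, hφ'⟩ := h2
  have h3 : cS x Q = cS u Q := by
    ext y
    rw [mem_cS, mem_cS]
    constructor
    · intro hy
      have e1 : x * (x⁻¹ * y * x) * x⁻¹ = u * (x⁻¹ * y * x) * u⁻¹ :=
        (hφ' ⟨_, hy⟩).symm.trans (hφ ⟨_, hy⟩)
      have e2 : u⁻¹ * y * u = x⁻¹ * y * x := by
        have e3 : y = u * (x⁻¹ * y * x) * u⁻¹ := by
          rw [← e1]; group
        calc u⁻¹ * y * u = u⁻¹ * (u * (x⁻¹ * y * x) * u⁻¹) * u := by rw [← e3]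
          _ = x⁻¹ * y * x := by group
      rw [e2]; exact hy
    · intro hy
      have e1 : x * (u⁻¹ * y * u) * x⁻¹ = u * (u⁻¹ * y * u) * u⁻¹ :=
        (hφ' ⟨_, hy⟩).symm.trans (hφ ⟨_, hy⟩)
      have e2 : x⁻¹ * y * x = u⁻¹ * y * u := by
        have e3 : y = x * (u⁻¹ * y * u) * x⁻¹ := by
          rw [e1]; group
        calc x⁻¹ * y * x = x⁻¹ * (x * (u⁻¹ * y * u) * x⁻¹) * x := by rw [← e3]
          _ = u⁻¹ * y * u := by group
      rw [e2]; exact hy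
  have h4 : P ⊓ Cn (cS x Q) = cS u (P ⊓ Cn Q) := by
    rw [h3, cS_inf, (he.cj_self hu).1, cS_Cn]
  rw [h4, card_cS]

end GA

end Cfsg.Agent.Lib.Helper80
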