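import Mathlib
import Cfsg.Agent.Lib.Helper80.GALocNil

set_option autoImplicit false
set_option linter.unusedSectionVars false
set_option linter.style.haveILetI false

namespace Cfsg.Agent.Lib.Helper80

open scoped BigOperators

namespace GA

variable {k : Type*} {G : Type*} [Field k] [Group G] [Fintype G]
variable {p : ℕ} [Fact p.Prime] [CharP k p]

/-- if `G = N(Q,f)` then the block of `G` containing `(Q,f)` has idempotent `f` -/
theorem IsBPOf.eq_of_top_le_stabP {b f : GA k G} {Q : Subgroup G} (h : IsBPOf p b Q f)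
    (hG : ⊤ ≤ stabP Q f) : b = f := by
  have hf : IsBP p Q f := h.1
  have hblk : IsBlk ⊤ f := hf.isBlk_of_fix le_top le_top (hG.trans (stabP_le_Nn Q f))
    ((fixBy_stabP Q f).mono hG)
  have h1 : br Q b = b :=
    br_eq_self_of_idem hf.1 le_top (hG.trans (stabP_le_Nn Q f)) h.2.1.inZ h.2.1.idem
  rcases h.2.1.eq_or_orth hblk with h2 | h2
  · exact h2
  · exfalso
    apply hf.2.ne_zero
    rw [← h.2.2, h1, h2]

theorem IsBP.isDef_sup_of_centric {Q : Subgroup G} {f : GA k G} (hf : IsBP p Q f)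
    (hdef : IsDef p (Cn Q) f (Q ⊓ Cn Q)) : IsDef p (Q ⊔ Cn Q) f Q := by
  have h1 := BPLE.isDef_sup hf (Relation.ReflTransGen.refl : BPLE p (Q, f) (Q, f)) hdef
  rwa [inf_eq_left.2 (Subgroup.le_normalizer : Q ≤ Nn Q)] at h1

/-- a centric pair gives a nilpotent block of `Q C(Q)` -/
theorem IsBP.nilB_of_centric {Q : Subgroup G} {f : GA k G} (hf : IsBP p Q f)
    (hdef : IsDef p (Cn Q) f (Q ⊓ Cn Q)) [Fintype ↥(Q ⊔ Cn Q)] :
    NilB p (rst (Q ⊔ Cn Q) f) := by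
  intro R' g' h x' hx' hxo
  have hfe : emb (Q ⊔ Cn Q) (rst (Q ⊔ Cn Q) f) = f :=
    emb_rst _ (hf.2.inZ.1.mono le_sup_right)
  have hLN : Q ⊔ Cn Q ≤ Nn Q := sup_le Subgroup.le_normalizer (Cn_le_Nn Q)
  have hbr : br (up (Q ⊔ Cn Q) R') f ≠ 0 := by
    intro h0
    apply h.1.2.ne_zero
    apply emb_injective (Q ⊔ Cn Q)
    rw [← h.2.2, emb_mul, emb_br, hfe, h0, zero_mul, emb_zero]
  obtain ⟨y, hy, hle⟩ := (hf.isDef_sup_of_centric hdef).zd.le_conj_of_br_ne (up_le _ R')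
    ((isPGroup_up _).2 h.1.1) hbr
  rw [cS_eq_self_of_mem_Nn (hLN hy)] at hle
  obtain ⟨u, hu, c, hc, huc⟩ := (Cfsg.Agent.Lib.Helper1.mem_sup_of_le_normalizer
    ((Subgroup.le_normalizer : Q ≤ Nn Q).trans (Nn_le_normalizer_Cn' Q))).1 x'.2
  have hx : (x' : G) ∈ Cn Q := by
    apply mem_Cn_of_act_eq (p := p) (u := u) (hLN x'.2)
    · rw [Subgroup.orderOf_coe]; exact hxo
    · obtain ⟨n, hn⟩ := hf.1 ⟨u, hu⟩
      exact ⟨n, by simpa using congrArg (fun t : Q => (t : G)) hn⟩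
    · intro q hq
      rw [← huc]
      have := mem_Cn.1 hc q hq
      calc u * c * q * (u * c)⁻¹ = u * (c * q) * c⁻¹ * u⁻¹ := by group
        _ = u * q * u⁻¹ := by rw [← this]; group
  have h2 : (x' : G) ∈ up (Q ⊔ Cn Q) (Cn R') := by
    rw [up_Cn]
    exact ⟨x'.2, Cn_anti hle hx⟩
  exact (coe_mem_up _).1 h2

end GA

end Cfsg.Agent.Lib.Helper80
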