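import Mathlib
import Cfsg.Agent.Lib.Helper80.GACentric

set_option autoImplicit false
set_option linter.unusedSectionVars false
set_option linter.style.haveILetI false

namespace Cfsg.Agent.Lib.Helper80

open scoped BigOperators

namespace GA

variable {k : Type*} {G : Type*} [Field k] [Group G] [Fintype G]

/-- Osima's property: block idempotents vanish at `p`-singular elements -/
def Osima (p : ℕ) (k : Type*) (G : Type*) [Field k] [Group G] [Fintype G] : Prop :=
  ∀ (H : Subgroup G) (c : GA k G), IsBlk H c → ∀ g, p ∣ orderOf g → c g = 0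

theorem Osima.idem {p : ℕ} (hos : Osima p k G) {H : Subgroup G} {z : GA k G} (hz : InZ H z)
    (hzz : z * z = z) {g : G} (hg : p ∣ orderOf g) : z g = 0 := by
  obtain ⟨s, hs, hsum⟩ := exists_decomp H hz hzz
  rw [← hsum, sum_apply]
  exact Finset.sum_eq_zero (fun b hb => hos H b (hs b hb).1 g hg)

/-- central idempotents of `kH` lie in `kN` if `N` contains the `p`-regular elements of `H` -/
theorem Osima.inZ_of_idem {p : ℕ} (hos : Osima p k G) {H N : Subgroup G} (hNH : N ≤ H)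
    (hreg : ∀ x ∈ H, ¬ p ∣ orderOf x → x ∈ N) {z : GA k G} (hz : InZ H z) (hzz : z * z = z) :
    InZ N z := by
  refine ⟨fun g hg => ?_, hz.2.mono hNH⟩
  by_cases hgH : g ∈ H
  · apply hos.idem hz hzz
    by_contra hn
    exact hg (hreg g hgH hn)
  · exact hz.1 g hgH

/-- an `H`-stable block of `N` is a block of `H` if `N` contains the `p`-regular elements -/
theorem Osima.isBlk_of_fix {p : ℕ} (hos : Osima p k G) {H N : Subgroup G} (hNH : N ≤ H)
    (hreg : ∀ x ∈ H, ¬ p ∣ orderOf x → x ∈ N) {c : GA k G} (hc : IsBlk N c) (hfix : FixBy H c) :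
    IsBlk H c where
  inZ := ⟨hc.inZ.1.mono hNH, hfix⟩
  idem := hc.idem
  ne_zero := hc.ne_zero
  prim := fun e he hee => hc.prim e (hos.inZ_of_idem hNH hreg he hee) hee

/-- a block of `H` either kills or fixes a block of `N` -/
theorem Osima.cover_cases {p : ℕ} (hos : Osima p k G) {H N : Subgroup G} (hNH : N ≤ H)
    (hreg : ∀ x ∈ H, ¬ p ∣ orderOf x → x ∈ N) {f g : GA k G} (hf : IsBlk H f) (hg : IsBlk N g) :
    f * g = 0 ∨ f * g = g :=
  hg.prim f (hos.inZ_of_idem hNH hreg hf.inZ hf.idem) hf.idem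

theorem Osima.exists_cover {p : ℕ} (hos : Osima p k G) {H N : Subgroup G} (hNH : N ≤ H)
    (hreg : ∀ x ∈ H, ¬ p ∣ orderOf x → x ∈ N) {g : GA k G} (hg : IsBlk N g) :
    ∃ f, IsBlk H f ∧ f * g = g := by
  by_contra hcon
  push Not at hcon
  apply hg.ne_zero
  calc g = (∑ f ∈ blks k H, f) * g := by rw [sum_blks, one_mul]
    _ = ∑ f ∈ blks k H, f * g := Finset.sum_mul _ _ _
    _ = 0 := Finset.sum_eq_zero (fun f hf => by
        rcases hos.cover_cases hNH hreg (mem_blks.1 hf) hg with h | h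
        · exact h
        · exact absurd h (hcon f (mem_blks.1 hf)))

theorem cover_unique {H : Subgroup G} {f f' g : GA k G} (hf : IsBlk H f) (hf' : IsBlk H f')
    (hg0 : g ≠ 0) (h : f * g = g) (h' : f' * g = g) : f = f' := by
  rcases hf.eq_or_orth hf' with h1 | h1
  · exact h1
  · exfalso
    apply hg0
    calc g = f * (f' * g) := by rw [h', h]
      _ = 0 := by rw [← mul_assoc, h1, zero_mul]

/-- blocks of `N ⊴ H` covered by a block of `H` are `H`-conjugate -/
theorem cover_trans {H N : Subgroup G} (hNH : N ≤ H) (hHN : H ≤ Nn N) {f g g₂ : GA k G}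
    (hf : IsBlk H f) (hg : IsBlk N g) (hg₂ : IsBlk N g₂) (h : f * g ≠ 0) (h₂ : f * g₂ ≠ 0) :
    ∃ x ∈ H, g₂ = cj x g := by
  classical
  haveI : Fintype H := Fintype.ofFinite H
  by_contra hcon
  push Not at hcon
  obtain ⟨O, hO⟩ : ∃ O, O = Finset.univ.image (fun x : H => cj (x : G) g) := ⟨_, rfl⟩
  have hOmem : ∀ κ ∈ O, ∃ x ∈ H, κ = cj x g := by
    intro κ hκ
    rw [hO] at hκ
    obtain ⟨x, _, rfl⟩ := Finset.mem_image.1 hκ
    exact ⟨x, x.2, rfl⟩
  have hmemO : ∀ x ∈ H, cj x g ∈ O := by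
    intro x hx
    rw [hO]
    have h1 := Finset.mem_image_of_mem (fun x : H => cj (x : G) g) (Finset.mem_univ (⟨x, hx⟩ : H))
    exact h1
  have hOblk : ∀ κ ∈ O, IsBlk N κ := by
    intro κ hκ
    obtain ⟨x, hx, rfl⟩ := hOmem κ hκ
    have := hg.cj x
    rwa [cS_eq_self_of_mem_Nn (hHN hx)] at this
  obtain ⟨s, hs⟩ : ∃ s, s = ∑ κ ∈ O, κ := ⟨_, rfl⟩
  have hsmul : ∀ κ₀, IsBlk N κ₀ → κ₀ ∈ O → s * κ₀ = κ₀ := by
    intro κ₀ hκ₀ hmem
    rw [hs, Finset.sum_mul, Finset.sum_eq_single κ₀]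
    · exact hκ₀.idem
    · intro κ hκ hne
      rcases (hOblk κ hκ).eq_or_orth hκ₀ with h1 | h1
      · exact absurd h1 hne
      · exact h1
    · intro hn; exact absurd hmem hn
  have hsmul0 : ∀ κ₀, IsBlk N κ₀ → κ₀ ∉ O → s * κ₀ = 0 := by
    intro κ₀ hκ₀ hmem
    rw [hs, Finset.sum_mul]
    apply Finset.sum_eq_zero
    intro κ hκ
    rcases (hOblk κ hκ).eq_or_orth hκ₀ with h1 | h1
    · exact absurd (h1 ▸ hκ) hmem
    · exact h1
  have hsidem : s * s = s := by
    conv_lhs => rw [hs, Finset.mul_sum]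
    rw [hs]
    apply Finset.sum_congr rfl
    intro κ hκ
    rw [← hs]
    exact hsmul κ (hOblk κ hκ) hκ
  have hsZ : InZ H s := by
    refine ⟨?_, ?_⟩
    · rw [hs]
      exact SuppOn.sum _ _ (fun κ hκ => (hOblk κ hκ).inZ.1.mono hNH)
    · intro y hy
      rw [hs, cj_sum]
      apply Finset.sum_bij (fun κ _ => cj y κ)
      · intro κ hκ
        obtain ⟨x, hx, rfl⟩ := hOmem κ hκ
        rw [cj_cj]
        exact hmemO _ (H.mul_mem hy hx)
      · intro κ _ κ' _ hkk
        exact cj_injective y hkk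
      · intro κ hκ
        obtain ⟨x, hx, rfl⟩ := hOmem κ hκ
        refine ⟨cj (y⁻¹ * x) g, hmemO _ (H.mul_mem (H.inv_mem hy) hx), ?_⟩
        rw [cj_cj, mul_inv_cancel_left]
      · intro κ _; rfl
  have hgO : g ∈ O := by
    have := hmemO 1 H.one_mem
    rwa [one_cj] at this
  have hsf : s * f = f := by
    rcases hf.prim s hsZ hsidem with h1 | h1
    · exfalso
      apply h
      calc f * g = f * (s * g) := by rw [hsmul g hg hgO]
        _ = s * f * g := by rw [← mul_assoc, hsZ.comm hf.inZ]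
        _ = 0 := by rw [h1, zero_mul]
    · exact h1
  have hg₂O : g₂ ∉ O := by
    intro hmem
    obtain ⟨x, hx, hxe⟩ := hOmem _ hmem
    exact hcon x hx hxe
  apply h₂
  calc f * g₂ = s * f * g₂ := by rw [hsf]
    _ = f * (s * g₂) := by rw [hsZ.comm hf.inZ, mul_assoc]
    _ = 0 := by rw [hsmul0 g₂ hg₂ hg₂O, mul_zero]

variable {p : ℕ} [Fact p.Prime] [CharP k p]

/-- a defect group in `H` of a common block of `N ⊴ H` and `H` meets `N` in a defect group -/
theorem IsDef.inf_normal {H N D : Subgroup G} {b : GA k G} (hdef : IsDef p H b D)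
    (hb : IsBlk N b) (hNH : N ≤ H) (hHN : H ≤ Nn N) : IsDef p N b (D ⊓ N) := by
  obtain ⟨D0, hD0⟩ := hb.exists_isDef (p := p)
  have h1 : br (D ⊓ N) b ≠ 0 := br_ne_zero_of_le inf_le_left hdef.br_ne
  obtain ⟨c, hc, hcle⟩ := hD0.zd.le_conj_of_br_ne inf_le_right (hdef.pgroup.to_le inf_le_left) h1
  obtain ⟨t, ht, htle⟩ := hdef.zd.le_conj_of_br_ne (hD0.le.trans hNH) hD0.pgroup hD0.br_ne
  have h2 : D0 ≤ cS t (D ⊓ N) := by
    rw [cS_inf, cS_eq_self_of_mem_Nn (hHN ht)]
    exact le_inf htle hD0.le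
  have h3 : D ⊓ N = cS c D0 := by
    apply Subgroup.eq_of_le_of_card_ge hcle
    rw [card_cS, ← card_cS t (D ⊓ N)]
    exact Subgroup.card_le_of_le h2
  rw [h3]
  exact hD0.conj hb.inZ.2 hc

end GA

end Cfsg.Agent.Lib.Helper80
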