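import Mathlib
import Cfsg.Agent.Lib.Helper80.GACover

set_option autoImplicit false
set_option linter.unusedSectionVars false
set_option linter.style.haveILetI false

namespace Cfsg.Agent.Lib.Helper80

open scoped BigOperators

namespace GA

variable {k : Type*} {G : Type*} [Field k] [Group G] [Fintype G]
variable {p : ℕ} [Fact p.Prime] [CharP k p]

/-! ### type level -/

/-- a pair whose subgroup is a defect group of its block in the stabiliser is maximal -/
theorem IsBPOf.isMaxBP_of_isDef_stabP {b e : GA k G} {P : Subgroup G} (h : IsBPOf p b P e)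
    (hdef : IsDef p (stabP P e) e P) : IsMaxBP p b P e := by
  refine ⟨h, fun R g hg hle => ?_⟩
  by_contra hne
  have hlt : P < R := lt_of_le_of_ne hle.le (Ne.symm hne)
  have h1 := lt_inf_normalizer hg.1.1 hlt
  obtain ⟨g', hg', _⟩ := hle.exists_nsub_mid hg.1 (R := R ⊓ Nn P) h1.le inf_le_left inf_le_right
  obtain ⟨t, _, ht⟩ := hdef.zd.le_conj_of_br_ne (hle.inf_Nn_le_stabP hg.1)
    (hg.1.1.to_le inf_le_left) hg'.br_ne_zero
  have hc1 : Nat.card P < Nat.card (R ⊓ Nn P : Subgroup G) :=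
    Set.ncard_lt_ncard (s := (P : Set G)) (t := ((R ⊓ Nn P : Subgroup G) : Set G))
      (by exact_mod_cast h1) (Set.toFinite _)
  have hc2 : Nat.card (R ⊓ Nn P : Subgroup G) ≤ Nat.card P := by
    rw [← card_cS t P]; exact Subgroup.card_le_of_le ht
  omega

/-- a defect group carries a maximal pair -/
theorem IsBlk.exists_isMaxBP_of_isDef {b : GA k G} {P : Subgroup G} (hb : IsBlk ⊤ b)
    (hdef : IsDef p ⊤ b P) : ∃ e, IsMaxBP p b P e := by
  have hfix : FixBy (Cn P) b := fixBy_top_mono hb.inZ.2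
  obtain ⟨e, he, hbe⟩ := exists_blk_of_idem (Cn P) (inZ_br hfix)
    (br_idem hdef.pgroup (fixBy_top_mono hb.inZ.2) hb.idem) hdef.br_ne
  have hpair : IsBPOf p b P e := ⟨⟨hdef.pgroup, he⟩, hb, hbe⟩
  obtain ⟨P₂, e₂, hmax, hle⟩ := IsBPOf.exists_le_max _ P e hpair rfl
  have h1 : P = P₂ := by
    apply Subgroup.eq_of_le_of_card_ge hle.le
    rw [hdef.card_eq hmax.isDef]
  subst h1
  have h2 : e = e₂ := hmax.1.1.subpair_unique _ P e e₂ rfl hle Relation.ReflTransGen.refl
  subst h2
  exact ⟨e, hmax⟩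

/-! ### transport -/

theorem isDef_up_iff (L : Subgroup G) [Fintype L] (H : Subgroup L) (b : GA k L) (D : Subgroup L) :
    IsDef p (up L H) (emb L b) (up L D) ↔ IsDef p H b D := by
  constructor
  · intro h
    refine ⟨(up_le_up L).1 h.le, (isPGroup_up L).1 h.pgroup, ?_, ?_⟩
    · intro g hg S hSH hS hSg
      have hg' : emb L b (g : G) ≠ 0 := by rw [emb_coe]; exact hg
      obtain ⟨x, hx, hle⟩ := h.zd _ hg' (up L S) ((up_le_up L).2 hSH) ((isPGroup_up L).2 hS)
        (by
          rintro _ ⟨s, hs, rfl⟩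
          exact congrArg (fun t : L => (t : G)) (hSg s hs))
      obtain ⟨hxL, hxH⟩ := (mem_up L).1 hx
      refine ⟨⟨x, hxL⟩, hxH, ?_⟩
      rw [← up_le_up L, up_cS]
      exact hle
    · intro h0
      apply h.br_ne
      rw [← emb_br, h0, emb_zero]
  · intro h
    refine ⟨(up_le_up L).2 h.le, (isPGroup_up L).2 h.pgroup, ?_, ?_⟩
    · intro g hg S hSH hS hSg
      have hgL : g ∈ L := by
        by_contra hn; exact hg (emb_apply_not_mem L b hn)
      rw [emb_apply_mem L b hgL] at hg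
      have hSL : S ≤ L := hSH.trans (up_le L H)
      have hSu : up L (S.subgroupOf L) = S := up_subgroupOf L hSL
      obtain ⟨x, hx, hle⟩ := h.zd ⟨g, hgL⟩ hg (S.subgroupOf L)
        (by rw [← up_le_up L, hSu]; exact hSH)
        (hS.comap_of_injective L.subtype L.subtype_injective)
        (fun s hs => Subtype.ext (hSg s (Subgroup.mem_subgroupOf.1 hs)))
      refine ⟨x, (coe_mem_up L).2 hx, ?_⟩
      rw [← up_cS, ← hSu]
      exact (up_le_up L).2 hle
    · rw [← emb_br]
      intro h0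
      exact h.br_ne ((emb_eq_zero_iff L _).1 h0)

theorem up_stabP (L : Subgroup G) [Fintype L] (P : Subgroup L) (e : GA k L)
    (hN : Nn (up L P) ≤ L) : up L (stabP P e) = stabP (up L P) (emb L e) := by
  ext x
  rw [mem_up, mem_stabP]
  constructor
  · rintro ⟨hx, h1, h2⟩
    have h3 : x ∈ up L (Nn P) := (mem_up L).2 ⟨hx, h1⟩
    rw [up_Nn] at h3
    refine ⟨h3.2, ?_⟩
    have := congrArg (emb L) h2
    rwa [emb_cj] at this
  · rintro ⟨h1, h2⟩
    have hx : x ∈ L := hN h1
    have h3 : x ∈ up L (Nn P) := by rw [up_Nn]; exact ⟨hx, h1⟩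
    obtain ⟨_, h4⟩ := (mem_up L).1 h3
    refine ⟨hx, h4, ?_⟩
    apply emb_injective L
    rw [emb_cj]; exact h2

/-! ### relative statements for `N(P) ≤ H` -/

theorem le_of_Nn_le {P H : Subgroup G} (h : Nn P ≤ H) : P ≤ H := Subgroup.le_normalizer.trans h

theorem Cn_le_of_Nn_le {P H : Subgroup G} (h : Nn P ≤ H) : Cn P ≤ H := (Cn_le_Nn P).trans h

theorem rel_F0 {P H : Subgroup G} {e : GA k G} (hNH : Nn P ≤ H) (he : IsBP p P e) :
    ∃ c, IsBlk H c ∧ br P c * e = e := by
  by_contra hcon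
  push Not at hcon
  apply he.2.ne_zero
  calc e = br P 1 * e := by rw [br_one, one_mul]
    _ = ∑ c ∈ blks k H, br P c * e := by
        rw [← sum_blks (k := k) H, br_sum, Finset.sum_mul]
    _ = 0 := Finset.sum_eq_zero (fun c hc => by
        have hc' := mem_blks.1 hc
        rcases he.br_mul_eq (hc'.inZ.2.mono (le_of_Nn_le hNH))
          (hc'.inZ.2.mono (Cn_le_of_Nn_le hNH)) hc'.idem with h | h
        · exact h
        · exact absurd h (hcon c hc'))

theorem rel_F1 {P H : Subgroup G} {c : GA k G} (hNH : Nn P ≤ H) (hc : IsBlk H c)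
    (hdef : IsDef p H c P) :
    ∃ e, IsBP p P e ∧ br P c * e = e ∧ IsDef p (stabP P e) e P ∧
      ∀ e', IsBlk (Cn P) e' → br P c * e' = e' → ∃ x ∈ Nn P, e' = cj x e := by
  haveI : Fintype H := Fintype.ofFinite H
  have hPH := le_of_Nn_le hNH
  have hCH := Cn_le_of_Nn_le hNH
  have hce : emb H (rst H c) = c := emb_rst H hc.inZ.1
  have hPu : up H (P.subgroupOf H) = P := up_subgroupOf H hPH
  have hc' : IsBlk (⊤ : Subgroup H) (rst H c) := by rw [← isBlk_emb_iff, hce]; exact hc
  have hdef' : IsDef p ⊤ (rst H c) (P.subgroupOf H) := by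
    rw [← isDef_up_iff, up_top, hce, hPu]; exact hdef
  obtain ⟨e', hmax⟩ := hc'.exists_isMaxBP_of_isDef hdef'
  have hCu : up H (Cn (P.subgroupOf H)) = Cn P := by
    rw [up_Cn_of_le (Q := P) hCH (by rw [hPu]), hPu]
  refine ⟨emb H e', ?_, ?_, ?_, ?_⟩
  · have := (isBP_up_iff (Q := P) hCH (R := P.subgroupOf H) (by rw [hPu]) e').2 hmax.1.1
    rwa [hPu] at this
  · have := congrArg (emb H) hmax.1.2.2
    rwa [emb_mul, emb_br, hce, hPu] at this
  · have := (isDef_up_iff H _ _ _).2 hmax.isDef_stabP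
    rwa [up_stabP H _ _ (by rw [hPu]; exact hNH), hPu] at this
  · intro e₂ he₂ hce₂
    have he₂e : emb H (rst H e₂) = e₂ := emb_rst H (he₂.inZ.1.mono hCH)
    have h1 : IsBPOf p (rst H c) (P.subgroupOf H) (rst H e₂) := by
      refine ⟨⟨hmax.1.1.1, ?_⟩, hc', ?_⟩
      · rw [← isBlk_up_iff, hCu, he₂e]; exact he₂
      · apply emb_injective H
        rw [emb_mul, emb_br, hce, hPu, he₂e]; exact hce₂
    obtain ⟨x, hx, hxe⟩ := hmax.exists_conj_of_same h1
    have hx' : (x : G) ∈ up H (Nn (P.subgroupOf H)) := (coe_mem_up H).2 hx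
    rw [up_Nn, hPu] at hx'
    refine ⟨x, hx'.2, ?_⟩
    rw [← emb_cj, ← hxe, he₂e]

theorem rel_F2 {P H : Subgroup G} {c e : GA k G} (hNH : Nn P ≤ H) (hc : IsBlk H c)
    (he : IsBP p P e) (hdef : IsDef p (stabP P e) e P) (hce' : br P c * e = e) :
    IsDef p H c P := by
  haveI : Fintype H := Fintype.ofFinite H
  have hPH := le_of_Nn_le hNH
  have hCH := Cn_le_of_Nn_le hNH
  have hce : emb H (rst H c) = c := emb_rst H hc.inZ.1
  have hee : emb H (rst H e) = e := emb_rst H (he.2.inZ.1.mono hCH)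
  have hPu : up H (P.subgroupOf H) = P := up_subgroupOf H hPH
  have hc' : IsBlk (⊤ : Subgroup H) (rst H c) := by rw [← isBlk_emb_iff, hce]; exact hc
  have hbp : IsBP p (P.subgroupOf H) (rst H e) := by
    rw [← isBP_up_iff (Q := P) hCH (by rw [hPu]), hPu, hee]; exact he
  have hpair : IsBPOf p (rst H c) (P.subgroupOf H) (rst H e) := by
    refine ⟨hbp, hc', ?_⟩
    apply emb_injective H
    rw [emb_mul, emb_br, hce, hPu, hee]; exact hce'
  have hdef' : IsDef p (stabP (P.subgroupOf H) (rst H e)) (rst H e) (P.subgroupOf H) := by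
    rw [← isDef_up_iff, up_stabP H _ _ (by rw [hPu]; exact hNH), hPu, hee]; exact hdef
  have := (isDef_up_iff H _ _ _).2 (hpair.isMaxBP_of_isDef_stabP hdef').isDef
  rwa [up_top, hce, hPu] at this

/-- two central idempotents dominating the same blocks are equal -/
theorem idem_eq_of_forall_blk {C : Subgroup G} {z z' : GA k G} (hz : InZ C z) (hzz : z * z = z)
    (hz' : InZ C z') (hzz' : z' * z' = z')
    (h : ∀ e, IsBlk C e → (z * e = e ↔ z' * e = e)) : z = z' := by
  calc z = z * ∑ e ∈ blks k C, e := by rw [sum_blks, mul_one]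
    _ = ∑ e ∈ blks k C, z * e := Finset.mul_sum _ _ _
    _ = ∑ e ∈ blks k C, z' * e := by
        apply Finset.sum_congr rfl
        intro e he
        have he' := mem_blks.1 he
        rcases he'.prim z hz hzz with h1 | h1
        · rcases he'.prim z' hz' hzz' with h2 | h2
          · rw [h1, h2]
          · have := (h e he').2 h2
            rw [h1] at this
            exact absurd this.symm he'.ne_zero
        · rw [h1, (h e he').1 h1]
    _ = z' * ∑ e ∈ blks k C, e := (Finset.mul_sum _ _ _).symm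
    _ = z' := by rw [sum_blks, mul_one]

theorem br_mul_cj_of_mem {P H : Subgroup G} {c e : GA k G} (hNH : Nn P ≤ H) (hc : IsBlk H c)
    (hce : br P c * e = e) {x : G} (hx : x ∈ Nn P) : br P c * cj x e = cj x e := by
  have h1 : cj x (br P c) = br P c := by
    rw [cj_br, cS_eq_self_of_mem_Nn hx, hc.inZ.2 x (hNH hx)]
  calc br P c * cj x e = cj x (br P c) * cj x e := by rw [h1]
    _ = cj x e := by rw [← cj_mul, hce]

/-- The Brauer correspondence between blocks with defect group `P` of two groups containing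
`N(P)`. -/
theorem brauer_corr {P H K : Subgroup G} {b : GA k G} (hNH : Nn P ≤ H) (hNK : Nn P ≤ K)
    (hb : IsBlk H b) (hdef : IsDef p H b P) :
    ∃! c, IsBlk K c ∧ IsDef p K c P ∧ br P b = br P c := by
  obtain ⟨e, he, hbe, hde, horb⟩ := rel_F1 hNH hb hdef
  obtain ⟨c, hc, hce⟩ := rel_F0 hNK he
  have hcdef : IsDef p K c P := rel_F2 hNK hc he hde hce
  obtain ⟨e₁, _, hce₁, _, horb₁⟩ := rel_F1 hNK hc hcdef
  have hfixb : FixBy P b := hb.inZ.2.mono (le_of_Nn_le hNH)
  have hfixc : FixBy P c := hc.inZ.2.mono (le_of_Nn_le hNK)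
  have heq : br P b = br P c := by
    apply idem_eq_of_forall_blk (C := Cn P) (inZ_br (hb.inZ.2.mono (Cn_le_of_Nn_le hNH)))
      (br_idem he.1 hfixb hb.idem) (inZ_br (hc.inZ.2.mono (Cn_le_of_Nn_le hNK)))
      (br_idem he.1 hfixc hc.idem)
    intro e' he'
    constructor
    · intro h
      obtain ⟨x, hx, rfl⟩ := horb e' he' h
      exact br_mul_cj_of_mem hNK hc hce hx
    · intro h
      obtain ⟨x, hx, rfl⟩ := horb₁ e' he' h
      obtain ⟨y, hy, hye⟩ := horb₁ e he.2 hce
      have h1 : e₁ = cj y⁻¹ e := by rw [hye, cj_inv_cj]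
      rw [h1, cj_cj]
      exact br_mul_cj_of_mem hNH hb hbe ((Nn P).mul_mem hx ((Nn P).inv_mem hy))
  refine ⟨c, ⟨hc, hcdef, heq⟩, ?_⟩
  rintro c' ⟨hc', hc'def, heq'⟩
  rcases hc'.eq_or_orth hc with h | h
  · exact h
  · exfalso
    apply hc'def.br_ne
    have hfixc' : FixBy P c' := hc'.inZ.2.mono (le_of_Nn_le hNK)
    calc br P c' = br P c' * br P c' := (br_idem he.1 hfixc' hc'.idem).symm
      _ = br P c' * br P c := by rw [← heq', heq]
      _ = br P (c' * c) := (br_mul he.1 hfixc' hfixc).symm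
      _ = 0 := by rw [h, br_zero]

end GA

end Cfsg.Agent.Lib.Helper80
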