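import Mathlib
import Cfsg.Agent.Lib.Helper80.GAFMT

set_option autoImplicit false
set_option linter.unusedSectionVars false

/-! Averaging idempotents of `p'`-subgroups and their behaviour under the Brauer map; an abstract
form of block induction. -/

namespace Cfsg.Agent.Lib.Helper80

open scoped BigOperators Pointwise

namespace GA

variable {k : Type*} {G : Type*} [Field k] [Group G] [Fintype G]

/-- the averaging element of a subgroup -/
noncomputable def eps (K : Subgroup G) : GA k G :=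
  fun g => by classical exact if g ∈ K then ((Nat.card K : k))⁻¹ else 0

theorem eps_apply_mem {K : Subgroup G} {g : G} (h : g ∈ K) :
    (eps K : GA k G) g = ((Nat.card K : k))⁻¹ := if_pos h

theorem eps_apply_not_mem {K : Subgroup G} {g : G} (h : g ∉ K) : (eps K : GA k G) g = 0 :=
  if_neg h

theorem eps_suppOn (K : Subgroup G) : SuppOn K (eps K : GA k G) := fun _ h => eps_apply_not_mem h

theorem eps_apply_mul_left {K : Subgroup G} {x : G} (hx : x ∈ K) (g : G) :
    (eps K : GA k G) (x * g) = (eps K : GA k G) g := by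
  by_cases hg : g ∈ K
  · rw [eps_apply_mem hg, eps_apply_mem (K.mul_mem hx hg)]
  · rw [eps_apply_not_mem hg, eps_apply_not_mem]
    intro h; exact hg ((Subgroup.mul_mem_cancel_left K hx).1 h)

theorem sum_eps {K : Subgroup G} (hK : (Nat.card K : k) ≠ 0) : ∑ x, (eps K : GA k G) x = 1 := by
  classical
  have : Fintype K := Fintype.ofFinite K
  rw [sum_eq_sum_subgroup K _ (fun x hx => eps_apply_not_mem hx)]
  rw [Finset.sum_congr rfl (fun (x : K) _ => eps_apply_mem (k := k) x.2), Finset.sum_const,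
    Finset.card_univ, nsmul_eq_mul, ← Nat.card_eq_fintype_card, mul_inv_cancel₀ hK]

theorem eps_mul_eps_of_le {K' K : Subgroup G} (h : K' ≤ K) (hK' : (Nat.card K' : k) ≠ 0) :
    (eps K' * eps K : GA k G) = eps K := by
  ext g
  rw [mul_apply]
  have h1 : ∀ x, (eps K' : GA k G) x * (eps K : GA k G) (x⁻¹ * g)
      = (eps K' : GA k G) x * (eps K : GA k G) g := by
    intro x
    by_cases hx : x ∈ K'
    · rw [eps_apply_mul_left (K.inv_mem (h hx))]
    · rw [eps_apply_not_mem hx, zero_mul, zero_mul]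
  rw [Finset.sum_congr rfl (fun x _ => h1 x),
    (Finset.sum_mul Finset.univ (fun x => (eps K' : GA k G) x) ((eps K : GA k G) g)).symm,
    sum_eps hK', one_mul]

theorem eps_idem {K : Subgroup G} (hK : (Nat.card K : k) ≠ 0) :
    (eps K * eps K : GA k G) = eps K := eps_mul_eps_of_le le_rfl hK

theorem eps_mul_of_le {K' K : Subgroup G} (h : K' ≤ K) (hK' : (Nat.card K' : k) ≠ 0)
    {g : GA k G} (hg : eps K * g = g) : eps K' * g = g := by
  rw [← hg, ← mul_assoc, eps_mul_eps_of_le h hK']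

theorem cj_eps (x : G) (K : Subgroup G) : cj x (eps K : GA k G) = eps (cS x K) := by
  ext g
  rw [cj_apply]
  by_cases hg : g ∈ cS x K
  · rw [eps_apply_mem hg, eps_apply_mem (mem_cS.1 hg), card_cS]
  · rw [eps_apply_not_mem hg, eps_apply_not_mem (fun h => hg (mem_cS.2 h))]

theorem fixBy_eps {H K : Subgroup G} (h : H ≤ Nn K) : FixBy H (eps K : GA k G) := fun x hx => by
  rw [cj_eps, cS_eq_self_of_mem_Nn (h hx)]

theorem inZ_eps {H K : Subgroup G} (hKH : K ≤ H) (h : H ≤ Nn K) : InZ H (eps K : GA k G) :=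
  ⟨(eps_suppOn K).mono hKH, fixBy_eps h⟩

theorem sum_ind (K : Subgroup G) [DecidablePred (· ∈ K)] :
    ∑ x : G, (if x ∈ K then (1 : k) else 0) = (Nat.card K : k) := by
  rw [Finset.sum_boole]
  congr 1
  rw [Nat.card_eq_fintype_card, Fintype.card_subtype]

theorem IsBlk.eps_cases {H K : Subgroup G} {c : GA k G} (hc : IsBlk H c) (hKH : K ≤ H)
    (h : H ≤ Nn K) (hK : (Nat.card K : k) ≠ 0) : eps K * c = 0 ∨ eps K * c = c :=
  hc.prim _ (inZ_eps hKH h) (eps_idem hK)

section charp
variable {p : ℕ} [Fact p.Prime] [CharP k p]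

theorem card_inf_Cn_cast {R K : Subgroup G} (hR : IsPGroup p R) (hRK : R ≤ Nn K) :
    (Nat.card K : k) = (Nat.card (K ⊓ Cn R : Subgroup G) : k) := by
  classical
  rw [← sum_ind K, ← sum_ind (K ⊓ Cn R),
    sum_conj_invariant hR (fun x => if x ∈ K then (1 : k) else 0)]
  · refine Finset.sum_congr rfl (fun x _ => ?_)
    by_cases h1 : x ∈ Cn R
    · by_cases h2 : x ∈ K
      · rw [if_pos h1, if_pos h2, if_pos (Subgroup.mem_inf.2 ⟨h2, h1⟩)]
      · rw [if_pos h1, if_neg h2, if_neg (fun h => h2 (Subgroup.mem_inf.1 h).1)]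
    · rw [if_neg h1, if_neg (fun h => h1 (Subgroup.mem_inf.1 h).2)]
  · intro u hu x
    have h1 : u * x * u⁻¹ ∈ K ↔ x ∈ K := ((Subgroup.mem_normalizer_iff.1 (hRK hu)) x).symm
    by_cases h2 : x ∈ K
    · rw [if_pos h2, if_pos (h1.2 h2)]
    · rw [if_neg h2, if_neg (fun h => h2 (h1.1 h))]

theorem br_eps {R K : Subgroup G} (hR : IsPGroup p R) (hRK : R ≤ Nn K) :
    br R (eps K : GA k G) = eps (K ⊓ Cn R) := by
  have hc := card_inf_Cn_cast (k := k) hR hRK
  ext g
  by_cases hg : g ∈ Cn R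
  · rw [br_apply_mem _ hg]
    by_cases hgK : g ∈ K
    · rw [eps_apply_mem hgK, eps_apply_mem (Subgroup.mem_inf.2 ⟨hgK, hg⟩), hc]
    · rw [eps_apply_not_mem hgK, eps_apply_not_mem (fun h => hgK (Subgroup.mem_inf.1 h).1)]
  · rw [br_apply_not_mem _ hg, eps_apply_not_mem (fun h => hg (Subgroup.mem_inf.1 h).2)]

/-- going up: if `K` acts trivially on `f`, then `C_K(R)` acts trivially on every block occurring
in the Brauer image of `f`. -/
theorem eps_up {R K : Subgroup G} {f g : GA k G} (hR : IsPGroup p R) (hRK : R ≤ Nn K)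
    (hfix : FixBy R f) (hf : eps K * f = f) (hg : br R f * g = g) :
    eps (K ⊓ Cn R) * g = g := by
  have h1 : br R f = eps (K ⊓ Cn R) * br R f := by
    conv_lhs => rw [← hf]
    rw [br_mul hR (fixBy_eps hRK) hfix, br_eps hR hRK]
  calc eps (K ⊓ Cn R) * g = eps (K ⊓ Cn R) * (br R f * g) := by rw [hg]
    _ = (eps (K ⊓ Cn R) * br R f) * g := by rw [mul_assoc]
    _ = br R f * g := by rw [← h1]
    _ = g := hg

/-- going down -/
theorem eps_down {R K : Subgroup G} {f g : GA k G} (hR : IsPGroup p R) (hRK : R ≤ Nn K)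
    (hfix : FixBy R f) (hcases : eps K * f = 0 ∨ eps K * f = f) (hg0 : g ≠ 0)
    (hg : br R f * g = g) (hgK : eps (K ⊓ Cn R) * g = g) : eps K * f = f := by
  rcases hcases with h | h
  · exfalso; apply hg0
    have h1 : (eps (K ⊓ Cn R) * br R f : GA k G) = 0 := by
      rw [← br_eps hR hRK, ← br_mul hR (fixBy_eps hRK) hfix, h, br_zero]
    calc g = eps (K ⊓ Cn R) * g := hgK.symm
      _ = eps (K ⊓ Cn R) * (br R f * g) := by rw [hg]
      _ = 0 := by rw [← mul_assoc, h1, zero_mul]
  · exact h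

/-- abstract block induction: the central character of `c` takes the value `1` at the truncation
of `b` -/
def IndB (H : Subgroup G) (c b : GA k G) : Prop := IsNilpotent (trunc H b * c - c)

theorem fixBy_trunc {H : Subgroup G} {b : GA k G} (hb : FixBy ⊤ b) : FixBy H (trunc H b) := by
  intro x hx
  rw [cj_trunc, hb x (Subgroup.mem_top x),
    cS_eq_self_of_mem_Nn (Subgroup.le_normalizer hx)]

theorem IndB.br_mul_eq {H D : Subgroup G} {c b f : GA k G} (h : IndB H c b) (hD : IsPGroup p D)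
    (hDH : D ≤ H) (hCH : Cn D ≤ H) (hb : InZ ⊤ b) (hbb : b * b = b) (hc : InZ H c)
    (hf : IsBlk (Cn D) f) (hcf : br D c * f = f) : br D b * f = f := by
  have hfixT : FixBy H (trunc H b) := fixBy_trunc hb.2
  have hfixn : FixBy H (trunc H b * c - c) := (hfixT.mul hc.2).sub hc.2
  have hbrT : br D (trunc H b) = br D b := trunc_trunc hCH b
  have hw : br D (trunc H b * c - c) = br D b * br D c - br D c := by
    rw [br_sub, br_mul hD (hfixT.mono hDH) (hc.2.mono hDH), hbrT]
  have hwn : IsNilpotent (br D (trunc H b * c - c)) := by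
    obtain ⟨m, hm⟩ := h
    exact ⟨m, by rw [← br_pow hD (hfixn.mono hDH), hm, br_zero]⟩
  have hwZ : InZ (Cn D) (br D (trunc H b * c - c)) := inZ_br (hfixn.mono hCH)
  have hbZ : InZ (Cn D) (br D b) := inZ_br (fixBy_top_mono hb.2)
  rcases hf.prim _ hbZ (br_idem hD (fixBy_top_mono hb.2) hbb) with h0 | h0
  · exfalso
    apply hf.not_nilpotent
    have h1 : br D (trunc H b * c - c) * f = -f := by
      rw [hw, sub_mul, mul_assoc, hcf, h0, zero_sub]
    have h2 : IsNilpotent (br D (trunc H b * c - c) * f) :=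
      (show Commute _ _ from hwZ.comm hf.inZ).isNilpotent_mul_right hwn
    rw [h1] at h2
    exact (isNilpotent_neg_iff).1 h2
  · exact h0

/-- a pair on a defect group is maximal -/
theorem IsBPOf.isMaxBP_of_isDef {b e : GA k G} {P : Subgroup G} (hpair : IsBPOf p b P e)
    (hdef : IsDef p ⊤ b P) : IsMaxBP p b P e := by
  obtain ⟨P₂, e₂, hmax, hle⟩ := IsBPOf.exists_le_max _ P e hpair rfl
  have h1 : P = P₂ := by
    apply Subgroup.eq_of_le_of_card_ge hle.le
    rw [hdef.card_eq hmax.isDef]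
  subst h1
  have h2 : e = e₂ := hmax.1.1.subpair_unique _ P e e₂ rfl hle Relation.ReflTransGen.refl
  subst h2
  exact hmax

/-- a normal `p`-subgroup lies in every defect group -/
theorem IsDef.normal_le {H D P : Subgroup G} {c : GA k G} (h : IsDef p H c D) (hc : IsBlk H c)
    (hP : IsPGroup p P) (hPH : P ≤ H) (hHN : H ≤ Nn P) : P ≤ D := by
  have h1 : br P c = c := br_eq_self_of_idem hP hPH hHN hc.inZ hc.idem
  have h2 : br P c ≠ 0 := by rw [h1]; exact hc.ne_zero
  obtain ⟨x, hx, hle⟩ := h.zd.le_conj_of_br_ne hPH hP h2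
  have h3 : cS x⁻¹ P = P := cS_eq_self_of_mem_Nn (hHN (H.inv_mem hx))
  have h4 := cS_mono x⁻¹ hle
  rwa [h3, cS_cS, inv_mul_cancel, cS_one] at h4

end charp

end GA

end Cfsg.Agent.Lib.Helper80
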