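import Mathlib
import Cfsg.Agent.Lib.Helper80.GAKer
import Cfsg.Agent.Lib.Helper80.GASat
import Cfsg.Agent.Lib.Helper30.PiCore

set_option autoImplicit false
set_option linter.unusedSectionVars false

/-! Propagation of "the `σ`-core of the centraliser acts trivially" along inclusions of Brauer
pairs (`σ` a set of primes not containing `p`). -/

namespace Cfsg.Agent.Lib.Helper80

open scoped BigOperators Pointwise
open Cfsg.Agent.Lib.Helper30 (PiNat piCoreOf_le piCoreOf_isPi le_normalizer_piCoreOf le_piCoreOf)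

namespace GA

variable {k : Type*} {G : Type*} [Field k] [Group G] [Fintype G]

theorem cS_piCoreOf_le (x : G) (σ : Set ℕ) (X : Subgroup G) :
    cS x (Cfsg.piCoreOf σ X) ≤ Cfsg.piCoreOf σ (cS x X) := by
  apply le_piCoreOf (cS_mono x (piCoreOf_le σ X))
  · have h1 := cS_mono x (le_normalizer_piCoreOf σ X)
    rwa [cS_Nn] at h1
  · rw [card_cS]; exact piCoreOf_isPi σ X

theorem cS_piCoreOf (x : G) (σ : Set ℕ) (X : Subgroup G) :
    cS x (Cfsg.piCoreOf σ X) = Cfsg.piCoreOf σ (cS x X) := by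
  apply le_antisymm (cS_piCoreOf_le x σ X)
  have h1 := cS_mono x (cS_piCoreOf_le x⁻¹ σ (cS x X))
  rwa [cS_cS, mul_inv_cancel, cS_one, cS_cS, inv_mul_cancel, cS_one] at h1

theorem Nn_le_Nn_piCoreOf (σ : Set ℕ) (X : Subgroup G) : Nn X ≤ Nn (Cfsg.piCoreOf σ X) := by
  intro x hx
  apply mem_Nn_of_cS_eq
  rw [cS_piCoreOf, cS_eq_self_of_mem_Nn hx]

theorem le_Nn_inf {Y A C : Subgroup G} (hA : Y ≤ Nn A) (hC : Y ≤ Nn C) : Y ≤ Nn (A ⊓ C) := by
  intro y hy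
  rw [Subgroup.mem_normalizer_iff]
  intro g
  rw [Subgroup.mem_inf, Subgroup.mem_inf, ← (Subgroup.mem_normalizer_iff.1 (hA hy)) g,
    ← (Subgroup.mem_normalizer_iff.1 (hC hy)) g]

theorem piNat_of_le {σ : Set ℕ} {A C : Subgroup G} (h : A ≤ C) (hC : PiNat σ (Nat.card C)) :
    PiNat σ (Nat.card A) := hC.of_dvd (Subgroup.card_dvd_of_le h)

theorem piCoreOf_inf_le (σ : Set ℕ) {X Y : Subgroup G} (hYX : Y ≤ X) :
    Cfsg.piCoreOf σ X ⊓ Y ≤ Cfsg.piCoreOf σ Y :=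
  le_piCoreOf inf_le_right
    (le_Nn_inf (hYX.trans (le_normalizer_piCoreOf σ X)) Subgroup.le_normalizer)
    (piNat_of_le inf_le_left (piCoreOf_isPi σ X))

/-- a characteristic-type containment: the core of a normal subgroup lies in the core -/
theorem piCoreOf_le_piCoreOf (σ : Set ℕ) {X Y : Subgroup G} (hYX : Y ≤ X) (hX : X ≤ Nn Y) :
    Cfsg.piCoreOf σ Y ≤ Cfsg.piCoreOf σ X :=
  le_piCoreOf ((piCoreOf_le σ Y).trans hYX) (hX.trans (Nn_le_Nn_piCoreOf σ Y))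
    (piCoreOf_isPi σ Y)

section charp
variable {p : ℕ} [Fact p.Prime] [CharP k p]

theorem cast_ne_zero_of_piNat {σ : Set ℕ} (hp : p ∉ σ) {n : ℕ} (h : PiNat σ n) :
    (n : k) ≠ 0 := by
  intro h0
  rw [CharP.cast_eq_zero_iff k p] at h0
  exact hp (h p (Fact.out) h0)

theorem card_cast_ne_zero {σ : Set ℕ} (hp : p ∉ σ) {A X : Subgroup G}
    (h : A ≤ Cfsg.piCoreOf σ X) : (Nat.card A : k) ≠ 0 :=
  cast_ne_zero_of_piNat hp (piNat_of_le h (piCoreOf_isPi σ X))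

/-- the `σ`-core of `C_G(Q)` acts trivially on `f` -/
def KP (σ : Set ℕ) (Q : Subgroup G) (f : GA k G) : Prop :=
  eps (Cfsg.piCoreOf σ (Cn Q)) * f = f

/-- the `σ`-elements of `C_G(Q)` form a (normal) subgroup -/
def HallP (σ : Set ℕ) (Q : Subgroup G) : Prop :=
  ∀ x ∈ Cn Q, (∀ q : ℕ, q.Prime → q ∣ orderOf x → q ∈ σ) → x ∈ Cfsg.piCoreOf σ (Cn Q)

theorem KP.cj {σ : Set ℕ} {Q : Subgroup G} {f : GA k G} (h : KP σ Q f) (x : G) :
    KP σ (cS x Q) (GA.cj x f) := by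
  unfold KP at h ⊢
  rw [← cS_Cn, ← cS_piCoreOf, ← cj_eps, ← cj_mul, h]

theorem KP.of_cj {σ : Set ℕ} {Q : Subgroup G} {f : GA k G} {x : G}
    (h : KP σ (cS x Q) (GA.cj x f)) : KP σ Q f := by
  have := h.cj x⁻¹
  rwa [cS_cS, inv_mul_cancel, cS_one, cj_inv_cj] at this

/-- from a block of a subgroup `H ≥ C_G(R)` down to... : if the core of `C_G(R)` acts trivially on
a block `g` of `C_G(R)` occurring in the Brauer image of the block `c` of `H`, the core of `H` acts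
trivially on `c`. -/
theorem IsBlk.eps_of_KP {σ : Set ℕ} (hp : p ∉ σ) {H R : Subgroup G} {c g : GA k G}
    (hc : IsBlk H c) (hR : IsPGroup p R) (hRH : R ≤ H) (hCH : Cn R ≤ H) (hg0 : g ≠ 0)
    (hg : br R c * g = g) (hK : KP σ R g) : eps (Cfsg.piCoreOf σ H) * c = c := by
  have hN : H ≤ Nn (Cfsg.piCoreOf σ H) := le_normalizer_piCoreOf σ H
  apply eps_down hR (hRH.trans hN) (hc.inZ.2.mono hRH)
    (hc.eps_cases (piCoreOf_le σ H) hN (card_cast_ne_zero hp le_rfl)) hg0 hg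
  exact eps_mul_of_le (piCoreOf_inf_le σ hCH) (card_cast_ne_zero hp inf_le_left) hK

/-- conversely, when `C_G(R) ≤ H ≤ N_G(R)` -/
theorem KP_of_eps {σ : Set ℕ} (hp : p ∉ σ) {H R : Subgroup G} {c g : GA k G}
    (hfix : FixBy R c) (hR : IsPGroup p R) (hRH : R ≤ H) (hCH : Cn R ≤ H) (hHN : H ≤ Nn R)
    (hg : br R c * g = g) (hK : eps (Cfsg.piCoreOf σ H) * c = c) : KP σ R g := by
  have hN : H ≤ Nn (Cfsg.piCoreOf σ H) := le_normalizer_piCoreOf σ H
  have h1 := eps_up hR (hRH.trans hN) hfix hK hg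
  refine eps_mul_of_le (le_inf ?_ (piCoreOf_le σ _)) (card_cast_ne_zero hp le_rfl) h1
  exact piCoreOf_le_piCoreOf σ hCH (hHN.trans (Nn_le_normalizer_Cn' R))

theorem NSub.kp_down {σ : Set ℕ} (hp : p ∉ σ) {Q R : Subgroup G} {f g : GA k G}
    (h : NSub p Q f R g) (hg : KP σ R g) : KP σ Q f := by
  obtain ⟨hf, hgB, hQR, hRN, hfix, hfg⟩ := h
  have hN : Nn Q ≤ Nn (Cfsg.piCoreOf σ (Cn Q)) :=
    (Nn_le_normalizer_Cn' Q).trans (Nn_le_Nn_piCoreOf σ (Cn Q))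
  apply eps_down hgB.1 (hRN.trans hN) hfix
    (hf.2.eps_cases (piCoreOf_le σ _) (le_normalizer_piCoreOf σ _) (card_cast_ne_zero hp le_rfl))
    hgB.2.ne_zero hfg
  exact eps_mul_of_le (piCoreOf_inf_le σ (Cn_anti hQR)) (card_cast_ne_zero hp inf_le_left) hg

theorem BPLE.kp_down {σ : Set ℕ} (hp : p ∉ σ) {a c : Subgroup G × GA k G} (h : BPLE p a c)
    (hc : KP σ c.1 c.2) : KP σ a.1 a.2 := by
  induction h with
  | refl => exact hc
  | tail _ h2 ih => exact ih (h2.kp_down hp hc)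

theorem orderOf_piNat {σ : Set ℕ} {A : Subgroup G} (hA : PiNat σ (Nat.card A)) {x : G}
    (hx : x ∈ A) : ∀ q : ℕ, q.Prime → q ∣ orderOf x → q ∈ σ := by
  intro q hq hqx
  apply hA q hq
  have h1 : orderOf (⟨x, hx⟩ : A) ∣ Nat.card A := orderOf_dvd_natCard _
  rw [← Subgroup.orderOf_coe] at h1
  exact hqx.trans h1

theorem NSub.kp_up {σ : Set ℕ} (hp : p ∉ σ) {Q R : Subgroup G} {f g : GA k G}
    (h : NSub p Q f R g) (hH : HallP σ Q) (hf : KP σ Q f) : HallP σ R ∧ KP σ R g := by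
  obtain ⟨hfB, hgB, hQR, hRN, hfix, hfg⟩ := h
  have hN : Nn Q ≤ Nn (Cfsg.piCoreOf σ (Cn Q)) :=
    (Nn_le_normalizer_Cn' Q).trans (Nn_le_Nn_piCoreOf σ (Cn Q))
  constructor
  · intro x hx hxσ
    exact piCoreOf_inf_le σ (Cn_anti hQR) (Subgroup.mem_inf.2 ⟨hH x (Cn_anti hQR hx) hxσ, hx⟩)
  · have h1 := eps_up hgB.1 (hRN.trans hN) hfix hf hfg
    refine eps_mul_of_le (le_inf ?_ (piCoreOf_le σ _)) (card_cast_ne_zero hp le_rfl) h1
    intro x hx
    exact hH x (Cn_anti hQR (piCoreOf_le σ _ hx)) (orderOf_piNat (piCoreOf_isPi σ _) hx)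

theorem BPLE.kp_up {σ : Set ℕ} (hp : p ∉ σ) {a c : Subgroup G × GA k G} (h : BPLE p a c)
    (hH : HallP σ a.1) (hf : KP σ a.1 a.2) : HallP σ c.1 ∧ KP σ c.1 c.2 := by
  induction h with
  | refl => exact ⟨hH, hf⟩
  | tail _ h2 ih => exact h2.kp_up hp ih.1 ih.2

/-- the property holds for one maximal pair iff for all pairs of the block -/
theorem IsMaxBP.kp_all {σ : Set ℕ} (hp : p ∉ σ) {b e f : GA k G} {P Q : Subgroup G}
    (h : IsMaxBP p b P e) (he : KP σ P e) (hf : IsBPOf p b Q f) : KP σ Q f := by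
  obtain ⟨x, hx⟩ := h.exists_conj_le hf
  exact KP.of_cj (hx.kp_down hp he)

end charp

end GA

end Cfsg.Agent.Lib.Helper80
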