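import Mathlib
import Cfsg.Agent.Lib.Helper80.GAKerG
import Cfsg.Agent.Lib.Helper80.GAFusT
import Cfsg.Agent.Lib.Helper21.KeyLemma
import Cfsg.Agent.Lib.Helper21.Induced

set_option autoImplicit false
set_option linter.unusedSectionVars false
set_option linter.style.haveILetI false

/-! Translation: kernels of blocks and block induction in terms of the modular group algebra. -/

namespace Cfsg.Agent.Lib.Helper80

open scoped BigOperators
open Cfsg Cfsg.Agent.Lib.Helper81 Cfsg.Agent.Lib.Helper20 GA

variable {p : ℕ} [Fact p.Prime] {M : Ideal AlgInt} (hM : IsPModular p M)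

theorem resC_natCast (n : ℕ) : resC hM (n : ℂ) = (n : Kr hM) := by
  induction n with
  | zero => simpa using resC_zero hM
  | succ n ih =>
    rw [Nat.cast_succ, resC_add hM (memLocalRing_natCast hM n) (memLocalRing_one hM), ih,
      resC_one, Nat.cast_succ]

theorem resC_inv_natCast {n : ℕ} (hn : ¬ p ∣ n) : resC hM ((n : ℂ)⁻¹) = ((n : Kr hM))⁻¹ := by
  have h1 : ¬ MemLocalIdeal M (n : ℂ) := fun h => hn ((memLocalIdeal_natCast_iff hM n).1 h)
  have h2 : MemLocalRing M ((n : ℂ)⁻¹) := memLocalRing_inv (memLocalRing_natCast hM n) h1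
  have h3 : (n : ℂ) ≠ 0 := ne_zero_of_not_memLocalIdeal hM h1
  have h4 := resC_mul hM (memLocalRing_natCast hM n) h2
  rw [mul_inv_cancel₀ h3, resC_one, resC_natCast] at h4
  exact eq_inv_of_mul_eq_one_right h4.symm

section typ

variable {H : Type*} [Group H] [Fintype H]

/-- the complex averaging element -/
noncomputable def epsC (K : Subgroup H) : H → ℂ :=
  fun g => by classical exact if g ∈ K then ((Nat.card K : ℂ))⁻¹ else 0

theorem epsC_mem {K : Subgroup H} {g : H} (h : g ∈ K) : epsC K g = ((Nat.card K : ℂ))⁻¹ := if_pos h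

theorem epsC_not_mem {K : Subgroup H} {g : H} (h : g ∉ K) : epsC K g = 0 := if_neg h

include hM in
theorem RV_epsC {K : Subgroup H} (hK : ¬ p ∣ Nat.card K) : RV M (epsC K) := by
  intro g
  by_cases hg : g ∈ K
  · rw [epsC_mem hg]
    exact memLocalRing_inv (memLocalRing_natCast hM _)
      (fun h => hK ((memLocalIdeal_natCast_iff hM _).1 h))
  · rw [epsC_not_mem hg]; exact memLocalRing_zero hM

theorem red_epsC {K : Subgroup H} (hK : ¬ p ∣ Nat.card K) : red hM (epsC K) = eps K := by
  ext g
  rw [red_apply]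
  by_cases hg : g ∈ K
  · rw [epsC_mem hg, eps_apply_mem hg, resC_inv_natCast hM hK]
  · rw [epsC_not_mem hg, eps_apply_not_mem hg, resC_zero]

theorem epsC_classFunction (K : Subgroup H) [hK : K.Normal] : IsClassFunction H (epsC K) := by
  intro g h
  by_cases hg : g ∈ K
  · rw [epsC_mem hg, epsC_mem (hK.conj_mem g hg h)]
  · rw [epsC_not_mem hg, epsC_not_mem]
    intro h1
    apply hg
    have := hK.conj_mem _ h1 h⁻¹
    simpa [mul_assoc] using this

theorem omega_epsC (χ : H → ℂ) (K : Subgroup H) [Fintype K] :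
    omega χ (epsC K) = ((Nat.card K : ℂ))⁻¹ * (∑ u : K, χ u) / χ 1 := by
  unfold omega
  rw [sum_eq_sum_subgroup K (fun g => epsC K g * χ g / χ 1)
    (fun x hx => by rw [epsC_not_mem hx, zero_mul, zero_div]), Finset.mul_sum, Finset.sum_div]
  exact Finset.sum_congr rfl (fun u _ => by rw [epsC_mem u.2])

theorem cast_card_ne_zero {K : Subgroup H} (hK : ¬ p ∣ Nat.card K) :
    (Nat.card K : Kr hM) ≠ 0 := by
  intro h0
  rw [CharP.cast_eq_zero_iff (Kr hM) p] at h0
  exact hK h0

/-- a normal `p'`-subgroup lies in the kernel of a block iff its averaging idempotent fixes the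
block idempotent -/
theorem blockKer_iff_eps {B : Set (IrrCharacter H)} (hB : IsPBlock M B) (K : Subgroup H)
    [K.Normal] (hK : ¬ p ∣ Nat.card K) :
    (∀ x ∈ K, x ∈ blockKer B) ↔ eps K * blkR hM B = blkR hM B := by
  haveI : Fintype K := Fintype.ofFinite K
  have hidem : red hM (epsC K) * red hM (epsC K) = red hM (epsC K) := by
    rw [red_epsC hM hK]; exact eps_idem (cast_card_ne_zero hM hK)
  have hcard : (Nat.card K : ℂ) ≠ 0 := by
    exact_mod_cast (Nat.card_pos (α := K)).ne'
  constructor
  · intro h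
    obtain ⟨χ, hχ⟩ := isPBlock_nonempty hM hB
    rw [← red_epsC hM hK]
    rw [← omega_sub_one_mem_iff hM hB (epsC_classFunction K) (RV_epsC hM hK) hidem hχ]
    have h1 : omega (χ : H → ℂ) (epsC K) = 1 := by
      rw [omega_epsC, Finset.sum_congr rfl (fun (u : K) _ => h u u.2 χ hχ), Finset.sum_const,
        Finset.card_univ, nsmul_eq_mul, ← Nat.card_eq_fintype_card, ← mul_assoc,
        inv_mul_cancel₀ hcard, one_mul, div_self (irr_one_ne_zero χ.2)]
    rw [h1, sub_self]
    exact memLocalIdeal_zero hM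
  · intro h x hx χ hχ
    rw [← red_epsC hM hK] at h
    rw [← omega_sub_one_mem_iff hM hB (epsC_classFunction K) (RV_epsC hM hK) hidem hχ] at h
    apply Cfsg.Agent.Lib.Helper21.irr_ker_of_sum_ne_zero K χ.2 _ x hx
    intro h0
    rw [omega_epsC, h0, mul_zero, zero_div, zero_sub] at h
    apply not_memLocalIdeal_one hM
    have := memLocalIdeal_neg h
    rwa [neg_neg] at this

end typ

section sub

variable {G : Type*} [Group G] [Fintype G]

theorem emb_eps {k : Type*} [Field k] (H : Subgroup G) [Fintype H] (K : Subgroup H) :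
    emb H (eps K : GA k H) = eps (K.map H.subtype) := by
  ext g
  by_cases hg : g ∈ H
  · rw [emb_apply_mem H _ hg]
    by_cases hgK : (⟨g, hg⟩ : H) ∈ K
    · have h1 : g ∈ K.map H.subtype := Subgroup.mem_map.2 ⟨⟨g, hg⟩, hgK, rfl⟩
      rw [eps_apply_mem hgK, eps_apply_mem h1,
        Subgroup.card_map_of_injective H.subtype_injective]
    · rw [eps_apply_not_mem hgK, eps_apply_not_mem]
      intro h
      obtain ⟨y, hy, hyg⟩ := Subgroup.mem_map.1 h
      apply hgK
      have : y = ⟨g, hg⟩ := Subtype.ext hyg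
      rwa [← this]
  · rw [emb_apply_not_mem H _ hg, eps_apply_not_mem]
    intro h
    obtain ⟨y, _, hyg⟩ := Subgroup.mem_map.1 h
    apply hg
    rw [← hyg]; exact y.2

/-- relative version of `blockKer_iff_eps` -/
theorem blockKer_iff_eps_sub (H : Subgroup G) {β : Set (IrrCharacter H)} (hβ : IsPBlock M β)
    (K : Subgroup H) [K.Normal] (hK : ¬ p ∣ Nat.card K) :
    (∀ x ∈ K, x ∈ blockKer β) ↔ eps (K.map H.subtype) * bl hM H β = bl hM H β := by
  haveI : Fintype H := Fintype.ofFinite H
  rw [blockKer_iff_eps hM hβ K hK, bl_eq_emb, ← emb_eps, ← emb_mul]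
  exact ⟨fun h => by rw [h], fun h => emb_injective H h⟩

/-- block induction gives the abstract relation -/
theorem indB_of_isInducedBlock {H : Subgroup G} {β : Set (IrrCharacter H)}
    {B : Set (IrrCharacter G)} (h : IsInducedBlock M H β B) :
    IndB H (bl hM H β) (blkR hM B) := by
  classical
  haveI : Fintype H := Fintype.ofFinite H
  obtain ⟨ξ, hξ⟩ := isPBlock_nonempty hM h.1
  obtain ⟨χ, hχ⟩ := isPBlock_nonempty hM h.2.1
  have ha : IsClassFunction H (fun x : H => blockCoeff B (x : G)) := by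
    intro g t
    exact blockCoeff_classFunction B (g : G) (t : G)
  have haR : RV M (fun x : H => blockCoeff B (x : G)) := fun x => RV_blockCoeff hM h.2.1 (x : G)
  have h1 := Cfsg.Agent.Lib.Helper21.omega_res_sub_omega_of_induced hM h hξ hχ
    (blockCoeff_classFunction B) (RV_blockCoeff hM h.2.1)
  rw [omega_blockCoeff, if_pos hχ] at h1
  have hd1 : IsClassFunction H ((fun x : H => blockCoeff B (x : G)) - dl) :=
    classFunction_sub ha dl_classFunction
  have hd2 : RV M ((fun x : H => blockCoeff B (x : G)) - dl) := RV.sub hM haR (RV_dl hM)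
  have h2 : MemLocalIdeal M (omega (ξ : H → ℂ) ((fun x : H => blockCoeff B (x : G)) - dl)) := by
    rw [omega_sub, omega_dl (irr_one_ne_zero ξ.2)]
    exact h1
  have h3 := isNilpotent_red_mul_blkR hM h.1 hd1 hd2 hξ h2
  rw [red_sub hM haR (RV_dl hM), red_dl, sub_mul, one_mul] at h3
  have h4 : trunc H (blkR hM B) = emb H (red hM (fun x : H => blockCoeff B (x : G))) := by
    rw [← emb_rst_eq_trunc]
    rfl
  unfold IndB
  rw [h4, bl_eq_emb, ← emb_mul, ← emb_sub]
  obtain ⟨m, hm⟩ := h3
  exact ⟨m, by rw [← emb_pow, hm, emb_zero]⟩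

end sub

end Cfsg.Agent.Lib.Helper80
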