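import Mathlib
import Cfsg.Agent.Lib.Helper80.GAKerT

set_option autoImplicit false
set_option linter.unusedSectionVars false
set_option linter.style.haveILetI false

/-! Blocks whose local blocks have the `σ`-cores in their kernels (`p ∉ σ`): passage between the
Brauer correspondent, the Brauer pairs and arbitrary local blocks. -/

namespace Cfsg.Agent.Lib.Helper80

open scoped BigOperators
open Cfsg Cfsg.Agent.Lib.Helper81 Cfsg.Agent.Lib.Helper20 GA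
open Cfsg.Agent.Lib.Helper30 (piCore_isPi piCoreOf_le)

variable {p : ℕ} [Fact p.Prime] {M : Ideal AlgInt} (hM : IsPModular p M)
  {G : Type*} [Group G] [Fintype G]

theorem not_dvd_card_piCore {σ : Set ℕ} (hpσ : p ∉ σ) (X : Type*) [Group X] [Finite X] :
    ¬ p ∣ Nat.card (piCore σ X) := fun h => hpσ (piCore_isPi σ p Fact.out h)

/-- a block of `G₀` inducing `B`, with nonzero Brauer image at a `p`-subgroup `R` of `G₀` with
`C_G(R) ≤ G₀`, yields a Brauer pair of `B` at `R`. -/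
theorem exists_pair_of_induced {B : Set (IrrCharacter G)} {G₀ : Subgroup G}
    {B₀ : Set (IrrCharacter G₀)} (hB₀ : IsInducedBlock M G₀ B₀ B) {R : Subgroup G}
    (hR : IsPGroup p R) (hRG : R ≤ G₀) (hC : Cn R ≤ G₀) (hbr : br R (bl hM G₀ B₀) ≠ 0) :
    ∃ f, IsBPOf p (blkR hM B) R f ∧ br R (bl hM G₀ B₀) * f = f := by
  have hb : IsBlk ⊤ (blkR hM B) := isBlk_blkR hM hB₀.2.1
  have hc : IsBlk G₀ (bl hM G₀ B₀) := isBlk_bl hM G₀ hB₀.1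
  obtain ⟨f, hf, hcf⟩ := exists_blk_of_idem (Cn R) (inZ_br (hc.inZ.2.mono hC))
    (br_idem hR (hc.inZ.2.mono hRG) hc.idem) hbr
  exact ⟨f, ⟨⟨hR, hf⟩, hb, (indB_of_isInducedBlock hM hB₀).br_mul_eq hR hRG hC hb.inZ hb.idem
    hc.inZ hf hcf⟩, hcf⟩

/-- from the Brauer correspondent to a maximal Brauer pair -/
theorem exists_max_kp {σ : Set ℕ} (hpσ : p ∉ σ) {B : Set (IrrCharacter G)} {D : Subgroup G}
    (hBD : IsDefectGroup p M B D) {B₁ : Set (IrrCharacter (Nn D))}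
    (hB₁ : IsInducedBlock M (Nn D) B₁ B) (hB₁D : IsDefectGroup p M B₁ (D.subgroupOf (Nn D)))
    (hker : ∀ n ∈ piCore σ (Nn D), n ∈ blockKer B₁) :
    ∃ e, IsMaxBP p (blkR hM B) D e ∧ KP σ D e := by
  have hdefD : IsDef p ⊤ (blkR hM B) D := isDef_of_isDefectGroup hM hB₁.2.1 hBD
  have hc₁ : IsBlk (Nn D) (bl hM (Nn D) B₁) := isBlk_bl hM (Nn D) hB₁.1
  have hdef₁ : IsDef p (Nn D) (bl hM (Nn D) B₁) D :=
    isDef_sub_of_isDefectGroup hM (Nn D) hB₁.1 Subgroup.le_normalizer hB₁D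
  have hK₁ : eps (piCoreOf σ (Nn D)) * bl hM (Nn D) B₁ = bl hM (Nn D) B₁ :=
    (blockKer_iff_eps_sub hM (Nn D) hB₁.1 (piCore σ (Nn D)) (not_dvd_card_piCore hpσ _)).1 hker
  obtain ⟨e, he, hce⟩ := exists_pair_of_induced hM hB₁ hdefD.pgroup Subgroup.le_normalizer
    (Cn_le_Nn D) hdef₁.br_ne
  exact ⟨e, he.isMaxBP_of_isDef hdefD, KP_of_eps hpσ (hc₁.inZ.2.mono Subgroup.le_normalizer)
    hdefD.pgroup Subgroup.le_normalizer (Cn_le_Nn D) le_rfl hce hK₁⟩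

/-- from a maximal Brauer pair to any local block -/
theorem ker_of_max_kp {σ : Set ℕ} (hpσ : p ∉ σ) {B : Set (IrrCharacter G)} {D : Subgroup G}
    {e : GA (Kr hM) G} (hmax : IsMaxBP p (blkR hM B) D e) (hKP : KP σ D e) {G₀ : Subgroup G}
    {B₀ : Set (IrrCharacter G₀)} (hB₀ : IsInducedBlock M G₀ B₀ B) {R : Subgroup G}
    (hR : IsPGroup p R) (hRG : R ≤ G₀) (hC : Cn R ≤ G₀) (hbr : br R (bl hM G₀ B₀) ≠ 0) :
    ∀ x ∈ piCore σ G₀, x ∈ blockKer B₀ := by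
  obtain ⟨f, hf, hcf⟩ := exists_pair_of_induced hM hB₀ hR hRG hC hbr
  have h1 : KP σ R f := hmax.kp_all hpσ hKP hf
  have h2 := (isBlk_bl hM G₀ hB₀.1).eps_of_KP hpσ hR hRG hC hf.1.2.ne_zero hcf h1
  exact (blockKer_iff_eps_sub hM G₀ hB₀.1 (piCore σ G₀) (not_dvd_card_piCore hpσ _)).2 h2

/-- from a local block at `D₀ C_G(D₀)` with a normal Hall `σ`-subgroup in the centraliser up to a
maximal Brauer pair -/
theorem exists_max_kp_of_local {σ : Set ℕ} (hpσ : p ∉ σ) {B : Set (IrrCharacter G)}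
    {D₀ : Subgroup G} (hD₀ : IsPGroup p D₀) {b : Set (IrrCharacter (D₀ ⊔ Cn D₀ : Subgroup G))}
    (hb : IsInducedBlock M (D₀ ⊔ Cn D₀) b B) (hH : HallP σ D₀)
    (hker : ∀ x : (D₀ ⊔ Cn D₀ : Subgroup G), (x : G) ∈ piCoreOf σ (Cn D₀) → x ∈ blockKer b) :
    ∃ P e, IsMaxBP p (blkR hM B) P e ∧ KP σ P e := by
  have hle : D₀ ≤ D₀ ⊔ Cn D₀ := le_sup_left
  have hCle : Cn D₀ ≤ D₀ ⊔ Cn D₀ := le_sup_right
  have hN : D₀ ⊔ Cn D₀ ≤ Nn D₀ := sup_le Subgroup.le_normalizer (Cn_le_Nn D₀)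
  have hc : IsBlk (D₀ ⊔ Cn D₀) (bl hM (D₀ ⊔ Cn D₀) b) := isBlk_bl hM _ hb.1
  have hbr : br D₀ (bl hM (D₀ ⊔ Cn D₀) b) = bl hM (D₀ ⊔ Cn D₀) b :=
    br_eq_self_of_idem hD₀ hle hN hc.inZ hc.idem
  obtain ⟨f, hf, hcf⟩ := exists_pair_of_induced hM hb hD₀ hle hCle (by rw [hbr]; exact hc.ne_zero)
  have hKle : piCoreOf σ (Cn D₀) ≤ D₀ ⊔ Cn D₀ := (piCoreOf_le σ _).trans hCle
  have hKN : D₀ ⊔ Cn D₀ ≤ Nn (piCoreOf σ (Cn D₀)) :=
    hN.trans ((Nn_le_normalizer_Cn' D₀).trans (Nn_le_Nn_piCoreOf σ (Cn D₀)))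
  haveI : ((piCoreOf σ (Cn D₀)).subgroupOf (D₀ ⊔ Cn D₀)).Normal :=
    (Subgroup.normal_subgroupOf_iff_le_normalizer hKle).2 hKN
  have hcard : ¬ p ∣ Nat.card ((piCoreOf σ (Cn D₀)).subgroupOf (D₀ ⊔ Cn D₀)) := by
    rw [Cfsg.Agent.Lib.Helper30.card_subgroupOf hKle]
    intro h
    exact hpσ (Cfsg.Agent.Lib.Helper30.piCoreOf_isPi σ (Cn D₀) p Fact.out h)
  have h1 := (blockKer_iff_eps_sub hM (D₀ ⊔ Cn D₀) hb.1
    ((piCoreOf σ (Cn D₀)).subgroupOf (D₀ ⊔ Cn D₀)) hcard).1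
    (fun x hx => hker x (Subgroup.mem_subgroupOf.1 hx))
  rw [Subgroup.map_subgroupOf_eq_of_le hKle] at h1
  have h2 := eps_up hD₀ (hle.trans hKN) (hc.inZ.2.mono hle) h1 hcf
  have h3 : KP σ D₀ f := by
    unfold KP
    rwa [inf_eq_left.2 (piCoreOf_le σ (Cn D₀))] at h2
  obtain ⟨P, e, hmax, hPe⟩ := IsBPOf.exists_le_max _ D₀ f hf rfl
  exact ⟨P, e, hmax, (hPe.kp_up hpσ hH h3).2⟩

end Cfsg.Agent.Lib.Helper80
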