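import Mathlib
import Cfsg.Agent.Lib.Helper80.GAKerM
import Cfsg.Agent.Lib.Helper80.GATrans2

set_option autoImplicit false
set_option linter.unusedSectionVars false
set_option linter.style.haveILetI false

/-! Induced blocks from centralisers of `p`-subgroups are Brauer pairs; on a defect group they are
maximal Brauer pairs. -/

namespace Cfsg.Agent.Lib.Helper80

open scoped BigOperators
open Cfsg Cfsg.Agent.Lib.Helper81 Cfsg.Agent.Lib.Helper20 GA

namespace GA

variable {k : Type*} {G : Type*} [Field k] [Group G] [Fintype G]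
variable {p : ℕ} [Fact p.Prime] [CharP k p]

/-- version of `IndB.br_mul_eq` for `H = C_G(D)` -/
theorem IndB.br_mul_eq_Cn {D : Subgroup G} {c b : GA k G} (h : IndB (Cn D) c b)
    (hD : IsPGroup p D) (hb : InZ ⊤ b) (hbb : b * b = b) (hc : IsBlk (Cn D) c) :
    br D b * c = c := by
  have hbZ : InZ (Cn D) (br D b) := inZ_br (fixBy_top_mono hb.2)
  rcases hc.prim _ hbZ (br_idem hD (fixBy_top_mono hb.2) hbb) with h0 | h0
  · exfalso
    apply hc.not_nilpotent
    have h1 : trunc (Cn D) b * c - c = -c := by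
      have : trunc (Cn D) b * c = 0 := h0
      rw [this, zero_sub]
    unfold IndB at h
    rw [h1] at h
    exact (isNilpotent_neg_iff).1 h
  · exact h0

end GA

variable {p : ℕ} [Fact p.Prime] {M : Ideal AlgInt} (hM : IsPModular p M)
  {G : Type*} [Group G] [Fintype G]

include hM in
/-- a block of `C_G(P)` inducing `B` gives a Brauer pair of `B` -/
theorem isBrauerPairOf_of_isInducedBlock {B : Set (IrrCharacter G)} {P : Subgroup G}
    (hP : IsPGroup p P) {c : Set (IrrCharacter (Cn P))} (h : IsInducedBlock M (Cn P) c B) :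
    IsBrauerPairOf p M B P c := by
  have hb : IsBlk ⊤ (blkR hM B) := isBlk_blkR hM h.2.1
  have hc : IsBlk (Cn P) (bl hM (Cn P) c) := isBlk_bl hM _ h.1
  exact (isBrauerPairOf_iff hM).2 ⟨⟨hP, h.1⟩, h.2.1, ⟨hP, hc⟩, hb,
    (indB_of_isInducedBlock hM h).br_mul_eq_Cn hP hb.inZ hb.idem hc⟩

include hM in
theorem isMaximalBrauerPair_of_isMaxBP {B : Set (IrrCharacter G)} {P : Subgroup G}
    {e : Set (IrrCharacter (Cn P))} (hB : IsPBlock M B) (he : IsBrauerPair p M P e)
    (h : IsMaxBP p (blkR hM B) P (bl hM (Cn P) e)) : IsMaximalBrauerPair p M B P e := by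
  refine ⟨(isBrauerPairOf_iff hM).2 ⟨he, hB, h.1⟩, fun R g hg hle => ?_⟩
  exact h.2 R _ ((isBrauerPairOf_iff hM).1 hg).2.2 (bple_of_subpairLE hM hle)

include hM in
/-- a block of `C_G(P)` inducing `B`, `P` a defect group of `B`, is a maximal Brauer pair -/
theorem isMaximalBrauerPair_of_isInducedBlock {B : Set (IrrCharacter G)} {P : Subgroup G}
    (hPD : IsDefectGroup p M B P) {c : Set (IrrCharacter (Cn P))}
    (h : IsInducedBlock M (Cn P) c B) : IsMaximalBrauerPair p M B P c := by
  have hdef : IsDef p ⊤ (blkR hM B) P := isDef_of_isDefectGroup hM h.2.1 hPD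
  have h1 := isBrauerPairOf_of_isInducedBlock hM hdef.pgroup h
  exact isMaximalBrauerPair_of_isMaxBP hM h.2.1 h1.1
    (((isBrauerPairOf_iff hM).1 h1).2.2.isMaxBP_of_isDef hdef)

end Cfsg.Agent.Lib.Helper80
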