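import Mathlib
import Cfsg.Agent.Lib.Helper80.GARes

set_option autoImplicit false
set_option linter.unusedSectionVars false

namespace Cfsg.Agent.Lib.Helper80

open scoped BigOperators
open Cfsg Cfsg.Agent.Lib.Helper81

variable {p : ℕ} {M : Ideal AlgInt} (hM : IsPModular p M)

/-- the algebraic integers inside the local ring -/
def algIntToLoc : AlgInt →+* locRing hM where
  toFun a := ⟨(a : ℂ), memLocalRing_algInt a hM⟩
  map_one' := rfl
  map_mul' _ _ := rfl
  map_zero' := rfl
  map_add' _ _ := rfl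

/-- reduction of algebraic integers -/
noncomputable def resA : AlgInt →+* Kr hM := (resR hM).comp (algIntToLoc hM)

theorem resA_surjective : Function.Surjective (resA hM) := by
  intro c
  obtain ⟨⟨z, a, b, hb, hz⟩, rfl⟩ := resR_surjective hM c
  obtain ⟨y, i, hi, hyi⟩ := hM.2.1.exists_inv hb
  refine ⟨a * y, ?_⟩
  show resR hM (algIntToLoc hM (a * y)) = resR hM _
  rw [← sub_eq_zero, ← map_sub, resR_eq_zero_iff]
  show MemLocalIdeal M (((a * y : AlgInt) : ℂ) - z)
  refine ⟨-(a * i), b, M.neg_mem (M.mul_mem_left _ hi), hb, ?_⟩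
  have hb0 : (b : ℂ) ≠ 0 := coe_ne_zero_of_not_mem hb
  rw [← hz]
  have h1 : (y : ℂ) * (b : ℂ) + (i : ℂ) = 1 := by exact_mod_cast congrArg (fun t : AlgInt => (t : ℂ)) hyi
  have h2 : (i : ℂ) = 1 - (y : ℂ) * (b : ℂ) := by rw [← h1]; ring
  push_cast
  rw [h2]
  field_simp
  ring

/-- the residue field of the ring of algebraic integers is algebraically closed -/
instance isAlgClosed_Kr : IsAlgClosed (Kr hM) := by
  apply IsAlgClosed.of_exists_root
  intro q hq hirr
  obtain ⟨Q, hQ1, hQ2, hQ3⟩ := Polynomial.lifts_and_natDegree_eq_and_monic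
    ((Polynomial.mem_lifts q).2 (Polynomial.map_surjective (resA hM) (resA_surjective hM) q)) hq
  have hdeg : (Q.map (algebraMap AlgInt ℂ)).degree ≠ 0 := by
    rw [Polynomial.degree_map_eq_of_injective (FaithfulSMul.algebraMap_injective AlgInt ℂ)]
    intro h0
    have h1 : Q.natDegree = 0 := Polynomial.natDegree_eq_zero_iff_degree_le_zero.2 h0.le
    rw [hQ2] at h1
    exact hirr.natDegree_pos.ne' h1
  obtain ⟨z, hz⟩ := IsAlgClosed.exists_root _ hdeg
  have hint : IsIntegral AlgInt z := ⟨Q, hQ3, by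
    rw [Polynomial.IsRoot.def, Polynomial.eval_map] at hz
    exact hz⟩
  have hintZ : IsIntegral ℤ z := isIntegral_trans z hint
  refine ⟨resA hM ⟨z, hintZ⟩, ?_⟩
  rw [← hQ1, Polynomial.eval_map, Polynomial.eval₂_hom]
  have : Polynomial.eval (⟨z, hintZ⟩ : AlgInt) Q = 0 := by
    apply Subtype.ext
    have h1 : ((Polynomial.eval (⟨z, hintZ⟩ : AlgInt) Q : AlgInt) : ℂ)
        = Polynomial.eval₂ (algebraMap AlgInt ℂ) z Q := by
      have := Polynomial.hom_eval₂ Q (RingHom.id AlgInt) (algebraMap AlgInt ℂ) (⟨z, hintZ⟩ : AlgInt)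
      simpa [Polynomial.eval₂_id] using this
    rw [h1]
    rw [Polynomial.IsRoot.def, Polynomial.eval_map] at hz
    exact hz
  rw [this, map_zero]

end Cfsg.Agent.Lib.Helper80
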