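import Mathlib
import Cfsg.Agent.Lib.Helper80.GANil

set_option autoImplicit false
set_option linter.unusedSectionVars false

namespace Cfsg.Agent.Lib.Helper80

open scoped BigOperators

namespace GA

variable {k : Type*} {G : Type*} [Field k] [Group G] [Fintype G]

/-- the sum of the elements of a subgroup -/
noncomputable def sm (P : Subgroup G) : GA k G :=
  fun g => by classical exact if g ∈ P then 1 else 0

theorem sm_apply_mem {P : Subgroup G} {g : G} (h : g ∈ P) : (sm P : GA k G) g = 1 := by
  show (@ite k (g ∈ P) (Classical.propDecidable _) 1 0) = 1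
  rw [if_pos h]

theorem sm_apply_not_mem {P : Subgroup G} {g : G} (h : g ∉ P) : (sm P : GA k G) g = 0 := by
  show (@ite k (g ∈ P) (Classical.propDecidable _) 1 0) = 0
  rw [if_neg h]

theorem sm_congr {P : Subgroup G} {g g' : G} (h : g ∈ P ↔ g' ∈ P) :
    (sm P : GA k G) g = sm P g' := by
  by_cases hg : g ∈ P
  · rw [sm_apply_mem hg, sm_apply_mem (h.1 hg)]
  · rw [sm_apply_not_mem hg, sm_apply_not_mem (fun h' => hg (h.2 h'))]

theorem of_mul_sm {P : Subgroup G} {u : G} (hu : u ∈ P) : (of u * sm P : GA k G) = sm P := by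
  ext g
  rw [of_mul_apply]
  exact sm_congr (Subgroup.mul_mem_cancel_left P (P.inv_mem hu))

theorem sm_mul_of {P : Subgroup G} {u : G} (hu : u ∈ P) : (sm P * of u : GA k G) = sm P := by
  ext g
  rw [mul_of_apply]
  exact sm_congr (Subgroup.mul_mem_cancel_right P (P.inv_mem hu))

theorem of_mul_sm_comm {P : Subgroup G} {n : G} (hn : n ∈ Nn P) :
    (of n * sm P : GA k G) = sm P * of n := by
  ext g
  rw [of_mul_apply, mul_of_apply]
  apply sm_congr
  have := (Subgroup.mem_normalizer_iff.1 hn) (n⁻¹ * g)
  rw [this]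
  have e : n * (n⁻¹ * g) * n⁻¹ = g * n⁻¹ := by group
  rw [e]

section modules

variable {W : Type*} [AddCommGroup W] [Module (GA k G) W] [Module k W]
  [IsScalarTower k (GA k G) W]

theorem smul_eq_sum (a : GA k G) (w : W) : a • w = ∑ g, a g • ((of g : GA k G) • w) := by
  conv_lhs => rw [eq_sum_of a]
  rw [Finset.sum_smul]
  exact Finset.sum_congr rfl (fun g _ => smul_assoc _ _ _)

theorem of_smul_of_smul (x y : G) (w : W) :
    (of x : GA k G) • ((of y : GA k G) • w) = (of (x * y) : GA k G) • w := by
  rw [← mul_smul, of_mul_of]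

theorem of_inv_smul_of_smul (x : G) (w : W) :
    (of x⁻¹ : GA k G) • ((of x : GA k G) • w) = w := by
  rw [of_smul_of_smul, inv_mul_cancel, of_one, one_smul]

theorem of_smul_of_inv_smul (x : G) (w : W) :
    (of x : GA k G) • ((of x⁻¹ : GA k G) • w) = w := by
  rw [of_smul_of_smul, mul_inv_cancel, of_one, one_smul]

theorem sm_smul (P : Subgroup G) [Fintype P] (w : W) :
    (sm P : GA k G) • w = ∑ u : P, (of (u : G) : GA k G) • w := by
  classical
  rw [smul_eq_sum]
  rw [← Finset.sum_subtype (Finset.univ.filter (fun g => g ∈ P)) (by simp)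
    (fun g => (of g : GA k G) • w)]
  rw [Finset.sum_filter]
  refine Finset.sum_congr rfl (fun g _ => ?_)
  split_ifs with h
  · rw [sm_apply_mem h, one_smul]
  · rw [sm_apply_not_mem h, zero_smul]

variable (k W) in
/-- the `P`-fixed vectors -/
def fixW (P : Subgroup G) : Submodule k W where
  carrier := {w | ∀ u ∈ P, (of u : GA k G) • w = w}
  add_mem' := by
    intro a b ha hb u hu
    rw [smul_add, ha u hu, hb u hu]
  zero_mem' := fun u _ => smul_zero _
  smul_mem' := by
    intro c w hw u hu
    rw [smul_comm, hw u hu]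

theorem mem_fixW {P : Subgroup G} {w : W} :
    w ∈ fixW k W P ↔ ∀ u ∈ P, (of u : GA k G) • w = w := Iff.rfl

variable (k W) in
/-- the image of the trace (norm) map of `P` -/
def trW (P : Subgroup G) : Submodule k W where
  carrier := {w | ∃ v : W, (sm P : GA k G) • v = w}
  add_mem' := by
    rintro a b ⟨v, rfl⟩ ⟨v', rfl⟩
    exact ⟨v + v', smul_add _ _ _⟩
  zero_mem' := ⟨0, smul_zero _⟩
  smul_mem' := by
    rintro c w ⟨v, rfl⟩
    exact ⟨c • v, by rw [smul_comm]⟩

theorem mem_trW {P : Subgroup G} {w : W} :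
    w ∈ trW k W P ↔ ∃ v : W, (sm P : GA k G) • v = w := Iff.rfl

theorem sm_smul_mem_trW (P : Subgroup G) (v : W) : (sm P : GA k G) • v ∈ trW k W P := ⟨v, rfl⟩

theorem trW_le_fixW (P : Subgroup G) : trW k W P ≤ fixW k W P := by
  rintro w ⟨v, rfl⟩ u hu
  rw [← mul_smul, of_mul_sm hu]

theorem FixBy.commute_of {P : Subgroup G} {a : GA k G} (ha : FixBy P a) {u : G} (hu : u ∈ P) :
    of u * a = a * of u := (cj_eq_iff_commute u a).1 (ha u hu)

theorem FixBy.commute_sm {P : Subgroup G} {a : GA k G} (ha : FixBy P a) :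
    a * sm P = sm P * a := by
  classical
  have h : (sm P : GA k G) = ∑ g, (sm P : GA k G) g • (of g : GA k G) := eq_sum_of _
  rw [h, Finset.mul_sum, Finset.sum_mul]
  refine Finset.sum_congr rfl (fun g _ => ?_)
  by_cases hg : g ∈ P
  · rw [mul_smul_comm, smul_mul_assoc, ha.commute_of hg]
  · rw [sm_apply_not_mem hg, zero_smul, mul_zero, zero_mul]

theorem FixBy.smul_mem_fixW {P : Subgroup G} {a : GA k G} (ha : FixBy P a) {w : W}
    (hw : w ∈ fixW k W P) : a • w ∈ fixW k W P := by
  intro u hu
  rw [← mul_smul, ha.commute_of hu, mul_smul, hw u hu]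

theorem FixBy.smul_mem_trW {P : Subgroup G} {a : GA k G} (ha : FixBy P a) {w : W}
    (hw : w ∈ trW k W P) : a • w ∈ trW k W P := by
  obtain ⟨v, rfl⟩ := hw
  exact ⟨a • v, by rw [← mul_smul, ← mul_smul, ha.commute_sm]⟩

theorem of_smul_mem_fixW {P : Subgroup G} {n : G} (hn : n ∈ Nn P) {w : W}
    (hw : w ∈ fixW k W P) : (of n : GA k G) • w ∈ fixW k W P := by
  intro u hu
  have h1 : n⁻¹ * u * n ∈ P := by
    have := (Subgroup.mem_normalizer_iff.1 (Subgroup.inv_mem _ hn) u).1 hu
    simpa using this
  have h2 : u * n = n * (n⁻¹ * u * n) := by group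
  rw [of_smul_of_smul, h2, ← of_smul_of_smul, hw _ h1]

theorem of_smul_mem_trW {P : Subgroup G} {n : G} (hn : n ∈ Nn P) {w : W}
    (hw : w ∈ trW k W P) : (of n : GA k G) • w ∈ trW k W P := by
  obtain ⟨v, rfl⟩ := hw
  exact ⟨(of n : GA k G) • v, by rw [← mul_smul, ← mul_smul, of_mul_sm_comm hn]⟩

/-- elements supported on the normaliser preserve fixed vectors -/
theorem SuppOn.smul_mem_fixW {P H : Subgroup G} (hH : H ≤ Nn P) {a : GA k G} (ha : SuppOn H a)
    {w : W} (hw : w ∈ fixW k W P) : a • w ∈ fixW k W P := by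
  rw [smul_eq_sum]
  refine Submodule.sum_mem _ (fun g _ => ?_)
  by_cases hg : g ∈ H
  · exact Submodule.smul_mem _ _ (of_smul_mem_fixW (hH hg) hw)
  · rw [ha g hg, zero_smul]; exact Submodule.zero_mem _

theorem SuppOn.smul_mem_trW {P H : Subgroup G} (hH : H ≤ Nn P) {a : GA k G} (ha : SuppOn H a)
    {w : W} (hw : w ∈ trW k W P) : a • w ∈ trW k W P := by
  rw [smul_eq_sum]
  refine Submodule.sum_mem _ (fun g _ => ?_)
  by_cases hg : g ∈ H
  · exact Submodule.smul_mem _ _ (of_smul_mem_trW (hH hg) hw)
  · rw [ha g hg, zero_smul]; exact Submodule.zero_mem _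

/-- **Equivariant sums.**  A group `P` of prime order acts on a finite set and `Φ` is an
equivariant map to a module: modulo traces only the fixed points contribute. -/
theorem sum_sub_sum_fixed_mem {p : ℕ} [Fact p.Prime] {P : Subgroup G} (hP : Nat.card P = p)
    {Y : Type*} [DecidableEq Y] (act : P → Y → Y) (h1 : ∀ y, act 1 y = y)
    (hmul : ∀ a b y, act (a * b) y = act a (act b y)) (Φ : Y → W)
    [DecidablePred fun y : Y => ∀ a, act a y = y] :
    ∀ s : Finset Y, (∀ a, ∀ y ∈ s, act a y ∈ s) →
      (∀ a : P, ∀ y ∈ s, Φ (act a y) = (of (a : G) : GA k G) • Φ y) →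
      ∑ y ∈ s, Φ y - ∑ y ∈ s.filter (fun y => ∀ a, act a y = y), Φ y ∈ trW k W P := by
  classical
  have : Fintype P := Fintype.ofFinite P
  intro s
  induction s using Finset.strongInduction with
  | H s ih =>
    intro hs hΦ
    by_cases hall : ∀ y ∈ s, ∀ a, act a y = y
    · rw [Finset.filter_true_of_mem hall, sub_self]; exact Submodule.zero_mem _
    · push Not at hall
      obtain ⟨y0, hy0, a0, ha0⟩ := hall
      obtain ⟨O, hO⟩ : ∃ O, O = Finset.univ.image (fun a : P => act a y0) := ⟨_, rfl⟩
      have hOmem : ∀ y, y ∈ O ↔ ∃ a : P, act a y0 = y := by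
        intro y; rw [hO]; simp
      have hOs : O ⊆ s := by
        intro y hy
        obtain ⟨a, rfl⟩ := (hOmem y).1 hy
        exact hs a y0 hy0
      -- the stabiliser is trivial
      let St : Subgroup P :=
        { carrier := {a | act a y0 = y0}
          mul_mem' := by
            intro a b ha hb
            show act (a * b) y0 = y0
            rw [hmul, hb, ha]
          one_mem' := h1 y0
          inv_mem' := by
            intro a ha
            show act a⁻¹ y0 = y0
            have : act a⁻¹ (act a y0) = y0 := by rw [← hmul, inv_mul_cancel, h1]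
            rwa [ha] at this }
      have hSt : St = ⊥ := by
        have : Fact (Nat.card P).Prime := ⟨by rw [hP]; exact Fact.out⟩
        rcases Subgroup.eq_bot_or_eq_top_of_prime_card St with h | h
        · exact h
        · exfalso
          apply ha0
          have : a0 ∈ St := by rw [h]; exact Subgroup.mem_top _
          exact this
      have hinj : Function.Injective (fun a : P => act a y0) := by
        intro a b hab
        have h2 : act (b⁻¹ * a) y0 = y0 := by
          rw [hmul]
          have : act a y0 = act b y0 := hab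
          rw [this, ← hmul, inv_mul_cancel, h1]
        have h3 : b⁻¹ * a ∈ St := h2
        rw [hSt, Subgroup.mem_bot] at h3
        exact (inv_mul_eq_one.1 h3).symm
      have hsumO : ∑ y ∈ O, Φ y = (sm P : GA k G) • Φ y0 := by
        rw [hO, Finset.sum_image (fun a _ b _ h => hinj h), sm_smul]
        exact Finset.sum_congr rfl (fun a _ => hΦ a y0 hy0)
      have hOstab : ∀ a : P, ∀ y, y ∈ O ↔ act a y ∈ O := by
        intro a y
        rw [hOmem, hOmem]
        constructor
        · rintro ⟨b, rfl⟩
          exact ⟨a * b, hmul a b y0⟩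
        · rintro ⟨b, hb⟩
          refine ⟨a⁻¹ * b, ?_⟩
          rw [hmul, hb, ← hmul, inv_mul_cancel, h1]
      have hlt : s \ O ⊂ s := by
        refine Finset.ssubset_iff_subset_ne.2 ⟨Finset.sdiff_subset, ?_⟩
        intro h
        have : y0 ∈ s \ O := by rw [h]; exact hy0
        exact (Finset.mem_sdiff.1 this).2 ((hOmem y0).2 ⟨1, h1 y0⟩)
      have h := ih (s \ O) hlt
        (fun a y hy => by
          rw [Finset.mem_sdiff] at hy ⊢
          exact ⟨hs a y hy.1, fun h => hy.2 ((hOstab a y).2 h)⟩)
        (fun a y hy => hΦ a y (Finset.mem_sdiff.1 hy).1)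
      have hfil : (s \ O).filter (fun y => ∀ a, act a y = y)
          = s.filter (fun y => ∀ a, act a y = y) := by
        ext y
        simp only [Finset.mem_filter, Finset.mem_sdiff]
        constructor
        · rintro ⟨⟨h1', _⟩, h3⟩; exact ⟨h1', h3⟩
        · rintro ⟨h1', h3⟩
          refine ⟨⟨h1', ?_⟩, h3⟩
          intro hyO
          obtain ⟨b, rfl⟩ := (hOmem y).1 hyO
          apply ha0
          have e1 := h3 (b * a0 * b⁻¹)
          rw [← hmul] at e1
          have e2 : b * a0 * b⁻¹ * b = b * a0 := by group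
          rw [e2] at e1
          have e3 := hinj e1
          have : a0 = 1 := by
            have := mul_left_cancel (a := b) (b := a0) (c := 1) (by rw [mul_one]; exact e3)
            exact this
          rw [this, h1]
      rw [hfil] at h
      have hsplit : ∑ y ∈ s, Φ y = ∑ y ∈ s \ O, Φ y + ∑ y ∈ O, Φ y :=
        (Finset.sum_sdiff hOs).symm
      rw [hsplit, hsumO]
      have : ∑ y ∈ s \ O, Φ y + (sm P : GA k G) • Φ y0
          - ∑ y ∈ s.filter (fun y => ∀ a, act a y = y), Φ y
          = (∑ y ∈ s \ O, Φ y - ∑ y ∈ s.filter (fun y => ∀ a, act a y = y), Φ y)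
            + (sm P : GA k G) • Φ y0 := by abel
      rw [this]
      exact Submodule.add_mem _ h (sm_smul_mem_trW P _)

/-- an element of `(kG)^P` acts on `W^P / Tr W` as its image under the Brauer map -/
theorem FixBy.smul_sub_br_smul_mem {p : ℕ} [Fact p.Prime] {P : Subgroup G} (hP : Nat.card P = p)
    {a : GA k G} (ha : FixBy P a) {w : W} (hw : w ∈ fixW k W P) :
    a • w - GA.br P a • w ∈ trW k W P := by
  classical
  have h := sum_sub_sum_fixed_mem (k := k) (W := W) hP
    (fun (u : P) (g : G) => (u : G) * g * (u : G)⁻¹) (fun g => by simp)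
    (fun a b g => by simp only [Subgroup.coe_mul, mul_inv_rev]; group)
    (fun g => a g • ((of g : GA k G) • w)) Finset.univ (fun _ _ _ => Finset.mem_univ _)
    (fun u g _ => by
      show a ((u : G) * g * (u : G)⁻¹) • ((of ((u : G) * g * (u : G)⁻¹) : GA k G) • w) = _
      rw [ha.apply u.2, ← of_smul_of_smul, ← of_smul_of_smul,
        hw _ (P.inv_mem u.2), smul_comm])
  rw [← smul_eq_sum] at h
  have h2 : GA.br P a • w = ∑ g ∈ Finset.univ.filter
      (fun g : G => ∀ u : P, (u : G) * g * (u : G)⁻¹ = g), a g • ((of g : GA k G) • w) := by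
    rw [smul_eq_sum, Finset.sum_filter]
    refine Finset.sum_congr rfl (fun g _ => ?_)
    split_ifs with hg
    · rw [br_apply_mem]
      rw [mem_Cn]
      intro u hu
      have := hg ⟨u, hu⟩
      simp only at this
      calc u * g = u * g * u⁻¹ * u := by group
        _ = g * u := by rw [this]
    · rw [br_apply_not_mem, zero_smul]
      intro hgC
      apply hg
      intro u
      rw [(mem_Cn.1 hgC) u u.2]; group
  rw [h2]
  exact h

end modules

end GA

end Cfsg.Agent.Lib.Helper80
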