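import Mathlib
import Cfsg.Agent.Lib.Helper80.MTBasic

set_option autoImplicit false
set_option linter.unusedSectionVars false

namespace Cfsg.Agent.Lib.Helper80

open scoped BigOperators

theorem exists_commuting_proj {k W : Type*} [Field k] [AddCommGroup W] [Module k W]
    (y : Module.End k W) (i : ℕ) (Z : Submodule k W)
    (hZ1 : Z ≤ LinearMap.ker y) (hZ2 : Z ≤ LinearMap.range (y ^ i))
    (hZ3 : Disjoint Z (LinearMap.range (y ^ (i + 1)))) :
    ∃ ρ : Module.End k W, Commute ρ y ∧ (∀ w ∈ LinearMap.ker y, ρ w ∈ Z) ∧ (∀ z ∈ Z, ρ z = z) ∧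
      (∀ w ∈ LinearMap.ker y, w ∈ LinearMap.range (y ^ (i + 1)) → ρ w = 0) := by
  classical
  obtain ⟨R, hR⟩ : ∃ R, R = LinearMap.range (y ^ (i + 1)) := ⟨_, rfl⟩
  -- left inverse
  have hinj : LinearMap.ker (R.mkQ ∘ₗ Z.subtype) = ⊥ := by
    rw [LinearMap.ker_eq_bot']
    intro z hz
    have h1 : (z : W) ∈ R := by
      have : R.mkQ (z : W) = 0 := hz
      rwa [Submodule.mkQ_apply, Submodule.Quotient.mk_eq_zero] at this
    have h2 : (z : W) ∈ Z ⊓ R := ⟨z.2, h1⟩
    rw [hR, hZ3.eq_bot, Submodule.mem_bot] at h2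
    exact Subtype.ext h2
  obtain ⟨g, hg⟩ := LinearMap.exists_leftInverse_of_injective _ hinj
  -- right inverse
  obtain ⟨s, hs⟩ := LinearMap.exists_rightInverse_of_surjective (y ^ i).rangeRestrict
    (LinearMap.range_rangeRestrict _)
  obtain ⟨lam, hlam⟩ : ∃ lam : Module.End k W,
      lam = s ∘ₗ (Submodule.inclusion hZ2) ∘ₗ g ∘ₗ R.mkQ := ⟨_, rfl⟩
  have hyl : ∀ w, (y ^ i) (lam w) = (g (R.mkQ w) : W) := by
    intro w
    rw [hlam]
    have := congrArg (fun f => ((f (Submodule.inclusion hZ2 (g (R.mkQ w)))) : W)) hs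
    simpa using this
  have hl0 : ∀ v, lam ((y ^ (i + 1)) v) = 0 := by
    intro v
    rw [hlam]
    have : R.mkQ ((y ^ (i + 1)) v) = 0 := by
      rw [Submodule.mkQ_apply, Submodule.Quotient.mk_eq_zero, hR]
      exact LinearMap.mem_range_self _ _
    simp [this]
  have hgz : ∀ z : Z, g (R.mkQ (z : W)) = z := by
    intro z
    exact congrArg (fun f => f z) hg
  obtain ⟨f, hf⟩ : ∃ f : ℕ → Module.End k W, f = fun j => y ^ j * lam * y ^ (i + 1 - j) :=
    ⟨_, rfl⟩
  refine ⟨∑ j ∈ Finset.range (i + 1), y ^ j * lam * y ^ (i - j), ?_, ?_, ?_, ?_⟩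
  · have e1 : y * ∑ j ∈ Finset.range (i + 1), y ^ j * lam * y ^ (i - j)
        = ∑ j ∈ Finset.range (i + 1), f (j + 1) := by
      rw [Finset.mul_sum]
      refine Finset.sum_congr rfl (fun j _ => ?_)
      rw [hf]
      simp only
      rw [Nat.add_sub_add_right, pow_succ']
      simp only [mul_assoc]
    have e2 : (∑ j ∈ Finset.range (i + 1), y ^ j * lam * y ^ (i - j)) * y
        = ∑ j ∈ Finset.range (i + 1), f j := by
      rw [Finset.sum_mul]
      refine Finset.sum_congr rfl (fun j hj => ?_)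
      rw [hf]
      simp only
      have : i + 1 - j = (i - j) + 1 := by
        have := Finset.mem_range.1 hj
        omega
      rw [this, pow_succ]
      simp only [mul_assoc]
    have e3 : ∑ j ∈ Finset.range (i + 1), f (j + 1) - ∑ j ∈ Finset.range (i + 1), f j
        = f (i + 1) - f 0 := by
      rw [← Finset.sum_sub_distrib, Finset.sum_range_sub]
    have e4 : f (i + 1) = 0 := by
      rw [hf]
      simp only [Nat.sub_self, pow_zero, mul_one]
      ext w
      show (y ^ (i + 1)) (lam w) = 0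
      rw [pow_succ', Module.End.mul_apply, hyl]
      exact hZ1 (g (R.mkQ w)).2
    have e5 : f 0 = 0 := by
      rw [hf]
      simp only [pow_zero, one_mul, Nat.sub_zero]
      ext w
      exact hl0 w
    show _ * y = y * _
    rw [e1, e2]
    rw [e4, e5, sub_zero, sub_eq_zero] at e3
    exact e3.symm
  all_goals
    have key : ∀ w ∈ LinearMap.ker y,
        (∑ j ∈ Finset.range (i + 1), y ^ j * lam * y ^ (i - j)) w = (g (R.mkQ w) : W) := by
      intro w hw
      rw [LinearMap.sum_apply, Finset.sum_eq_single i]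
      · simp only [Nat.sub_self, pow_zero, mul_one, Module.End.mul_apply]
        exact hyl w
      · intro j hj hji
        have hlt : j < i := lt_of_le_of_ne (Nat.lt_succ_iff.1 (Finset.mem_range.1 hj)) hji
        have : (y ^ (i - j)) w = 0 := by
          obtain ⟨m, hm⟩ : ∃ m, i - j = m + 1 := ⟨i - j - 1, by omega⟩
          rw [hm, pow_succ, Module.End.mul_apply, LinearMap.mem_ker.1 hw, map_zero]
        rw [Module.End.mul_apply, this, map_zero]
      · intro h; exact absurd (Finset.mem_range.2 (Nat.lt_succ_self i)) h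
  · intro w hw
    rw [key w hw]
    exact (g (R.mkQ w)).2
  · intro z hz
    rw [key z (hZ1 hz)]
    exact congrArg Subtype.val (hgz ⟨z, hz⟩)
  · intro w hw hwR
    rw [key w hw]
    have : R.mkQ w = 0 := by
      rw [Submodule.mkQ_apply, Submodule.Quotient.mk_eq_zero, hR]
      exact hwR
    rw [this, map_zero]; rfl

/-- `(T - 1)^(p-1) = 1 + T + ... + T^(p-1)` in characteristic `p` -/
theorem sub_one_pow_eq_geom_sum {A : Type*} [Ring A] {k : Type*} [Field k] [Algebra k A]
    {p : ℕ} [hp : Fact p.Prime] [CharP k p] (X : A) :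
    (X - 1) ^ (p - 1) = ∑ i ∈ Finset.range p, X ^ i := by
  have hpoly : ((Polynomial.X : Polynomial k) - 1) ^ (p - 1)
      = ∑ i ∈ Finset.range p, (Polynomial.X : Polynomial k) ^ i := by
    have hne : ((Polynomial.X : Polynomial k) - 1) ≠ 0 := by
      have := Polynomial.X_sub_C_ne_zero (1 : k)
      simpa using this
    apply mul_left_cancel₀ hne
    rw [mul_geom_sum, ← pow_succ', Nat.sub_add_cancel hp.1.one_le, sub_pow_char, one_pow]
  have := congrArg (Polynomial.aeval X) hpoly
  simpa using this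

namespace GA

variable {k : Type*} {G : Type*} [Field k] [Group G] [Fintype G]

theorem sm_zpowers {x : G} : (sm (Subgroup.zpowers x) : GA k G)
    = ∑ i ∈ Finset.range (orderOf x), (of x : GA k G) ^ i := by
  classical
  ext g
  rw [sum_apply]
  by_cases hg : g ∈ Subgroup.zpowers x
  · rw [sm_apply_mem hg]
    have hfin : IsOfFinOrder x := isOfFinOrder_of_finite x
    have h2 : g ∈ Submonoid.powers x := hfin.mem_powers_iff_mem_zpowers.2 hg
    rw [hfin.mem_powers_iff_mem_range_orderOf] at h2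
    obtain ⟨i, hi, rfl⟩ := Finset.mem_image.1 h2
    rw [Finset.sum_eq_single i]
    · rw [of_pow, of_apply, if_pos rfl]
    · intro j hj hji
      rw [of_pow, of_apply, if_neg]
      intro h
      apply hji
      exact pow_injOn_Iio_orderOf (Finset.mem_range.1 hj) (Finset.mem_range.1 hi) h.symm
    · intro h; exact absurd hi h
  · rw [sm_apply_not_mem hg]
    symm
    apply Finset.sum_eq_zero
    intro i _
    rw [of_pow, of_apply, if_neg]
    intro h
    exact hg (h ▸ Subgroup.pow_mem _ (Subgroup.mem_zpowers x) i)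

theorem sm_eq_pow {p : ℕ} [Fact p.Prime] [CharP k p] {x : G} (hx : orderOf x = p) :
    (sm (Subgroup.zpowers x) : GA k G) = ((of x : GA k G) - 1) ^ (p - 1) := by
  rw [sm_zpowers, hx, sub_one_pow_eq_geom_sum (k := k)]

/-- conjugating `x - 1` by an element normalising `⟨x⟩` -/
theorem of_mul_sub_one_pow {x h : G} (hh : h ∈ Nn (Subgroup.zpowers x)) (i : ℕ) :
    ∃ d : GA k G, of h * ((of x : GA k G) - 1) ^ i = ((of x : GA k G) - 1) ^ i * d := by
  have hfin : IsOfFinOrder x := isOfFinOrder_of_finite x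
  have h1 : h * x * h⁻¹ ∈ Subgroup.zpowers x :=
    (Subgroup.mem_normalizer_iff.1 hh x).1 (Subgroup.mem_zpowers x)
  have h2 : h * x * h⁻¹ ∈ Submonoid.powers x := hfin.mem_powers_iff_mem_zpowers.2 h1
  obtain ⟨j, hj⟩ := h2
  replace hj : x ^ j = h * x * h⁻¹ := hj
  obtain ⟨c, hc⟩ : ∃ c : GA k G, c = ∑ l ∈ Finset.range j, (of x : GA k G) ^ l := ⟨_, rfl⟩
  have hcomm : Commute c ((of x : GA k G) - 1) := by
    rw [hc]
    apply Commute.sum_left
    intro l _
    exact ((Commute.refl (of x : GA k G)).pow_left l).sub_right (Commute.one_right _)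
  have hbase : of h * ((of x : GA k G) - 1) = ((of x : GA k G) - 1) * c * of h := by
    rw [hc, mul_geom_sum, of_pow, hj, sub_mul, one_mul, mul_sub, mul_one, of_mul_of, of_mul_of]
    congr 2
    group
  refine ⟨c ^ i * of h, ?_⟩
  induction i with
  | zero => simp
  | succ i ih =>
    rw [pow_succ, ← mul_assoc, ih, mul_assoc (((of x : GA k G) - 1) ^ i), mul_assoc (c ^ i), hbase]
    have e : c ^ i * (((of x : GA k G) - 1) * c * of h)
        = ((of x : GA k G) - 1) * (c ^ (i + 1) * of h) := by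
      rw [← mul_assoc, ← mul_assoc, (hcomm.pow_left i).eq, pow_succ]
      simp only [mul_assoc]
    rw [e, ← mul_assoc]

section modules

variable {W : Type*} [AddCommGroup W] [Module (GA k G) W] [Module k W]
  [IsScalarTower k (GA k G) W]

variable (W) in
/-- the `k`-linear operator of an element of the group algebra -/
noncomputable def Lm (a : GA k G) : Module.End k W := Algebra.lsmul k k W a

@[simp] theorem Lm_apply (a : GA k G) (w : W) : Lm W a w = a • w := rfl

theorem Lm_pow (a : GA k G) (n : ℕ) : Lm W (a ^ n) = Lm W a ^ n := map_pow _ _ _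

/-- a `G`-stable subspace is a submodule -/
def toSub (E : Submodule k W) (h : ∀ g : G, ∀ w ∈ E, (of g : GA k G) • w ∈ E) :
    Submodule (GA k G) W where
  carrier := E
  add_mem' := E.add_mem
  zero_mem' := E.zero_mem
  smul_mem' := fun a w hw => by
    rw [smul_eq_sum]
    exact E.sum_mem (fun g _ => E.smul_mem _ (h g w hw))

theorem mem_toSub {E : Submodule k W} {h : ∀ g : G, ∀ w ∈ E, (of g : GA k G) • w ∈ E} {w : W} :
    w ∈ toSub E h ↔ w ∈ E := Iff.rfl

/-- **Schur's lemma** over an algebraically closed field -/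
theorem schur [IsAlgClosed k] [Module.Finite k W] [IsSimpleModule (GA k G) W]
    (φ : Module.End k W) (hφ : ∀ (g : G) (w : W), φ ((of g : GA k G) • w) = (of g : GA k G) • φ w) :
    ∃ c : k, ∀ w, φ w = c • w := by
  have : Nontrivial W := IsSimpleModule.nontrivial (GA k G) W
  obtain ⟨c, hc⟩ := Module.End.exists_eigenvalue φ
  obtain ⟨v, hv⟩ := hc.exists_hasEigenvector
  refine ⟨c, ?_⟩
  have hst : ∀ g : G, ∀ w ∈ Module.End.eigenspace φ c,
      (of g : GA k G) • w ∈ Module.End.eigenspace φ c := by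
    intro g w hw
    rw [Module.End.mem_eigenspace_iff] at hw ⊢
    rw [hφ, hw, smul_comm]
  rcases eq_bot_or_eq_top (toSub _ hst) with h | h
  · exfalso
    have : v ∈ toSub _ hst := hv.1
    rw [h, Submodule.mem_bot] at this
    exact hv.2 this
  · intro w
    have : w ∈ toSub _ hst := by rw [h]; exact Submodule.mem_top
    exact Module.End.mem_eigenspace_iff.1 this

/-- the elements commuting with an operator form a subgroup -/
def commSub (ρ : Module.End k W) : Subgroup G where
  carrier := {u | ∀ w, ρ ((of u : GA k G) • w) = (of u : GA k G) • ρ w}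
  mul_mem' := by
    intro a b ha hb w
    rw [← of_smul_of_smul, ha, hb, of_smul_of_smul]
  one_mem' := fun w => by rw [of_one, one_smul, one_smul]
  inv_mem' := by
    intro a ha w
    have := ha ((of a⁻¹ : GA k G) • w)
    rw [of_smul_of_inv_smul] at this
    rw [this, of_inv_smul_of_smul]

theorem mem_commSub {ρ : Module.End k W} {u : G} :
    u ∈ commSub ρ ↔ ∀ w, ρ ((of u : GA k G) • w) = (of u : GA k G) • ρ w := Iff.rfl

/-- the stabiliser of a vector -/
def stabW (w : W) : Subgroup G where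
  carrier := {u | (of u : GA k G) • w = w}
  mul_mem' := by
    intro a b ha hb
    show (of (a * b) : GA k G) • w = w
    rw [← of_smul_of_smul, hb, ha]
  one_mem' := by show (of 1 : GA k G) • w = w; rw [of_one, one_smul]
  inv_mem' := by
    intro a ha
    show (of a⁻¹ : GA k G) • w = w
    have h : (of a : GA k G) • w = w := ha
    calc (of a⁻¹ : GA k G) • w = (of a⁻¹ : GA k G) • ((of a : GA k G) • w) := by rw [h]
      _ = w := of_inv_smul_of_smul a w

theorem fixW_zpowers (x : G) : fixW k W (Subgroup.zpowers x) = LinearMap.ker (Lm W ((of x : GA k G) - 1)) := by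
  ext w
  rw [LinearMap.mem_ker, Lm_apply, sub_smul, one_smul, sub_eq_zero, mem_fixW]
  constructor
  · intro h; exact h x (Subgroup.mem_zpowers x)
  · intro h u hu
    have : Subgroup.zpowers x ≤ stabW (k := k) w := by
      rw [Subgroup.zpowers_le]; exact h
    exact this hu

theorem trW_zpowers {p : ℕ} [Fact p.Prime] [CharP k p] {x : G} (hx : orderOf x = p) :
    trW k W (Subgroup.zpowers x) = LinearMap.range (Lm W ((of x : GA k G) - 1) ^ (p - 1)) := by
  ext w
  rw [mem_trW, LinearMap.mem_range, ← Lm_pow, sm_eq_pow hx]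
  rfl

/-- averaging over a `p'`-group normalising `P` -/
theorem exists_avg {P H : Subgroup G} [Fintype H] (hH : H ≤ Nn P) (hHk : ((Nat.card H : ℕ) : k) ≠ 0)
    (ρ : Module.End k W) (hρ : ∀ u ∈ P, ∀ w, ρ ((of u : GA k G) • w) = (of u : GA k G) • ρ w) :
    ∃ σ : Module.End k W, (∀ u ∈ P, ∀ w, σ ((of u : GA k G) • w) = (of u : GA k G) • σ w) ∧
      (∀ h ∈ H, ∀ w, σ ((of h : GA k G) • w) = (of h : GA k G) • σ w) ∧
      ∀ w, σ w = ((Nat.card H : ℕ) : k)⁻¹ •
        ∑ h : H, (of (h : G) : GA k G) • ρ ((of (h : G)⁻¹ : GA k G) • w) := by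
  refine ⟨((Nat.card H : ℕ) : k)⁻¹ • ∑ h : H, Lm W (of (h : G)) * ρ * Lm W (of (h : G)⁻¹), ?_⟩
  have hform : ∀ w, ((((Nat.card H : ℕ) : k)⁻¹ •
      ∑ h : H, Lm W (of (h : G)) * ρ * Lm W (of (h : G)⁻¹) : Module.End k W)) w = ((Nat.card H : ℕ) : k)⁻¹ •
        ∑ h : H, (of (h : G) : GA k G) • ρ ((of (h : G)⁻¹ : GA k G) • w) := by
    intro w
    rw [LinearMap.smul_apply, LinearMap.sum_apply]
    rfl
  refine ⟨?_, ?_, hform⟩
  · intro u hu w
    rw [hform, hform, smul_comm (of u : GA k G) (((Nat.card H : ℕ) : k)⁻¹)]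
    congr 1
    rw [Finset.smul_sum]
    refine Finset.sum_congr rfl (fun h _ => ?_)
    have h1 : (h : G)⁻¹ * u * h ∈ P := by
      have := (Subgroup.mem_normalizer_iff.1 (Subgroup.inv_mem _ (hH h.2)) u).1 hu
      simpa using this
    have e1 : (h : G)⁻¹ * u = ((h : G)⁻¹ * u * h) * (h : G)⁻¹ := by group
    have e2 : (h : G) * ((h : G)⁻¹ * u * h) = u * h := by group
    rw [of_smul_of_smul, e1, ← of_smul_of_smul, hρ _ h1, of_smul_of_smul, e2, of_smul_of_smul]
  · intro h₀ hh₀ w
    rw [hform, hform, smul_comm (of h₀ : GA k G) (((Nat.card H : ℕ) : k)⁻¹)]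
    congr 1
    rw [Finset.smul_sum]
    refine Fintype.sum_equiv (Equiv.mulLeft (⟨h₀, hh₀⟩ : H)⁻¹) _ _ (fun h => ?_)
    simp only [Equiv.coe_mulLeft, Subgroup.coe_mul, Subgroup.coe_inv, mul_inv_rev, inv_inv]
    rw [of_smul_of_smul, of_smul_of_smul, ← mul_assoc, mul_inv_cancel, one_mul]

end modules

end GA

end Cfsg.Agent.Lib.Helper80
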