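import Mathlib
import Cfsg.Agent.Lib.Helper80.MTSimple

set_option autoImplicit false
set_option linter.unusedSectionVars false

namespace Cfsg.Agent.Lib.Helper80

open scoped BigOperators

namespace GA

variable {k : Type*} {G : Type*} [Field k] [Group G] [Fintype G]
variable {W : Type*} [AddCommGroup W] [Module (GA k G) W] [Module k W]
  [IsScalarTower k (GA k G) W]

/-- If all `N`-endomorphisms act as scalars on `W^P / Tr W` then this quotient is a simple
module for the complement `H`. -/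
theorem eq_fixW_of_stable {p : ℕ} [hp : Fact p.Prime] [CharP k p] {x : G} (hx : orderOf x = p)
    {H : Subgroup G} (hH : H ≤ Nn (Subgroup.zpowers x)) (hHk : ((Nat.card H : ℕ) : k) ≠ 0)
    (hsc : ∀ a : Module.End k W,
      (∀ u ∈ Subgroup.zpowers x, ∀ w, a ((of u : GA k G) • w) = (of u : GA k G) • a w) →
      (∀ h ∈ H, ∀ w, a ((of h : GA k G) • w) = (of h : GA k G) • a w) →
      ∃ c : k, ∀ w ∈ fixW k W (Subgroup.zpowers x), a w - c • w ∈ trW k W (Subgroup.zpowers x))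
    (Z : Submodule k W) (hZ1 : trW k W (Subgroup.zpowers x) ≤ Z)
    (hZ2 : Z ≤ fixW k W (Subgroup.zpowers x))
    (hZH : ∀ h ∈ H, ∀ w ∈ Z, (of h : GA k G) • w ∈ Z)
    (hZne : Z ≠ trW k W (Subgroup.zpowers x)) : Z = fixW k W (Subgroup.zpowers x) := by
  classical
  have : Fintype H := Fintype.ofFinite H
  obtain ⟨y, hy⟩ : ∃ y, y = Lm W ((of x : GA k G) - 1) := ⟨_, rfl⟩
  obtain ⟨T, hT⟩ : ∃ T, T = trW k W (Subgroup.zpowers x) := ⟨_, rfl⟩
  obtain ⟨F, hF⟩ : ∃ F, F = fixW k W (Subgroup.zpowers x) := ⟨_, rfl⟩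
  rw [← hT] at hZ1 hZne hsc
  rw [← hF] at hZ2 hsc ⊢
  have hfix : F = LinearMap.ker y := by rw [hF, hy]; exact fixW_zpowers x
  have htr : T = LinearMap.range (y ^ (p - 1)) := by rw [hT, hy]; exact trW_zpowers hx
  have hTH : ∀ h ∈ H, ∀ w ∈ T, (of h : GA k G) • w ∈ T := by
    intro h hh w hw
    rw [hT] at hw ⊢
    exact of_smul_mem_trW (hH hh) hw
  have hRanti : ∀ i j, i ≤ j → LinearMap.range (y ^ j) ≤ LinearMap.range (y ^ i) := by
    rintro i j hij w ⟨v, rfl⟩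
    refine ⟨(y ^ (j - i)) v, ?_⟩
    rw [← Module.End.mul_apply, ← pow_add, Nat.add_sub_cancel' hij]
  have hRH : ∀ h ∈ H, ∀ i, ∀ w ∈ LinearMap.range (y ^ i),
      (of h : GA k G) • w ∈ LinearMap.range (y ^ i) := by
    rintro h hh i w ⟨v, rfl⟩
    obtain ⟨d, hd⟩ := of_mul_sub_one_pow (k := k) (hH hh) i
    refine ⟨d • v, ?_⟩
    rw [hy, ← Lm_pow, Lm_apply, Lm_apply, ← mul_smul, ← mul_smul, hd]
  obtain ⟨Pr, hPr⟩ : ∃ Pr : ℕ → Prop, Pr = fun i => Z ⊓ LinearMap.range (y ^ i) ≠ T := ⟨_, rfl⟩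
  have hP0 : Pr 0 := by
    rw [hPr]
    show Z ⊓ LinearMap.range (y ^ 0) ≠ T
    rw [pow_zero]
    have : LinearMap.range (1 : Module.End k W) = ⊤ := LinearMap.range_id
    rw [this, inf_top_eq]
    exact hZne
  obtain ⟨i₀, hi₀⟩ : ∃ i₀, i₀ = Nat.findGreatest Pr (p - 1) := ⟨_, rfl⟩
  have hspec : Pr i₀ := by rw [hi₀]; exact Nat.findGreatest_spec (Nat.zero_le _) hP0
  have hle : i₀ ≤ p - 1 := by rw [hi₀]; exact Nat.findGreatest_le _
  have hnot : ¬ Pr (p - 1) := by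
    rw [hPr]
    show ¬ (Z ⊓ LinearMap.range (y ^ (p - 1)) ≠ T)
    rw [← htr, not_not]
    exact inf_eq_right.2 hZ1
  have hlt : i₀ + 1 ≤ p - 1 := by
    rcases Nat.lt_or_ge i₀ (p - 1) with h | h
    · exact h
    · exfalso
      have : i₀ = p - 1 := le_antisymm hle h
      rw [this] at hspec
      exact hnot hspec
  have hnext : Z ⊓ LinearMap.range (y ^ (i₀ + 1)) = T := by
    have h : ¬ Pr (i₀ + 1) := by
      apply Nat.findGreatest_is_greatest (n := p - 1) _ hlt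
      rw [← hi₀]; exact Nat.lt_succ_self _
    rw [hPr] at h
    exact not_not.1 h
  rw [hPr] at hspec
  replace hspec : Z ⊓ LinearMap.range (y ^ i₀) ≠ T := hspec
  obtain ⟨Z', hZ'⟩ : ∃ Z', Z' = Z ⊓ LinearMap.range (y ^ i₀) := ⟨_, rfl⟩
  rw [← hZ'] at hspec
  have hTZ' : T ≤ Z' := by
    rw [hZ']
    refine le_inf hZ1 ?_
    rw [htr]; exact hRanti _ _ hle
  have hZ'H : ∀ h ∈ H, ∀ w ∈ Z', (of h : GA k G) • w ∈ Z' := by
    intro h hh w hw
    rw [hZ'] at hw ⊢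
    exact ⟨hZH h hh w hw.1, hRH h hh _ w hw.2⟩
  obtain ⟨C, hC⟩ := Submodule.exists_isCompl T
  obtain ⟨Z'', hZ''⟩ : ∃ Z'', Z'' = Z' ⊓ C := ⟨_, rfl⟩
  have hdec : ∀ z ∈ Z', ∃ t ∈ T, ∃ z' ∈ Z'', z = t + z' := by
    intro z hz
    have : z ∈ T ⊔ C := by rw [hC.sup_eq_top]; exact Submodule.mem_top
    obtain ⟨t, ht, c, hc, rfl⟩ := Submodule.mem_sup.1 this
    refine ⟨t, ht, c, ?_, rfl⟩
    rw [hZ'']
    refine ⟨?_, hc⟩
    have := Z'.sub_mem hz (hTZ' ht)
    simpa using this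
  have hdisj : Disjoint Z'' (LinearMap.range (y ^ (i₀ + 1))) := by
    rw [Submodule.disjoint_def]
    intro w hw hwR
    rw [hZ'', hZ'] at hw
    have h1 : w ∈ T := by rw [← hnext]; exact ⟨hw.1.1, hwR⟩
    have h2 : w ∈ T ⊓ C := ⟨h1, hw.2⟩
    rwa [hC.inf_eq_bot, Submodule.mem_bot] at h2
  have hZ''ker : Z'' ≤ LinearMap.ker y := by
    intro w hw
    rw [hZ'', hZ'] at hw
    rw [← hfix]; exact hZ2 hw.1.1
  have hZ''R : Z'' ≤ LinearMap.range (y ^ i₀) := by
    intro w hw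
    rw [hZ'', hZ'] at hw
    exact hw.1.2
  have hZ''Z' : Z'' ≤ Z' := by rw [hZ'']; exact inf_le_left
  obtain ⟨ρ, hρc, hρ1, hρ2, hρ3⟩ := exists_commuting_proj y i₀ Z'' hZ''ker hZ''R hdisj
  have hρx : ∀ w, ρ ((of x : GA k G) • w) = (of x : GA k G) • ρ w := by
    intro w
    have h1 : ρ (y w) = y (ρ w) := by
      have := congrArg (fun f : Module.End k W => f w) hρc.eq
      exact this
    rw [hy, Lm_apply, Lm_apply, sub_smul, sub_smul, one_smul, one_smul, map_sub] at h1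
    exact sub_left_injective h1
  have hρP : ∀ u ∈ Subgroup.zpowers x, ∀ w, ρ ((of u : GA k G) • w) = (of u : GA k G) • ρ w := by
    intro u hu
    have : Subgroup.zpowers x ≤ commSub (k := k) ρ := by
      rw [Subgroup.zpowers_le]; exact hρx
    exact this hu
  obtain ⟨σ, hσP, hσH, hσ⟩ := exists_avg hH hHk ρ hρP
  obtain ⟨c, hc⟩ := hsc σ hσP hσH
  have hFH : ∀ h ∈ H, ∀ w ∈ F, (of h : GA k G) • w ∈ F := by
    intro h hh w hw
    rw [hF] at hw ⊢
    exact of_smul_mem_fixW (hH hh) hw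
  -- σ maps F into Z'
  have hσ1 : ∀ w ∈ F, σ w ∈ Z' := by
    intro w hw
    rw [hσ]
    refine Z'.smul_mem _ (Z'.sum_mem (fun h _ => ?_))
    apply hZ'H h h.2
    apply hZ''Z'
    apply hρ1
    rw [← hfix]
    exact hFH _ (H.inv_mem h.2) w hw
  -- σ is the identity on Z' modulo T
  have hσ2 : ∀ w ∈ Z', σ w - w ∈ T := by
    intro w hw
    have hterm : ∀ h : H, (of (h : G) : GA k G) • ρ ((of (h : G)⁻¹ : GA k G) • w) - w ∈ T := by
      intro h
      obtain ⟨t, ht, z', hz', he⟩ := hdec _ (hZ'H _ (H.inv_mem h.2) w hw)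
      have ht0 : ρ t = 0 := by
        apply hρ3
        · rw [← hfix]; exact hZ2 (hZ1 ht)
        · have : t ∈ LinearMap.range (y ^ (p - 1)) := by rw [← htr]; exact ht
          exact hRanti _ _ hlt this
      rw [he, map_add, ht0, zero_add, hρ2 z' hz']
      have e1 : z' = (of (h : G)⁻¹ : GA k G) • w - t := by rw [he]; abel
      rw [e1, smul_sub, of_smul_of_inv_smul]
      have : w - (of (h : G) : GA k G) • t - w = -((of (h : G) : GA k G) • t) := by abel
      rw [this]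
      exact T.neg_mem (hTH h h.2 t ht)
    rw [hσ]
    have e : ((Nat.card H : ℕ) : k)⁻¹ •
        ∑ h : H, (of (h : G) : GA k G) • ρ ((of (h : G)⁻¹ : GA k G) • w) - w
        = ((Nat.card H : ℕ) : k)⁻¹ •
          ∑ h : H, ((of (h : G) : GA k G) • ρ ((of (h : G)⁻¹ : GA k G) • w) - w) := by
      rw [Finset.sum_sub_distrib, smul_sub, Finset.sum_const, Finset.card_univ,
        ← Nat.card_eq_fintype_card, ← Nat.cast_smul_eq_nsmul k, smul_smul, inv_mul_cancel₀ hHk,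
        one_smul]
    rw [e]
    exact T.smul_mem _ (T.sum_mem (fun h _ => hterm h))
  -- the scalar is one
  obtain ⟨w₀, hw₀, hw₀T⟩ : ∃ w₀ ∈ Z', w₀ ∉ T := by
    by_contra hcon
    push Not at hcon
    exact hspec (le_antisymm hcon hTZ')
  have hZ'F : Z' ≤ F := by rw [hZ']; exact inf_le_left.trans hZ2
  have hc1 : c = 1 := by
    by_contra hne
    have h1 := hc w₀ (hZ'F hw₀)
    have h2 := hσ2 w₀ hw₀
    have h3 : (1 - c) • w₀ ∈ T := by
      have := T.sub_mem h1 h2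
      have e : σ w₀ - c • w₀ - (σ w₀ - w₀) = (1 - c) • w₀ := by
        rw [sub_smul, one_smul]; abel
      rwa [e] at this
    have h4 : (1 - c) ≠ 0 := sub_ne_zero.2 (Ne.symm hne)
    have := T.smul_mem (1 - c)⁻¹ h3
    rw [smul_smul, inv_mul_cancel₀ h4, one_smul] at this
    exact hw₀T this
  apply le_antisymm hZ2
  intro w hw
  have h1 := hc w hw
  rw [hc1, one_smul] at h1
  have h2 : σ w ∈ Z := by
    have := hσ1 w hw
    rw [hZ'] at this
    exact this.1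
  have : w = σ w - (σ w - w) := by abel
  rw [this]
  exact Z.sub_mem h2 (hZ1 h1)

end GA

end Cfsg.Agent.Lib.Helper80
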