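import Mathlib
import Cfsg.Agent.Lib.Helper80.MTSimple2

set_option autoImplicit false
set_option linter.unusedSectionVars false

namespace Cfsg.Agent.Lib.Helper80

open scoped BigOperators

namespace GA

variable {k : Type*} {G : Type*} [Field k] [Group G] [Fintype G]
variable {W : Type*} [AddCommGroup W] [Module (GA k G) W] [Module k W]
  [IsScalarTower k (GA k G) W]

/-- **Green correspondence for endomorphisms** (`P` a Sylow subgroup of order `p`): on a simple
module every `N_G(P)`-endomorphism acts on `W^P / Tr W` as a scalar. -/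
theorem endo_scalar [IsAlgClosed k] [Module.Finite k W] [IsSimpleModule (GA k G) W]
    {p : ℕ} [hp : Fact p.Prime] [CharP k p] {P : Subgroup G} (hP : Nat.card P = p)
    (hSyl : ¬ p ∣ P.index) (a : Module.End k W)
    (ha : ∀ n ∈ Nn P, ∀ w, a ((of n : GA k G) • w) = (of n : GA k G) • a w) :
    ∃ c : k, ∀ w ∈ fixW k W P, a w - c • w ∈ trW k W P := by
  classical
  have : Fintype (G ⧸ P) := Fintype.ofFinite _
  obtain ⟨F, hFdef⟩ : ∃ F : G ⧸ P → Module.End k W,
      F = fun q => Lm W (of q.out) * a * Lm W (of q.out⁻¹) := ⟨_, rfl⟩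
  have hF : ∀ (g : G) (w : W), F (g : G ⧸ P) w = (of g : GA k G) • a ((of g⁻¹ : GA k G) • w) := by
    intro g w
    obtain ⟨u, hu⟩ := QuotientGroup.mk_out_eq_mul P g
    rw [hFdef]
    show (of (g : G ⧸ P).out : GA k G) • a ((of (g : G ⧸ P).out⁻¹ : GA k G) • w) = _
    rw [hu, mul_inv_rev, ← of_smul_of_smul (u : G)⁻¹, ha _ (Subgroup.le_normalizer (P.inv_mem u.2)),
      of_smul_of_smul, mul_assoc, mul_inv_cancel, mul_one]
  have hFg : ∀ (g : G) (q : G ⧸ P) (w : W),
      F (g • q) ((of g : GA k G) • w) = (of g : GA k G) • F q w := by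
    intro g q w
    induction q using QuotientGroup.induction_on with
    | H x =>
      rw [MulAction.Quotient.smul_coe, hF, hF, smul_eq_mul, mul_inv_rev, of_smul_of_smul, mul_assoc,
        inv_mul_cancel, mul_one, of_smul_of_smul]
  have hTr : ∀ (g : G) (w : W), (∑ q, F q) ((of g : GA k G) • w) = (of g : GA k G) • (∑ q, F q) w := by
    intro g w
    rw [LinearMap.sum_apply, LinearMap.sum_apply, Finset.smul_sum]
    symm
    refine Fintype.sum_equiv (MulAction.toPerm g) _ _ (fun q => ?_)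
    rw [MulAction.toPerm_apply, hFg]
  obtain ⟨c', hc'⟩ := schur _ hTr
  obtain ⟨m, hm⟩ : ∃ m : ℕ, m = (Finset.univ.filter
      (fun q : G ⧸ P => ∀ u : P, (u : G) • q = q)).card := ⟨_, rfl⟩
  have hPg : IsPGroup p P := IsPGroup.of_card (n := 1) (by rw [hP, pow_one])
  have hmk : (m : k) ≠ 0 := by
    have h := sum_eq_sum_fixed (p := p) (S := P) (Y := G ⧸ P) (k := k) hPg
      (fun u q => (u : G) • q) (fun q => by simp) (fun a b q => by
        show ((a * b : P) : G) • q = (a : G) • ((b : G) • q)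
        rw [Subgroup.coe_mul, mul_smul]) Finset.univ (fun _ _ _ => Finset.mem_univ _)
      (fun _ => (1 : k)) (fun _ _ _ => rfl)
    simp only [Finset.sum_const, nsmul_eq_mul, mul_one] at h
    rw [hm, ← h, Finset.card_univ, ← Nat.card_eq_fintype_card]
    intro h0
    rw [CharP.cast_eq_zero_iff k p] at h0
    exact hSyl h0
  refine ⟨c' * (m : k)⁻¹, ?_⟩
  intro w hw
  have hE := sum_sub_sum_fixed_mem (k := k) (W := W) hP (fun (u : P) (q : G ⧸ P) => (u : G) • q)
    (fun q => by simp) (fun a b q => by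
        show ((a * b : P) : G) • q = (a : G) • ((b : G) • q)
        rw [Subgroup.coe_mul, mul_smul]) (fun q => F q w) Finset.univ
    (fun _ _ _ => Finset.mem_univ _) (fun u q _ => by
      show F ((u : G) • q) w = _
      conv_lhs => rw [← hw u u.2]
      exact hFg u q w)
  have hfixed : ∑ q ∈ Finset.univ.filter (fun q : G ⧸ P => ∀ u : P, (u : G) • q = q), F q w
      = (m : k) • a w := by
    rw [hm, Nat.cast_smul_eq_nsmul, ← Finset.sum_const]
    refine Finset.sum_congr rfl (fun q hq => ?_)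
    have hq' := (Finset.mem_filter.1 hq).2
    induction q using QuotientGroup.induction_on with
    | H g =>
      have hg : g ∈ Nn P := by
        rw [← Sylow.mem_fixedPoints_mul_left_cosets_iff_mem_normalizer]
        intro u
        exact hq' u
      rw [hF, ha _ (Subgroup.inv_mem _ hg), of_smul_of_inv_smul]
  rw [hfixed, ← LinearMap.sum_apply, hc'] at hE
  have h2 := (trW k W P).smul_mem (-(m : k)⁻¹) hE
  have e : (-(m : k)⁻¹) • (c' • w - (m : k) • a w) = a w - (c' * (m : k)⁻¹) • w := by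
    rw [smul_sub, smul_smul, smul_smul, neg_mul, neg_mul, inv_mul_cancel₀ hmk, neg_smul, neg_smul,
      one_smul, mul_comm]
    abel
  rwa [e] at h2

/-- `W^P / Tr W` is a simple module for a complement `H` of `P` in `N_G(P)`, `W` simple. -/
theorem eq_fixW_of_simple [IsAlgClosed k] [Module.Finite k W] [IsSimpleModule (GA k G) W]
    {p : ℕ} [hp : Fact p.Prime] [CharP k p] {P H : Subgroup G} (hP : Nat.card P = p)
    (hSyl : ¬ p ∣ P.index) (hH : H ≤ Nn P) (hN : ∀ n ∈ Nn P, ∃ u ∈ P, ∃ h ∈ H, n = u * h)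
    (hHk : ((Nat.card H : ℕ) : k) ≠ 0)
    (Z : Submodule k W) (hZ1 : trW k W P ≤ Z) (hZ2 : Z ≤ fixW k W P)
    (hZH : ∀ h ∈ H, ∀ w ∈ Z, (of h : GA k G) • w ∈ Z) (hZne : Z ≠ trW k W P) :
    Z = fixW k W P := by
  have hcyc : IsCyclic P := isCyclic_of_prime_card hP
  obtain ⟨⟨x, hxP⟩, hgen⟩ := hcyc.exists_generator
  have hPx : P = Subgroup.zpowers x := by
    apply le_antisymm
    · intro u hu
      obtain ⟨n, hn⟩ := Subgroup.mem_zpowers_iff.1 (hgen ⟨u, hu⟩)
      rw [Subgroup.mem_zpowers_iff]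
      exact ⟨n, by simpa using congrArg Subtype.val hn⟩
    · rw [Subgroup.zpowers_le]; exact hxP
  subst hPx
  have hx : orderOf x = p := by rw [← hP, Nat.card_zpowers]
  refine eq_fixW_of_stable hx hH hHk ?_ Z hZ1 hZ2 hZH hZne
  intro a haP haH
  apply endo_scalar hP hSyl a
  intro n hn w
  obtain ⟨u, hu, h, hh, rfl⟩ := hN n hn
  rw [← of_smul_of_smul, haP u hu, haH h hh, of_smul_of_smul]

/-- "`ε` acts as zero on `W^P / Tr W`" -/
def TZ (P : Subgroup G) (ε : GA k G) (W : Type*) [AddCommGroup W] [Module (GA k G) W] [Module k W]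
    [IsScalarTower k (GA k G) W] : Prop := ∀ w ∈ fixW k W P, ε • w ∈ trW k W P

/-- two orthogonal central idempotents of `kH` cannot both act non-trivially -/
theorem TZ_of_orthogonal [IsAlgClosed k] [Module.Finite k W] [IsSimpleModule (GA k G) W]
    {p : ℕ} [hp : Fact p.Prime] [CharP k p] {P H : Subgroup G} (hP : Nat.card P = p)
    (hSyl : ¬ p ∣ P.index) (hH : H ≤ Nn P) (hN : ∀ n ∈ Nn P, ∃ u ∈ P, ∃ h ∈ H, n = u * h)
    (hHk : ((Nat.card H : ℕ) : k) ≠ 0) {ε ε' : GA k G} (hε : InZ H ε) (hε' : InZ H ε')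
    (horth : ε' * ε = 0) (hne : ¬ TZ P ε W) : TZ P ε' W := by
  obtain ⟨Z, hZ⟩ : ∃ Z : Submodule k W,
      Z = (fixW k W P).map (Lm W ε) ⊔ trW k W P := ⟨_, rfl⟩
  have hZeq : Z = fixW k W P := by
    apply eq_fixW_of_simple hP hSyl hH hN hHk Z
    · rw [hZ]; exact le_sup_right
    · rw [hZ]
      refine sup_le ?_ (trW_le_fixW P)
      rintro _ ⟨w, hw, rfl⟩
      exact hε.1.smul_mem_fixW hH hw
    · intro h hh w hw
      rw [hZ] at hw ⊢
      obtain ⟨w1, hw1, w2, hw2, rfl⟩ := Submodule.mem_sup.1 hw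
      obtain ⟨v, hv, rfl⟩ := hw1
      rw [smul_add]
      refine Submodule.add_mem _ (Submodule.mem_sup_left ?_)
        (Submodule.mem_sup_right (of_smul_mem_trW (hH hh) hw2))
      refine ⟨(of h : GA k G) • v, of_smul_mem_fixW (hH hh) hv, ?_⟩
      rw [Lm_apply, Lm_apply, ← mul_smul, ← mul_smul, hε.2.commute_of hh]
    · intro h
      apply hne
      intro w hw
      rw [← h, hZ]
      exact Submodule.mem_sup_left ⟨w, hw, rfl⟩
  intro w hw
  rw [← hZeq, hZ] at hw
  obtain ⟨w1, hw1, w2, hw2, rfl⟩ := Submodule.mem_sup.1 hw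
  obtain ⟨v, hv, rfl⟩ := hw1
  rw [smul_add, Lm_apply, ← mul_smul, horth, zero_smul, zero_add]
  exact hε'.1.smul_mem_trW hH hw2

end GA

end Cfsg.Agent.Lib.Helper80
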