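import Mathlib
import Cfsg.Agent.Lib.Helper80.MTSimple3

set_option autoImplicit false
set_option linter.unusedSectionVars false

universe u

namespace Cfsg.Agent.Lib.Helper80

open scoped BigOperators

namespace GA

variable {k : Type*} {G : Type*} [Field k] [Group G] [Fintype G]

theorem SuppOn.commute_sm {P H : Subgroup G} (hH : H ≤ Nn P) {a : GA k G} (ha : SuppOn H a) :
    a * sm P = sm P * a := by
  conv_lhs => rw [eq_sum_of a]
  conv_rhs => rw [eq_sum_of a]
  rw [Finset.mul_sum, Finset.sum_mul]
  refine Finset.sum_congr rfl (fun g _ => ?_)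
  by_cases hg : g ∈ H
  · rw [mul_smul_comm, smul_mul_assoc, of_mul_sm_comm (hH hg)]
  · rw [ha g hg, zero_smul, mul_zero, zero_mul]

section modules

variable {W : Type*} [AddCommGroup W] [Module (GA k G) W] [Module k W]
  [IsScalarTower k (GA k G) W]

/-- the functor `W ↦ W^P / Tr W` is exact in the middle -/
theorem TZ_of_sub_quot {P H : Subgroup G} (hH : H ≤ Nn P) {ε : GA k G} (hε : SuppOn H ε)
    (hidem : ε * ε = ε) (W' : Submodule (GA k G) W) (h1 : TZ P ε W') (h2 : TZ P ε (W ⧸ W')) :
    TZ P ε W := by
  intro w hw
  have hq : (Submodule.Quotient.mk w : W ⧸ W') ∈ fixW k (W ⧸ W') P := by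
    intro u hu
    rw [← Submodule.Quotient.mk_smul, hw u hu]
  obtain ⟨vq, hvq⟩ := h2 _ hq
  obtain ⟨v, rfl⟩ := Submodule.Quotient.mk_surjective W' vq
  have hw' : ε • w - (sm P : GA k G) • v ∈ W' := by
    rw [← Submodule.Quotient.mk_eq_zero, Submodule.Quotient.mk_sub, Submodule.Quotient.mk_smul,
      Submodule.Quotient.mk_smul, hvq, sub_self]
  have hfix : (⟨_, hw'⟩ : W') ∈ fixW k W' P := by
    intro u hu
    apply Subtype.ext
    show (of u : GA k G) • (ε • w - (sm P : GA k G) • v) = ε • w - (sm P : GA k G) • v
    have a1 := hε.smul_mem_fixW hH hw u hu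
    have a2 := trW_le_fixW P (sm_smul_mem_trW (k := k) P v) u hu
    rw [smul_sub, a1, a2]
  obtain ⟨v', hv'⟩ := h1 _ hfix
  have e1 : (sm P : GA k G) • (v' : W) = ε • (ε • w - (sm P : GA k G) • v) :=
    congrArg Subtype.val hv'
  rw [smul_sub, ← mul_smul, hidem, ← mul_smul, hε.commute_sm hH, mul_smul] at e1
  refine ⟨(v' : W) + ε • v, ?_⟩
  rw [smul_add, e1]; abel

theorem TZ_of_subsingleton [Subsingleton W] (P : Subgroup G) (ε : GA k G) : TZ P ε W := by
  intro w _
  rw [Subsingleton.elim (ε • w) 0]
  exact Submodule.zero_mem _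

theorem TZ_congr {W₂ : Type*} [AddCommGroup W₂] [Module (GA k G) W₂] [Module k W₂]
    [IsScalarTower k (GA k G) W₂] (f : W ≃ₗ[GA k G] W₂) {P : Subgroup G} {ε : GA k G}
    (h : TZ P ε W) : TZ P ε W₂ := by
  intro w hw
  have h1 : f.symm w ∈ fixW k W P := by
    intro u hu
    rw [← map_smul, hw u hu]
  obtain ⟨v, hv⟩ := h _ h1
  refine ⟨f v, ?_⟩
  rw [← map_smul, hv, map_smul, LinearEquiv.apply_symm_apply]

end modules

/-- every non-trivial action of `ε` is visible on a simple subquotient -/
theorem exists_simple_of_not_TZ {G : Type u} [Group G] [Fintype G] {P H : Subgroup G}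
    (hH : H ≤ Nn P) {ε : GA k G} (hε : SuppOn H ε) (hidem : ε * ε = ε) :
    ∀ (n : ℕ) (W : Type u) [AddCommGroup W] [Module (GA k G) W] [Module k W]
      [IsScalarTower k (GA k G) W] [Module.Finite k W], Module.finrank k W ≤ n → ¬ TZ P ε W →
      ∃ (S : Type u) (_ : AddCommGroup S) (_ : Module (GA k G) S) (_ : Module k S)
        (_ : IsScalarTower k (GA k G) S) (_ : Module.Finite k S),
        IsSimpleModule (GA k G) S ∧ ¬ TZ P ε S := by
  intro n
  induction n with
  | zero =>
    intro W _ _ _ _ _ hn hT
    exfalso
    have : Subsingleton W := Module.finrank_zero_iff.1 (Nat.le_zero.1 hn)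
    exact hT (TZ_of_subsingleton P ε)
  | succ n ih =>
    intro W _ _ _ _ _ hn hT
    by_cases hs : IsSimpleModule (GA k G) W
    · exact ⟨W, inferInstance, inferInstance, inferInstance, inferInstance, inferInstance, hs, hT⟩
    · have hnt : Nontrivial W := by
        by_contra h
        rw [not_nontrivial_iff_subsingleton] at h
        exact hT (TZ_of_subsingleton P ε)
      obtain ⟨W', hb, ht⟩ : ∃ W' : Submodule (GA k G) W, W' ≠ ⊥ ∧ W' ≠ ⊤ := by
        by_contra hcon
        push Not at hcon
        apply hs
        rw [isSimpleModule_iff]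
        exact { exists_pair_ne := ⟨⊥, ⊤, bot_ne_top⟩
                eq_bot_or_eq_top := fun a => by
                  by_cases ha : a = ⊥
                  · exact Or.inl ha
                  · exact Or.inr (hcon a ha) }
      have hfin1 : Module.Finite k W' :=
        Module.Finite.of_injective (W'.subtype.restrictScalars k) Subtype.val_injective
      have hfin2 : Module.Finite k (W ⧸ W') :=
        Module.Finite.of_surjective (W'.mkQ.restrictScalars k) (Submodule.mkQ_surjective W')
      have hsum : Module.finrank k (W ⧸ W') + Module.finrank k W' = Module.finrank k W :=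
        Submodule.finrank_quotient_add_finrank (W'.restrictScalars k)
      have hpos1 : 0 < Module.finrank k W' := by
        have : Nontrivial W' := Submodule.nontrivial_iff_ne_bot.2 hb
        exact Module.finrank_pos
      have hpos2 : 0 < Module.finrank k (W ⧸ W') := by
        have : Nontrivial (W ⧸ W') := Submodule.Quotient.nontrivial_iff.2 ht
        exact Module.finrank_pos
      by_cases h1 : TZ P ε W'
      · have h2 : ¬ TZ P ε (W ⧸ W') := fun h2 => hT (TZ_of_sub_quot hH hε hidem W' h1 h2)
        exact ih (W ⧸ W') (by omega) h2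
      · exact ih W' (by omega) h1

/-- the left ideal of right-`P`-invariant elements (the permutation module on `G/P`) -/
def rInv (k : Type*) [Field k] {G : Type*} [Group G] [Fintype G] (P : Subgroup G) :
    Submodule (GA k G) (GA k G) where
  carrier := {a | ∀ u ∈ P, a * of u = a}
  add_mem' := by
    intro a b ha hb u hu
    rw [add_mul, ha u hu, hb u hu]
  zero_mem' := fun u _ => zero_mul _
  smul_mem' := by
    intro c a ha u hu
    rw [smul_eq_mul, mul_assoc, ha u hu]

theorem not_TZ_rInv {p : ℕ} [Fact p.Prime] [CharP k p] {P H : Subgroup G} (hP : Nat.card P = p)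
    (hH : H ≤ Nn P) (hPH : ∀ g, g ∈ P → g ∈ H → g = 1) {ε : GA k G} (hε : SuppOn H ε)
    (hne : ε ≠ 0) : ¬ TZ P ε (rInv k P) := by
  classical
  have : Fintype P := Fintype.ofFinite P
  intro hT
  have hmem : (sm P : GA k G) ∈ rInv k P := fun u hu => sm_mul_of hu
  have hfix : (⟨sm P, hmem⟩ : rInv k P) ∈ fixW k (rInv k P) P := by
    intro u hu
    apply Subtype.ext
    show (of u : GA k G) * sm P = sm P
    exact of_mul_sm hu
  obtain ⟨⟨a, ha⟩, hv⟩ := hT _ hfix
  have e1 : (sm P : GA k G) * a = ε * sm P := congrArg Subtype.val hv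
  apply hne
  ext h
  by_cases hh : h ∈ H
  · have l1 : (ε * sm P : GA k G) h = ε h := by
      rw [mul_apply, Finset.sum_eq_single h]
      · rw [inv_mul_cancel, sm_apply_mem P.one_mem, mul_one]
      · intro x _ hx
        by_cases hxH : x ∈ H
        · rw [sm_apply_not_mem, mul_zero]
          intro hxP
          apply hx
          have := hPH _ hxP (H.mul_mem (H.inv_mem hxH) hh)
          exact (inv_mul_eq_one.1 this)
        · rw [hε x hxH, zero_mul]
      · intro h'; exact absurd (Finset.mem_univ _) h'
    have l2 : (sm P * a : GA k G) h = 0 := by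
      have hterm : ∀ x : G, (sm P : GA k G) x * a (x⁻¹ * h) = (sm P : GA k G) x * a h := by
        intro x
        by_cases hx : x ∈ P
        · have h1 : h⁻¹ * x * h ∈ P := by
            have := (Subgroup.mem_normalizer_iff.1 (Subgroup.inv_mem _ (hH hh)) x).1 hx
            simpa using this
          have h2 := congrArg (fun c : GA k G => c h) (ha _ h1)
          simp only [mul_of_apply] at h2
          have h3 : h * (h⁻¹ * x * h)⁻¹ = x⁻¹ * h := by group
          rw [h3] at h2
          rw [h2]
        · rw [sm_apply_not_mem hx, zero_mul, zero_mul]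
      rw [mul_apply, Finset.sum_congr rfl (fun x _ => hterm x),
        (Finset.sum_mul Finset.univ (fun x => (sm P : GA k G) x) (a h)).symm]
      have hs : ∑ x, (sm P : GA k G) x = 0 := by
        have : ∑ x, (sm P : GA k G) x = ∑ x ∈ Finset.univ.filter (fun g => g ∈ P), (1 : k) := by
          rw [Finset.sum_filter]
          refine Finset.sum_congr rfl (fun x _ => ?_)
          split_ifs with hx
          · exact sm_apply_mem hx
          · exact sm_apply_not_mem hx
        rw [this, Finset.sum_const, nsmul_eq_mul, mul_one]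
        have hc : (Finset.univ.filter (fun g => g ∈ P)).card = p := by
          rw [← hP, Nat.card_eq_fintype_card, Fintype.card_subtype]
        rw [hc]
        exact CharP.cast_eq_zero k p
      rw [hs, zero_mul]
    rw [← l1, ← e1, l2]; rfl
  · exact hε h hh

section modules2

variable {W : Type*} [AddCommGroup W] [Module (GA k G) W] [Module k W]
  [IsScalarTower k (GA k G) W]

/-- block membership is detected by the Brauer map -/
theorem smul_eq_self_of_not_TZ [IsSimpleModule (GA k G) W] {p : ℕ} [Fact p.Prime]
    {P H : Subgroup G} (hP : Nat.card P = p) (hH : H ≤ Nn P) {ε e : GA k G} (hε : SuppOn H ε)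
    (he : InZ ⊤ e) (hee : e * e = e) (hεe : ε * br P e = ε) (hne : ¬ TZ P ε W) :
    ∀ w : W, e • w = w := by
  have hcomm : ∀ a : GA k G, a * e = e * a := fun a =>
    commute_of_suppOn_fixBy (H := ⊤) (fun g hg => absurd (Subgroup.mem_top g) hg) he.2
  let E : Submodule (GA k G) W :=
    { carrier := {w | e • w = w}
      add_mem' := by
        intro a b ha hb
        show e • (a + b) = a + b
        rw [smul_add, ha, hb]
      zero_mem' := smul_zero _
      smul_mem' := by
        intro c w hw
        show e • (c • w) = c • w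
        have hw' : e • w = w := hw
        rw [← mul_smul, ← hcomm, mul_smul, hw'] }
  rcases eq_bot_or_eq_top E with h | h
  · exfalso
    apply hne
    have h0 : ∀ w : W, e • w = 0 := by
      intro w
      have : e • w ∈ E := by
        show e • (e • w) = e • w
        rw [← mul_smul, hee]
      rwa [h, Submodule.mem_bot] at this
    intro w hw
    have h1 := (fixBy_top_mono (H := P) he.2).smul_sub_br_smul_mem hP hw
    rw [h0, zero_sub] at h1
    have h2 : br P e • w ∈ trW k W P := by
      have := (trW k W P).neg_mem h1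
      rwa [neg_neg] at this
    rw [← hεe, mul_smul]
    exact hε.smul_mem_trW hH h2
  · intro w
    have : w ∈ E := by rw [h]; exact Submodule.mem_top
    exact this

end modules2

end GA

end Cfsg.Agent.Lib.Helper80
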