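import Mathlib
import Cfsg.Agent.Lib.Helper80.MTExist

set_option autoImplicit false
set_option linter.unusedSectionVars false

universe u

namespace Cfsg.Agent.Lib.Helper80

open scoped BigOperators

theorem isSemisimpleModule_prod {R M N : Type*} [Ring R] [AddCommGroup M] [AddCommGroup N]
    [Module R M] [Module R N] [IsSemisimpleModule R M] [IsSemisimpleModule R N] :
    IsSemisimpleModule R (M × N) := by
  have h1 : IsSemisimpleModule R (LinearMap.range (LinearMap.inl R M N)) :=
    IsSemisimpleModule.range _
  have h2 : IsSemisimpleModule R (LinearMap.range (LinearMap.inr R M N)) :=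
    IsSemisimpleModule.range _
  have h3 := IsSemisimpleModule.sup h1 h2
  rw [LinearMap.sup_range_inl_inr] at h3
  exact IsSemisimpleModule.congr (Submodule.topEquiv.symm)

namespace GA

variable {k : Type*} {G : Type*} [Field k] [Group G] [Fintype G]

section sep

variable {S S' : Type*} [AddCommGroup S] [Module (GA k G) S] [Module k S]
  [IsScalarTower k (GA k G) S] [AddCommGroup S'] [Module (GA k G) S'] [Module k S']
  [IsScalarTower k (GA k G) S']

/-- **Density**: non-isomorphic simple modules can be separated by an element of the algebra which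
acts on the first one as any prescribed linear map. -/
theorem exists_sep [IsAlgClosed k] [Module.Finite k S] [Module.Finite k S']
    [IsSimpleModule (GA k G) S] [IsSimpleModule (GA k G) S']
    (h : IsEmpty (S ≃ₗ[GA k G] S')) (φ : Module.End k S) :
    ∃ r : GA k G, (∀ w : S, r • w = φ w) ∧ ∀ w : S', r • w = 0 := by
  classical
  have hss : IsSemisimpleModule (GA k G) (S × S') := isSemisimpleModule_prod
  have h12 : ∀ f : S →ₗ[GA k G] S', f = 0 := by
    intro f
    rcases LinearMap.bijective_or_eq_zero f with hb | h0
    · exact (h.false (LinearEquiv.ofBijective f hb)).elim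
    · exact h0
  have h21 : ∀ f : S' →ₗ[GA k G] S, f = 0 := by
    intro f
    rcases LinearMap.bijective_or_eq_zero f with hb | h0
    · exact (h.false (LinearEquiv.ofBijective f hb).symm).elim
    · exact h0
  have h11 : ∀ f : S →ₗ[GA k G] S, ∃ c : k, ∀ w, f w = c • w := by
    intro f
    exact schur (f.restrictScalars k) (fun g w => f.map_smul _ _)
  let F : Module.End (Module.End (GA k G) (S × S')) (S × S') :=
    { toFun := fun m => (φ m.1, 0)
      map_add' := by
        intro a b
        ext
        · simp
        · simp
      map_smul' := by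
        intro T m
        obtain ⟨s, s'⟩ := m
        simp only [RingHom.id_apply, Module.End.smul_def]
        obtain ⟨c, hc⟩ := h11 ((LinearMap.fst _ S S') ∘ₗ T ∘ₗ (LinearMap.inl _ S S'))
        have a1 := h12 ((LinearMap.snd _ S S') ∘ₗ T ∘ₗ (LinearMap.inl _ S S'))
        have a2 := h21 ((LinearMap.fst _ S S') ∘ₗ T ∘ₗ (LinearMap.inr _ S S'))
        have b1 : ∀ w : S, (T (w, 0)).1 = c • w := hc
        have b2 : ∀ w : S, (T (w, 0)).2 = 0 := fun w => congrArg (fun f => f w) a1
        have b3 : ∀ w : S', (T (0, w)).1 = 0 := fun w => congrArg (fun f => f w) a2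
        have hsplit : T (s, s') = T (s, 0) + T (0, s') := by
          rw [← map_add]; simp
        ext
        · show φ (T (s, s')).1 = (T (φ s, 0)).1
          rw [hsplit, Prod.fst_add, b1, b3, add_zero, b1, map_smul]
        · show (0 : S') = (T (φ s, 0)).2
          rw [b2] }
  obtain ⟨B, hB⟩ := Module.Finite.fg_top (R := k) (M := S × S')
  obtain ⟨r, hr⟩ := jacobson_density F B
  have hall : ∀ m : S × S', F m = r • m := by
    intro m
    have hm : m ∈ Submodule.span k (B : Set (S × S')) := by rw [hB]; exact Submodule.mem_top
    induction hm using Submodule.span_induction with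
    | mem m hm => exact hr m hm
    | zero => simp
    | add a b _ _ ha hb => rw [map_add, ha, hb, smul_add]
    | smul c a _ ha =>
      have e : F (c • a) = c • F a := by
        show (φ (c • a).1, (0 : S')) = c • (φ a.1, (0 : S'))
        ext
        · simp
        · simp
      rw [e, ha, smul_comm]
  refine ⟨r, fun w => ?_, fun w => ?_⟩
  · have := congrArg Prod.fst (hall (w, 0))
    exact this.symm
  · have := congrArg Prod.snd (hall (0, w))
    exact this.symm

/-- an operator on a simple module with trace one -/
theorem exists_trace_one [Module.Finite k S] [IsSimpleModule (GA k G) S] :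
    ∃ φ : Module.End k S, LinearMap.trace k S φ = 1 := by
  have : Nontrivial S := IsSimpleModule.nontrivial (GA k G) S
  obtain ⟨v, hv⟩ := exists_ne (0 : S)
  obtain ⟨f, hf⟩ := Module.Projective.exists_dual_eq_one k hv
  exact ⟨f.smulRight v, by rw [LinearMap.trace_smulRight, hf]⟩

end sep

section trace

variable (W : Type*) [AddCommGroup W] [Module (GA k G) W] [Module k W]
  [IsScalarTower k (GA k G) W]

/-- the (modular) trace function of a module -/
noncomputable def trc (g : G) : k := LinearMap.trace k W (Lm W (of g))

variable {W}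

theorem Lm_mul (a b : GA k G) : Lm W (a * b) = Lm W a * Lm W b := map_mul _ _ _

theorem Lm_eq_sum (a : GA k G) : Lm W a = ∑ g, a g • Lm W (of g) := by
  conv_lhs => rw [eq_sum_of a]
  unfold Lm
  rw [map_sum]
  exact Finset.sum_congr rfl (fun g _ => map_smul _ _ _)

theorem trace_Lm (a : GA k G) : LinearMap.trace k W (Lm W a) = ∑ g, a g * trc W g := by
  rw [Lm_eq_sum, map_sum]
  exact Finset.sum_congr rfl (fun g _ => by rw [map_smul, smul_eq_mul]; rfl)

theorem trc_conj (x g : G) : (trc W (x * g * x⁻¹) : k) = trc W g := by
  unfold trc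
  rw [← of_mul_of, ← of_mul_of, Lm_mul, LinearMap.trace_mul_comm, ← Lm_mul, ← mul_assoc,
    of_inv_mul_of, one_mul]

/-- the trace function only depends on the `p'`-part -/
theorem trc_mul_of_pelt {p : ℕ} [Fact p.Prime] [CharP k p] {u s : G} (hc : Commute u s) {n : ℕ}
    (hu : orderOf u = p ^ n) : (trc W (u * s) : k) = trc W s := by
  have hnil : IsNilpotent (Lm W (((of u : GA k G) - 1) * of s)) := by
    have h1 : ((of u : GA k G) - 1) ^ p ^ n = 0 := of_sub_one_pow (by rw [← hu]; exact pow_orderOf_eq_one u)
    have hcomm : Commute ((of u : GA k G) - 1) (of s) := by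
      apply Commute.sub_left _ (Commute.one_left _)
      show of u * of s = of s * of u
      rw [of_mul_of, of_mul_of, hc.eq]
    refine ⟨p ^ n, ?_⟩
    rw [← Lm_pow, hcomm.mul_pow, h1, zero_mul]
    exact map_zero _
  have h0 := (LinearMap.isNilpotent_trace_of_isNilpotent hnil).eq_zero
  rw [sub_mul, one_mul, of_mul_of] at h0
  have h2 : Lm W ((of (u * s) : GA k G) - of s) = Lm W (of (u * s)) - Lm W (of s) := map_sub _ _ _
  rw [h2, map_sub, sub_eq_zero] at h0
  exact h0

/-- the trace function of a module on which the idempotent `e` acts as the identity -/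
theorem sum_mul_trc {e : GA k G} (he : ∀ w : W, e • w = w) (g : G) :
    ∑ h, e h * trc W (h * g) = trc W g := by
  have h1 : Lm W (e * of g) = Lm W (of g) := by
    ext w
    rw [Lm_apply, Lm_apply, mul_smul, he]
  have h2 := trace_Lm (W := W) (e * of g)
  rw [h1] at h2
  show _ = LinearMap.trace k W (Lm W (of g))
  rw [h2]
  refine Fintype.sum_equiv (Equiv.mulRight g) _ _ (fun h => ?_)
  rw [Equiv.coe_mulRight, mul_of_apply, mul_inv_cancel_right]

end trace

/-- bundled finite-dimensional simple modules -/
structure SMod (k : Type*) (G : Type u) [Field k] [Group G] [Fintype G] where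
  carrier : Type u
  [i1 : AddCommGroup carrier]
  [i2 : Module (GA k G) carrier]
  [i3 : Module k carrier]
  [i4 : IsScalarTower k (GA k G) carrier]
  [i5 : Module.Finite k carrier]
  [i6 : IsSimpleModule (GA k G) carrier]

attribute [instance] SMod.i1 SMod.i2 SMod.i3 SMod.i4 SMod.i5 SMod.i6

/-- the trace functions of pairwise non-isomorphic simple modules are linearly independent -/
theorem linearIndependent_trc {G : Type u} [Group G] [Fintype G] [IsAlgClosed k] {ι : Type*}
    [Fintype ι] (S : ι → SMod k G)
    (h : ∀ i j, i ≠ j → IsEmpty ((S i).carrier ≃ₗ[GA k G] (S j).carrier)) :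
    LinearIndependent k (fun i => (trc (S i).carrier : G → k)) := by
  classical
  rw [Fintype.linearIndependent_iff]
  intro c hc i₀
  have hJ : ∀ J : Finset ι, i₀ ∉ J → ∃ r : GA k G, (∀ w : (S i₀).carrier, r • w = w) ∧
      ∀ j ∈ J, ∀ w : (S j).carrier, r • w = 0 := by
    intro J
    induction J using Finset.induction_on with
    | empty => intro _; exact ⟨1, fun w => one_smul _ w, fun j hj => absurd hj (Finset.notMem_empty j)⟩
    | insert j J hj ih =>
      intro hi
      rw [Finset.mem_insert, not_or] at hi
      obtain ⟨r, hr1, hr2⟩ := ih hi.2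
      obtain ⟨r', hr1', hr2'⟩ := exists_sep (h i₀ j hi.1) 1
      refine ⟨r * r', fun w => ?_, fun j' hj' w => ?_⟩
      · rw [mul_smul, hr1', Module.End.one_apply, hr1]
      · rcases Finset.mem_insert.1 hj' with rfl | hj''
        · rw [mul_smul, hr2', smul_zero]
        · rw [mul_smul, hr2 j' hj'']
  obtain ⟨r, hr1, hr2⟩ := hJ (Finset.univ.erase i₀) (Finset.notMem_erase _ _)
  obtain ⟨φ, hφ⟩ := exists_trace_one (k := k) (G := G) (S := (S i₀).carrier)
  -- realise φ
  obtain ⟨r₀, hr₀⟩ : ∃ r₀ : GA k G, ∀ w : (S i₀).carrier, r₀ • w = φ w := by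
    have hB := Module.Finite.fg_top (R := k) (M := (S i₀).carrier)
    obtain ⟨B, hB⟩ := hB
    let F : Module.End (Module.End (GA k G) (S i₀).carrier) (S i₀).carrier :=
      { toFun := φ
        map_add' := map_add φ
        map_smul' := by
          intro T m
          obtain ⟨c, hc⟩ := schur (T.restrictScalars k) (fun g w => T.map_smul _ _)
          have hc' : ∀ w, T w = c • w := hc
          simp only [RingHom.id_apply, Module.End.smul_def]
          rw [hc', hc', map_smul] }
    obtain ⟨r₀, hr₀⟩ := jacobson_density F B
    refine ⟨r₀, fun m => ?_⟩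
    have hm : m ∈ Submodule.span k (B : Set (S i₀).carrier) := by rw [hB]; exact Submodule.mem_top
    induction hm using Submodule.span_induction with
    | mem m hm => exact (hr₀ m hm).symm
    | zero => simp
    | add a b _ _ ha hb => rw [map_add, smul_add, ha, hb]
    | smul c a _ ha => rw [map_smul, smul_comm, ha]
  have key : ∀ i, LinearMap.trace k (S i).carrier (Lm (S i).carrier (r₀ * r))
      = if i = i₀ then 1 else 0 := by
    intro i
    split_ifs with hi
    · subst hi
      have : Lm (S i).carrier (r₀ * r) = φ := by
        ext w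
        rw [Lm_apply, mul_smul, hr1, hr₀]
      rw [this, hφ]
    · have : Lm (S i).carrier (r₀ * r) = 0 := by
        ext w
        rw [Lm_apply, mul_smul, hr2 i (Finset.mem_erase.2 ⟨hi, Finset.mem_univ _⟩), smul_zero]
        rfl
      rw [this, map_zero]
  have hsum : ∑ i, c i * LinearMap.trace k (S i).carrier (Lm (S i).carrier (r₀ * r)) = 0 := by
    simp only [trace_Lm, Finset.mul_sum]
    rw [Finset.sum_comm]
    apply Finset.sum_eq_zero
    intro g _
    have := congrArg (fun f : G → k => f g) hc
    simp only [Finset.sum_apply, Pi.smul_apply, smul_eq_mul, Pi.zero_apply] at this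
    calc ∑ i, c i * ((r₀ * r) g * trc (S i).carrier g)
        = (r₀ * r) g * ∑ i, c i * trc (S i).carrier g := by
          rw [Finset.mul_sum]
          exact Finset.sum_congr rfl (fun i _ => by ring)
      _ = 0 := by rw [this, mul_zero]
  simp only [key] at hsum
  simpa using hsum

end GA

end Cfsg.Agent.Lib.Helper80
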