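import Mathlib
import Cfsg.Agent.Lib.Helper80.MTTrace

set_option autoImplicit false
set_option linter.unusedSectionVars false

universe u

namespace Cfsg.Agent.Lib.Helper80

open scoped BigOperators

namespace GA

/-- **Main theorem (modular side).**  `P` a Sylow `p`-subgroup of order `p`, `H` a complement of
`P` in `N_G(P)`, `e` a central idempotent of `kG`.  Pairwise orthogonal non-zero central idempotents
of `kH` below `Br_P(e)` give linearly independent trace functions of simple `kGe`-modules. -/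
theorem exists_indep_traces {k : Type} [Field k] [IsAlgClosed k] {G : Type u} [Group G] [Fintype G]
    {p : ℕ} [Fact p.Prime] [CharP k p] {P H : Subgroup G} (hP : Nat.card P = p)
    (hSyl : ¬ p ∣ P.index) (hH : H ≤ Nn P) (hN : ∀ n ∈ Nn P, ∃ u ∈ P, ∃ h ∈ H, n = u * h)
    (hPH : ∀ g, g ∈ P → g ∈ H → g = 1) (hHk : ((Nat.card H : ℕ) : k) ≠ 0)
    {e : GA k G} (he : InZ ⊤ e) (hee : e * e = e) (Ψ : Finset (GA k G))
    (hΨ : ∀ ε ∈ Ψ, InZ H ε ∧ ε * ε = ε ∧ ε ≠ 0 ∧ ε * br P e = ε)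
    (horth : ∀ ε ∈ Ψ, ∀ ε' ∈ Ψ, ε ≠ ε' → ε' * ε = 0) :
    ∃ t : Ψ → (G → k), LinearIndependent k t ∧ ∀ i,
      (∀ x g, t i (x * g * x⁻¹) = t i g) ∧
      (∀ (u s : G) (n : ℕ), Commute u s → orderOf u = p ^ n → t i (u * s) = t i s) ∧
      (∀ g, ∑ h, e h * t i (h * g) = t i g) := by
  classical
  have hfin : Module.Finite k (rInv k P) :=
    Module.Finite.of_injective ((rInv k P).subtype.restrictScalars k) Subtype.val_injective
  have hex : ∀ ε : Ψ, ∃ S : SMod k G, ¬ TZ P (ε : GA k G) S.carrier := by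
    intro ε
    obtain ⟨h1, h2, h3, _⟩ := hΨ ε ε.2
    obtain ⟨S, i1, i2, i3, i4, i5, i6, hS⟩ := exists_simple_of_not_TZ hH h1.1 h2 _ (rInv k P) le_rfl
      (not_TZ_rInv hP hH hPH h1.1 h3)
    exact ⟨⟨S⟩, hS⟩
  choose S hS using hex
  refine ⟨fun i => trc (S i).carrier, ?_, fun i => ⟨?_, ?_, ?_⟩⟩
  · apply linearIndependent_trc S
    intro i j hij
    refine ⟨fun f => ?_⟩
    have hne : (i : GA k G) ≠ j := fun h => hij (Subtype.ext h)
    have h1 := TZ_of_orthogonal hP hSyl hH hN hHk (hΨ i i.2).1 (hΨ j j.2).1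
      (horth i i.2 j j.2 hne) (hS i)
    exact hS j (TZ_congr f h1)
  · intro x g; exact trc_conj x g
  · intro u s n hc hu; exact trc_mul_of_pelt hc hu
  · intro g
    obtain ⟨h1, _, _, h4⟩ := hΨ i i.2
    exact sum_mul_trc (smul_eq_self_of_not_TZ hP hH h1.1 he hee h4 (hS i)) g

end GA

end Cfsg.Agent.Lib.Helper80
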