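import Mathlib
import Cfsg.Agent.Lib.Helper80.GALink
import Cfsg.Agent.Lib.Helper81.BlockRank
import Cfsg.Agent.Lib.Helper81.SecondMain3

set_option autoImplicit false
set_option linter.unusedSectionVars false

namespace Cfsg.Agent.Lib.Helper80

open scoped BigOperators
open Cfsg Cfsg.Agent.Lib.Helper81 Cfsg.Agent.Lib.Helper20

variable {p : ℕ} {M : Ideal AlgInt} (hM : IsPModular p M)
variable {G : Type*} [Group G] [Fintype G]

theorem pRegularPart_blockPart_mem_span (B : Set (IrrCharacter G)) (θ : G → ℂ) :
    pRegularPart p (blockPart B θ) ∈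
      Submodule.span ℂ ((fun χ : IrrCharacter G => pRegularPart p (χ : G → ℂ)) '' B) := by
  classical
  have : Finite (IrrCharacter G) := finite_irrCharacter
  have : Fintype (IrrCharacter G) := Fintype.ofFinite _
  rw [blockPart_eq_sum, pRegularPart_sum]
  apply Submodule.sum_mem
  intro χ _
  rw [pRegularPart_smul]
  split_ifs with hχ
  · exact Submodule.smul_mem _ _ (Submodule.subset_span ⟨χ, hχ, rfl⟩)
  · simp

/-- **From characteristic `p` to characteristic `0`.**  Linearly independent class functions with
values in the residue field, depending only on the `p'`-part and fixed by the block idempotent,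
are at most `l(B)` in number. -/
theorem card_le_blockRank {B : Set (IrrCharacter G)} (hB : IsPBlock M B) {ι : Type*} [Fintype ι]
    (t : ι → G → Kr hM) (hli : LinearIndependent (Kr hM) t)
    (hcl : ∀ i x g, t i (x * g * x⁻¹) = t i g)
    (hsec : ∀ i (u s : G) (n : ℕ), Commute u s → orderOf u = p ^ n → t i (u * s) = t i s)
    (hst : ∀ i g, ∑ h, blkR hM B h * t i (h * g) = t i g) :
    Fintype.card ι ≤ blockRank p B := by
  classical
  -- restriction to the regular elements
  obtain ⟨t', ht'⟩ : ∃ t' : ι → G → Kr hM, t' = fun i g => if IsPRegular p g then t i g else 0 :=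
    ⟨_, rfl⟩
  have hli' : LinearIndependent (Kr hM) t' := by
    rw [Fintype.linearIndependent_iff] at hli ⊢
    intro c hc
    apply hli c
    funext g
    obtain ⟨x, y, hxy, hcomm, ⟨n, hn⟩, hy⟩ := exists_isPPart hM.1 g
    have h1 := congrArg (fun f : G → Kr hM => f y) hc
    simp only [Finset.sum_apply, Pi.smul_apply, Pi.zero_apply] at h1 ⊢
    rw [← h1]
    refine Finset.sum_congr rfl (fun i _ => ?_)
    rw [ht']
    simp only
    rw [if_pos (show IsPRegular p y from hy), ← hxy, hsec i x y n hcomm hn]
  -- dual functionals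
  have hinj : LinearMap.ker (Fintype.linearCombination (Kr hM) t') = ⊥ :=
    LinearMap.ker_eq_bot.2 (linearIndependent_iff_injective_fintypeLinearCombination.1 hli')
  obtain ⟨gg, hgg⟩ := LinearMap.exists_leftInverse_of_injective _ hinj
  obtain ⟨U, hU⟩ : ∃ U : ι → G → Kr hM, U = fun j x => gg (fun y => if x = y then 1 else 0) j :=
    ⟨_, rfl⟩
  have hdual : ∀ i j, ∑ x, U j x * t' i x = if i = j then 1 else 0 := by
    intro i j
    have h1 : gg (t' i) = Pi.single i 1 := by
      have := congrArg (fun f => f (Pi.single i 1)) hgg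
      simpa [Fintype.linearCombination_apply_single] using this
    have h2 : gg (t' i) = ∑ x, t' i x • gg (fun y => if x = y then 1 else 0) :=
      LinearMap.pi_apply_eq_sum_univ gg (t' i)
    have h3 := congrArg (fun f : ι → Kr hM => f j) (h2.symm.trans h1)
    simp only [Finset.sum_apply, Pi.smul_apply, smul_eq_mul] at h3
    rw [hU]
    simp only
    rw [Finset.sum_congr rfl (fun x _ => mul_comm _ _), h3, Pi.single_apply]
    simp only [eq_comm]
  -- lifts
  obtain ⟨τ, hτ⟩ : ∃ τ : ι → G → ℂ, τ = fun i g => liftC hM (t i g) := ⟨_, rfl⟩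
  have hτcl : ∀ i, IsClassFunction G (τ i) := by
    intro i g h
    rw [hτ]
    simp only
    rw [hcl]
  obtain ⟨θ, hθ⟩ : ∃ θ : ι → G → ℂ, θ = fun i => pRegularPart p (blockPart B (τ i)) := ⟨_, rfl⟩
  have hθval : ∀ i x, MemLocalRing M (θ i x) ∧ resC hM (θ i x) = t' i x := by
    intro i x
    rw [hθ, ht']
    simp only
    rw [pRegularPart_eq]
    simp only
    split_ifs with hx
    · rw [blockPart_eq_sum_blockCoeff B (hτcl i)]
      have hm : ∀ h ∈ Finset.univ, MemLocalRing M (blockCoeff B h * τ i (h * x)) := by
        intro h _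
        refine memLocalRing_mul hM (RV_blockCoeff hM hB h) ?_
        rw [hτ]; exact liftC_mem hM _
      refine ⟨memLocalRing_sum hM _ _ hm, ?_⟩
      rw [resC_sum hM _ _ hm, ← hst i x]
      refine Finset.sum_congr rfl (fun h _ => ?_)
      rw [resC_mul hM (RV_blockCoeff hM hB h) (by rw [hτ]; exact liftC_mem hM _)]
      congr 1
      rw [hτ]; exact resC_liftC hM _
    · exact ⟨memLocalRing_zero hM, resC_zero hM⟩
  -- the matrix
  have hAm : ∀ j i, MemLocalRing M (∑ x, liftC hM (U j x) * θ i x) := fun j i =>
    memLocalRing_sum hM _ _ (fun x _ => memLocalRing_mul hM (liftC_mem hM _) (hθval i x).1)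
  let A : Matrix ι ι (locRing hM) := fun j i => ⟨∑ x, liftC hM (U j x) * θ i x, hAm j i⟩
  have hAres : A.map (resR hM) = 1 := by
    ext j i
    rw [Matrix.map_apply, Matrix.one_apply]
    have : resR hM (A j i) = resC hM (∑ x, liftC hM (U j x) * θ i x) :=
      (resC_of_mem hM (hAm j i)).symm
    rw [this, resC_sum hM _ _ (fun x _ => memLocalRing_mul hM (liftC_mem hM _) (hθval i x).1)]
    rw [Finset.sum_congr rfl (fun x _ => by
      rw [resC_mul hM (liftC_mem hM _) (hθval i x).1, resC_liftC, (hθval i x).2]), hdual]
    simp only [eq_comm]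
  have hdet : A.det ≠ 0 := by
    intro h0
    have h1 : resR hM A.det = 1 := by
      rw [RingHom.map_det]
      have : (resR hM).mapMatrix A = A.map (resR hM) := rfl
      rw [this, hAres, Matrix.det_one]
    rw [h0, map_zero] at h1
    exact zero_ne_one h1
  have hdetC : (A.map (locRing hM).subtype).det ≠ 0 := by
    have : (A.map (locRing hM).subtype).det = (locRing hM).subtype A.det := by
      rw [RingHom.map_det]; rfl
    rw [this]
    intro h0
    exact hdet (Subtype.ext h0)
  have hliθ : LinearIndependent ℂ θ := by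
    rw [Fintype.linearIndependent_iff]
    intro a ha
    have hmv : (A.map (locRing hM).subtype).mulVec a = 0 := by
      funext j
      rw [Matrix.mulVec, dotProduct]
      show ∑ i, (∑ x, liftC hM (U j x) * θ i x) * a i = 0
      simp only [Finset.sum_mul]
      rw [Finset.sum_comm]
      apply Finset.sum_eq_zero
      intro x _
      have h1 := congrArg (fun f : G → ℂ => f x) ha
      simp only [Finset.sum_apply, Pi.smul_apply, smul_eq_mul, Pi.zero_apply] at h1
      calc ∑ i, liftC hM (U j x) * θ i x * a i = liftC hM (U j x) * ∑ i, a i * θ i x := by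
            rw [Finset.mul_sum]
            exact Finset.sum_congr rfl (fun i _ => by ring)
        _ = 0 := by rw [h1, mul_zero]
    have := Matrix.eq_zero_of_mulVec_eq_zero hdetC hmv
    intro i
    exact congrFun this i
  -- conclusion
  obtain ⟨W, hW⟩ : ∃ W, W = Submodule.span ℂ
      ((fun χ : IrrCharacter G => pRegularPart p (χ : G → ℂ)) '' B) := ⟨_, rfl⟩
  have hmem : ∀ i, θ i ∈ W := by
    intro i
    rw [hθ, hW]
    exact pRegularPart_blockPart_mem_span B _
  have hli2 : LinearIndependent ℂ (fun i => (⟨θ i, hmem i⟩ : W)) := by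
    apply LinearIndependent.of_comp W.subtype
    exact hliθ
  have := hli2.fintype_card_le_finrank
  rw [hW] at this
  exact this

end Cfsg.Agent.Lib.Helper80
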