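import Mathlib
import Cfsg.Agent.Lib.Helper80.MTMain
import Cfsg.Agent.Lib.Helper80.MTRank
import Cfsg.Agent.Lib.Helper80.MTAlgClosed

set_option autoImplicit false
set_option linter.unusedSectionVars false

namespace Cfsg.Agent.Lib.Helper80

open scoped BigOperators
open Cfsg Cfsg.Agent.Lib.Helper81 Cfsg.Agent.Lib.Helper20 GA

variable {p : ℕ} {M : Ideal AlgInt} (hM : IsPModular p M)
variable {G : Type*} [Group G] [Fintype G]

/-- `P` a Sylow `p`-subgroup of order `p`, `H` a complement of `P` in `N_G(P)`, `B` a block.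
Pairwise orthogonal non-zero central idempotents of `kH` below `Br_P(e_B)` are at most `l(B)` in
number. -/
theorem card_le_blockRank_of_idem {B : Set (IrrCharacter G)} (hB : IsPBlock M B)
    {P H : Subgroup G} (hP : Nat.card P = p)
    (hSyl : ¬ p ∣ P.index) (hH : H ≤ Nn P) (hN : ∀ n ∈ Nn P, ∃ u ∈ P, ∃ h ∈ H, n = u * h)
    (hPH : ∀ g, g ∈ P → g ∈ H → g = 1) (hHp : ¬ p ∣ Nat.card H)
    (Ψ : Finset (GA (Kr hM) G))
    (hΨ : ∀ ε ∈ Ψ, InZ H ε ∧ ε * ε = ε ∧ ε ≠ 0 ∧ ε * br P (blkR hM B) = ε)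
    (horth : ∀ ε ∈ Ψ, ∀ ε' ∈ Ψ, ε ≠ ε' → ε' * ε = 0) :
    Ψ.card ≤ blockRank p B := by
  haveI : Fact p.Prime := ⟨hM.1⟩
  have hHk : ((Nat.card H : ℕ) : Kr hM) ≠ 0 := by
    intro h
    exact hHp ((CharP.cast_eq_zero_iff (Kr hM) p _).1 h)
  obtain ⟨t, hli, ht⟩ := exists_indep_traces (k := Kr hM) hP hSyl hH hN hPH hHk (blkR_inZ hM B)
    (blkR_idem hM hB) Ψ hΨ horth
  have := card_le_blockRank hM hB t hli (fun i => (ht i).1) (fun i => (ht i).2.1)
    (fun i => (ht i).2.2)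
  rwa [Fintype.card_coe] at this

end Cfsg.Agent.Lib.Helper80
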