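import Mathlib
import Cfsg.Agent.Lib.Helper80.GABr

set_option autoImplicit false
set_option linter.unusedSectionVars false

/-! Structure of the normaliser of a Sylow subgroup of prime order. -/

namespace Cfsg.Agent.Lib.Helper80

open scoped BigOperators
open GA

variable {G : Type*} [Group G] [Finite G] {p : ℕ} [Fact p.Prime]

/-- Schur--Zassenhaus complement of a Sylow subgroup of order `p` in its normaliser -/
theorem exists_compl_Nn {P : Subgroup G} (hP : Nat.card P = p) (hSyl : ¬ p ∣ P.index) :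
    ∃ H : Subgroup G, H ≤ Nn P ∧ (∀ n ∈ Nn P, ∃ u ∈ P, ∃ h ∈ H, n = u * h) ∧
      (∀ g, g ∈ P → g ∈ H → g = 1) ∧ ¬ p ∣ Nat.card H := by
  have hPN : P ≤ Nn P := Subgroup.le_normalizer
  have hnorm : (P.subgroupOf (Nn P)).Normal := Subgroup.normal_in_normalizer
  have hcard : Nat.card (P.subgroupOf (Nn P)) = p := by
    rw [← hP]; exact Nat.card_congr (Subgroup.subgroupOfEquivOfLe hPN).toEquiv
  have hidx : ¬ p ∣ (P.subgroupOf (Nn P)).index := by
    intro h
    apply hSyl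
    have h1 : P.relIndex (Nn P) * (Nn P).index = P.index := Subgroup.relIndex_mul_index hPN
    rw [← h1]
    exact Dvd.dvd.mul_right h _
  have hcop : (Nat.card (P.subgroupOf (Nn P))).Coprime (P.subgroupOf (Nn P)).index := by
    rw [hcard]
    exact (Nat.Prime.coprime_iff_not_dvd Fact.out).2 hidx
  obtain ⟨H₀, hH₀⟩ := Subgroup.exists_right_complement'_of_coprime hcop
  refine ⟨H₀.map (Nn P).subtype, ?_, ?_, ?_, ?_⟩
  · rintro _ ⟨x, _, rfl⟩
    exact x.2
  · intro n hn
    obtain ⟨⟨u, h⟩, hx, _⟩ := (Subgroup.isComplement_iff_existsUnique.1 hH₀) ⟨n, hn⟩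
    refine ⟨u.1.1, u.2, h.1.1, ⟨h.1, h.2, rfl⟩, ?_⟩
    have := congrArg Subtype.val hx
    exact this.symm
  · rintro g hg ⟨x, hx, rfl⟩
    have h1 : x ∈ P.subgroupOf (Nn P) ⊓ H₀ := ⟨hg, hx⟩
    rw [hH₀.disjoint.eq_bot, Subgroup.mem_bot] at h1
    rw [h1]; rfl
  · have h1 : Nat.card (H₀.map (Nn P).subtype) = Nat.card H₀ :=
      Subgroup.card_map_of_injective (Subgroup.subtype_injective _)
    rw [h1, ← hH₀.symm.index_eq_card]
    exact hidx

variable {P H : Subgroup G}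

/-- the regular elements of the centraliser lie in the complement -/
theorem mem_compl_of_regular (hP : Nat.card P = p)
    (hN : ∀ n ∈ Nn P, ∃ u ∈ P, ∃ h ∈ H, n = u * h) (hPH : ∀ g, g ∈ P → g ∈ H → g = 1)
    {g : G} (hg : g ∈ Cn P) (hreg : ¬ p ∣ orderOf g) : g ∈ H := by
  have hCN : Cn P ≤ Nn P := Subgroup.centralizer_le_normalizer _
  obtain ⟨u, hu, h, hh, rfl⟩ := hN g (hCN hg)
  have hc0 : Commute u (u * h) := ((Subgroup.mem_centralizer_iff.1 hg) u hu)
  have hc : Commute u h := by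
    have h1 : Commute u (u⁻¹ * (u * h)) := (Commute.refl u).inv_right.mul_right hc0
    rwa [inv_mul_cancel_left] at h1
  have h1 : u ^ orderOf (u * h) * h ^ orderOf (u * h) = 1 := by
    rw [← hc.mul_pow, pow_orderOf_eq_one]
  have h2 : u ^ orderOf (u * h) = 1 := by
    apply hPH _ (P.pow_mem hu _)
    rw [eq_inv_of_mul_eq_one_left h1]
    exact H.inv_mem (H.pow_mem hh _)
  have h3 : u ^ p = 1 := by
    have := pow_card_eq_one' (G := P) (x := ⟨u, hu⟩)
    rw [hP] at this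
    exact congrArg Subtype.val this
  have h4 : orderOf u ∣ Nat.gcd (orderOf (u * h)) p :=
    Nat.dvd_gcd (orderOf_dvd_of_pow_eq_one h2) (orderOf_dvd_of_pow_eq_one h3)
  have h5 : Nat.gcd (orderOf (u * h)) p = 1 :=
    Nat.Coprime.symm ((Nat.Prime.coprime_iff_not_dvd Fact.out).2 hreg)
  rw [h5, Nat.dvd_one, orderOf_eq_one_iff] at h4
  rw [h4, one_mul]; exact hh

/-- order of the subgroups between `P` and its normaliser -/
theorem card_eq_mul_card_inf (hP : Nat.card P = p)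
    (hN : ∀ n ∈ Nn P, ∃ u ∈ P, ∃ h ∈ H, n = u * h) (hPH : ∀ g, g ∈ P → g ∈ H → g = 1)
    {L : Subgroup G} (hPL : P ≤ L) (hLN : L ≤ Nn P) :
    Nat.card L = p * Nat.card (L.subgroupOf H) := by
  rw [← hP, ← Nat.card_prod]
  symm
  apply Nat.card_congr
  refine Equiv.ofBijective
    (fun x : P × L.subgroupOf H => (⟨x.1.1 * x.2.1.1, L.mul_mem (hPL x.1.2) x.2.2⟩ : L)) ⟨?_, ?_⟩
  · rintro ⟨u, h⟩ ⟨u', h'⟩ hx
    have h1 : u.1 * h.1.1 = u'.1 * h'.1.1 := congrArg Subtype.val hx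
    have h2 : u'.1⁻¹ * u.1 = h'.1.1 * h.1.1⁻¹ := by
      rw [inv_mul_eq_iff_eq_mul, ← mul_assoc, ← h1]; simp
    have h3 : u'.1⁻¹ * u.1 = 1 := by
      apply hPH _ (P.mul_mem (P.inv_mem u'.2) u.2)
      rw [h2]; exact H.mul_mem h'.1.2 (H.inv_mem h.1.2)
    have h4 : u = u' := by
      apply Subtype.ext
      rw [inv_mul_eq_one] at h3; exact h3.symm
    have h5 : h = h' := by
      apply Subtype.ext; apply Subtype.ext
      rw [h3] at h2
      have := (mul_inv_eq_one.1 h2.symm); exact this.symm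
    rw [h4, h5]
  · rintro ⟨l, hl⟩
    obtain ⟨u, hu, h, hh, rfl⟩ := hN l (hLN hl)
    have hhL : h ∈ L := by
      have := L.mul_mem (L.inv_mem (hPL hu)) hl
      rwa [inv_mul_cancel_left] at this
    exact ⟨(⟨u, hu⟩, ⟨⟨h, hh⟩, hhL⟩), rfl⟩

/-- the conjugation action of the complement on `P` -/
noncomputable def actP (hH : H ≤ Nn P) : H →* MulAut P :=
  P.normalizerMonoidHom.comp (Subgroup.inclusion hH)

theorem actP_ker (hH : H ≤ Nn P) : (actP hH).ker = (Cn P).subgroupOf H := by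
  ext x
  unfold actP
  rw [MonoidHom.mem_ker, MonoidHom.comp_apply, ← MonoidHom.mem_ker,
    Subgroup.normalizerMonoidHom_ker, Subgroup.mem_subgroupOf, Subgroup.mem_subgroupOf]
  rfl

theorem isCyclic_mulAut_of_prime_card (hP : Nat.card P = p) : IsCyclic (MulAut P) := by
  have : Fact (Nat.card P).Prime := ⟨by rw [hP]; exact Fact.out⟩
  have : IsCyclic P := isCyclic_of_prime_card rfl
  exact isCyclic_of_injective (IsCyclic.mulAutMulEquiv P).toMonoidHom
    (IsCyclic.mulAutMulEquiv P).injective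

theorem normal_Cn_subgroupOf (hH : H ≤ Nn P) : ((Cn P).subgroupOf H).Normal := by
  rw [← actP_ker hH]; infer_instance

end Cfsg.Agent.Lib.Helper80
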