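import Mathlib
import Cfsg.Agent.Lib.Helper82.CharKer
import Cfsg.Agent.Lib.Helper81.RankSum

set_option autoImplicit false

namespace Cfsg.Agent.Lib.Helper80

open Cfsg Cfsg.Agent.Lib.Helper20 Cfsg.Agent.Lib.Helper81 Cfsg.Agent.Lib.Helper82

/-- the blocks of a group of order prime to `p` are singletons -/
theorem isPBlock_singleton_of_not_dvd {p : ℕ} {M : Ideal AlgInt} (hM : IsPModular p M)
    {X : Type*} [Group X] [Fintype X]
    (hX : ¬ p ∣ Nat.card X) (χ : IrrCharacter X) : IsPBlock M ({χ} : Set (IrrCharacter X)) := by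
  refine ⟨χ, ?_⟩
  have hB : IsPBlock M (blockOf M (χ : X → ℂ)) := ⟨χ, rfl⟩
  have hd : blockDefect p (blockOf M (χ : X → ℂ)) = 0 := by
    unfold blockDefect
    rw [Nat.factorization_eq_zero_of_not_dvd hX]
    simp
  ext ψ
  constructor
  · intro h
    rw [Set.mem_singleton_iff.1 h]
    exact mem_blockOf_self hM χ
  · intro h
    exact eq_of_defect_zero hM hB hd h (mem_blockOf_self hM χ)

/-- an irreducible character with `P` in its kernel restricts irreducibly to a supplement of `P` -/
theorem isIrr_restrict_supplement {X : Type*} [Group X] [Finite X] (P K : Subgroup X)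
    (hPK : ∀ x : X, ∃ u ∈ P, ∃ h ∈ K, x = u * h) (θ : X → ℂ) (hθ : IsIrrCharacter X θ)
    (hker : ∀ u ∈ P, θ u = θ 1) : IsIrrCharacter K (fun x : K => θ x) := by
  obtain ⟨n, ρ, hρ, rfl⟩ := hθ
  refine ⟨n, repComp ρ K.subtype, ?_, rfl⟩
  have hu : ∀ u ∈ P, ρ u = 1 := fun u hu => (rep_apply_eq_id_iff ρ u).2 (hker u hu)
  have hnt : Nontrivial (Subrepresentation (repComp ρ K.subtype)) := by
    refine ⟨⊥, ⊤, ?_⟩
    intro hbt
    have h1 : (⊥ : Subrepresentation ρ) ≠ ⊤ := bot_ne_top
    apply h1
    apply Subrepresentation.toSubmodule_injective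
    have := congrArg Subrepresentation.toSubmodule hbt
    exact this
  refine { toNontrivial := hnt, eq_bot_or_eq_top := ?_ }
  intro τ
  let τ' : Subrepresentation ρ := ⟨τ.toSubmodule, fun x v hv => by
    obtain ⟨u, hu', h, hh, rfl⟩ := hPK x
    have := τ.apply_mem_toSubmodule (⟨h, hh⟩ : K) hv
    rw [map_mul, hu u hu', one_mul]
    exact this⟩
  rcases hρ.eq_bot_or_eq_top τ' with h1 | h1
  · left
    apply Subrepresentation.toSubmodule_injective
    have := congrArg Subrepresentation.toSubmodule h1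
    exact this
  · right
    apply Subrepresentation.toSubmodule_injective
    have := congrArg Subrepresentation.toSubmodule h1
    exact this

end Cfsg.Agent.Lib.Helper80
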