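import Mathlib
import Cfsg.Agent.Lib.Helper80.MTCombine
import Cfsg.Agent.Lib.Helper80.MTCount1
import Cfsg.Agent.Lib.Helper80.GATrans
import Cfsg.Agent.Lib.Helper80.MTRungs
import Cfsg.Agent.Lib.Helper21.KeyLemma

set_option autoImplicit false
set_option linter.unusedSectionVars false

namespace Cfsg.Agent.Lib.Helper80

open scoped BigOperators
open Cfsg Cfsg.Agent.Lib.Helper81 Cfsg.Agent.Lib.Helper20 GA

variable {p : ℕ} {M : Ideal AlgInt} (hM : IsPModular p M)
variable {G : Type*} [Group G] [Fintype G]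

/-- the block idempotent truncated to the centraliser of `P`, as a function on `H` -/
noncomputable def trB (P H : Subgroup G) (B : Set (IrrCharacter G)) : H → ℂ := fun h => by
  classical exact if (h : G) ∈ Cn P then blockCoeff B h else 0

theorem trB_mem {P H : Subgroup G} (B : Set (IrrCharacter G)) {h : H} (hh : (h : G) ∈ Cn P) :
    trB P H B h = blockCoeff B h := by
  unfold trB; rw [if_pos hh]

theorem trB_not_mem {P H : Subgroup G} (B : Set (IrrCharacter G)) {h : H} (hh : (h : G) ∉ Cn P) :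
    trB P H B h = 0 := by
  unfold trB; rw [if_neg hh]

theorem conj_mem_Cn_iff {P : Subgroup G} {x g : G} (hx : x ∈ Nn P) :
    x * g * x⁻¹ ∈ Cn P ↔ g ∈ Cn P := by
  have h1 : cS x (Cn P) = Cn P := cS_Cn_of_mem_Nn hx
  constructor
  · intro h
    rw [← h1, mem_cS] at h
    simpa [mul_assoc] using h
  · intro h
    rw [← h1, mem_cS]
    simpa [mul_assoc] using h

theorem trB_classFunction {P H : Subgroup G} (hH : H ≤ Nn P) (B : Set (IrrCharacter G)) :
    IsClassFunction H (trB P H B) := by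
  intro g h
  by_cases hg : (g : G) ∈ Cn P
  · have h1 : ((h * g * h⁻¹ : H) : G) ∈ Cn P := (conj_mem_Cn_iff (hH h.2)).2 hg
    rw [trB_mem B hg, trB_mem B h1]
    exact blockCoeff_classFunction B _ _
  · have h1 : ((h * g * h⁻¹ : H) : G) ∉ Cn P := fun h2 => hg ((conj_mem_Cn_iff (hH h.2)).1 h2)
    rw [trB_not_mem B hg, trB_not_mem B h1]

include hM in
theorem RV_trB {P H : Subgroup G} {B : Set (IrrCharacter G)} (hB : IsPBlock M B) :
    RV M (trB P H B) := by
  intro h
  by_cases hg : (h : G) ∈ Cn P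
  · rw [trB_mem B hg]; exact osima hM B hB _
  · rw [trB_not_mem B hg]; exact memLocalRing_zero hM

theorem emb_red_trB {P H : Subgroup G} {B : Set (IrrCharacter G)} (hB : IsPBlock M B)
    (hP : Nat.card P = p)
    (hN : ∀ n ∈ Nn P, ∃ u ∈ P, ∃ h ∈ H, n = u * h) (hPH : ∀ g, g ∈ P → g ∈ H → g = 1) :
    emb H (red hM (trB P H B)) = br P (blkR hM B) := by
  have : Fact p.Prime := ⟨hM.1⟩
  ext g
  by_cases hg : g ∈ H
  · rw [emb_apply_mem H _ hg, red_apply]
    by_cases hc : g ∈ Cn P
    · rw [br_apply_mem _ hc, trB_mem B (h := ⟨g, hg⟩) hc]; rfl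
    · rw [br_apply_not_mem _ hc, trB_not_mem B (h := ⟨g, hg⟩) hc, resC_zero]
  · rw [emb_apply_not_mem H _ hg]
    by_cases hc : g ∈ Cn P
    · rw [br_apply_mem _ hc]
      have hs : p ∣ orderOf g := by
        by_contra hreg
        exact hg (mem_compl_of_regular hP hN hPH hc hreg)
      show (0 : Kr hM) = resC hM (blockCoeff B g)
      rw [Cfsg.Agent.Lib.Helper21.blockCoeff_eq_zero_of_singular hM B hB hs, resC_zero]
    · rw [br_apply_not_mem _ hc]

include hM in
/-- irreducible characters of the complement whose central character takes the value `1` on the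
truncated block idempotent are at most `l(B)` in number -/
theorem card_le_blockRank_of_chars {B : Set (IrrCharacter G)} (hB : IsPBlock M B)
    {P H : Subgroup G} [Fintype H] (hP : Nat.card P = p)
    (hSyl : ¬ p ∣ P.index) (hH : H ≤ Nn P) (hN : ∀ n ∈ Nn P, ∃ u ∈ P, ∃ h ∈ H, n = u * h)
    (hPH : ∀ g, g ∈ P → g ∈ H → g = 1) (hHp : ¬ p ∣ Nat.card H)
    (𝒞 : Finset (IrrCharacter H))
    (h𝒞 : ∀ χ ∈ 𝒞, MemLocalIdeal M (omega (χ : H → ℂ) (trB P H B) - 1)) :
    𝒞.card ≤ blockRank p B := by
  classical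
  have : Fact p.Prime := ⟨hM.1⟩
  have hPp : IsPGroup p P := IsPGroup.of_card (n := 1) (by rw [hP, pow_one])
  have hz := emb_red_trB hM hB hP hN hPH
  have hzz : br P (blkR hM B) * br P (blkR hM B) = br P (blkR hM B) :=
    br_idem hPp (fixBy_top_mono (blkR_inZ hM B).2) (blkR_idem hM hB)
  have hidem : red hM (trB P H B) * red hM (trB P H B) = red hM (trB P H B) := by
    apply emb_injective H
    rw [emb_mul, hz, hzz]
  have hblk : ∀ χ : IrrCharacter H, IsPBlock M ({χ} : Set (IrrCharacter H)) := fun χ => isPBlock_singleton_of_not_dvd hM hHp χ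
  have hinj : Function.Injective (fun χ : IrrCharacter H => bl hM H ({χ} : Set (IrrCharacter H))) := by
    intro χ χ' h
    exact Set.singleton_injective (bl_injective hM H (hblk χ) (hblk χ') h)
  have hcard : (𝒞.image (fun χ : IrrCharacter H => bl hM H ({χ} : Set (IrrCharacter H)))).card
      = 𝒞.card := Finset.card_image_of_injective _ hinj
  rw [← hcard]
  apply card_le_blockRank_of_idem hM hB hP hSyl hH hN hPH hHp
  · intro ε hε
    obtain ⟨χ, hχ, rfl⟩ := Finset.mem_image.1 hε
    have hb := isBlk_bl hM H (hblk χ)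
    refine ⟨hb.inZ, hb.idem, hb.ne_zero, ?_⟩
    have h1 := (omega_sub_one_mem_iff hM (hblk χ) (trB_classFunction hH B) (RV_trB hM hB) hidem
      (Set.mem_singleton χ)).1 (h𝒞 χ hχ)
    have h2 : blkR hM ({χ} : Set (IrrCharacter H)) * red hM (trB P H B)
        = blkR hM ({χ} : Set (IrrCharacter H)) := by
      rw [(blkR_inZ hM _).comm (inZ_red hM (trB_classFunction hH B)), h1]
    rw [bl_eq_emb, ← hz, ← emb_mul, h2]
  · intro ε hε ε' hε' hne
    obtain ⟨χ, hχ, rfl⟩ := Finset.mem_image.1 hε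
    obtain ⟨χ', hχ', rfl⟩ := Finset.mem_image.1 hε'
    rcases (isBlk_bl hM H (hblk χ')).eq_or_orth (isBlk_bl hM H (hblk χ)) with h | h
    · exact absurd h.symm hne
    · exact h

end Cfsg.Agent.Lib.Helper80
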