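import Mathlib
import Cfsg.Agent.Lib.Helper80.MTCount2
import Cfsg.Agent.Lib.Helper80.GAIndT
import Cfsg.Agent.Lib.Helper21.Cover
import Cfsg.Agent.Lib.Helper4.DefOneR1
import Cfsg.Agent.Lib.Helper82.CharKer

set_option autoImplicit false
set_option linter.unusedSectionVars false

namespace Cfsg.Agent.Lib.Helper80

open scoped BigOperators
open Cfsg Cfsg.Agent.Lib.Helper81 Cfsg.Agent.Lib.Helper20 Cfsg.Agent.Lib.Helper5 GA

/-- `A ∩ B` seen inside `B` and inside `A` -/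
def swapSub {G : Type*} [Group G] (A B : Subgroup G) : A.subgroupOf B ≃* B.subgroupOf A where
  toFun x := ⟨⟨x.1.1, x.2⟩, x.1.2⟩
  invFun x := ⟨⟨x.1.1, x.2⟩, x.1.2⟩
  left_inv _ := rfl
  right_inv _ := rfl
  map_mul' _ _ := rfl

theorem le_Cn_of_prime_card {G : Type*} [Group G] {p : ℕ} [Fact p.Prime] {P : Subgroup G}
    (hP : Nat.card P = p) : P ≤ Cn P := by
  have : IsCyclic P := isCyclic_of_prime_card hP
  intro a ha
  rw [Subgroup.mem_centralizer_iff]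
  intro b hb
  let _ := IsCyclic.commGroup (α := P)
  exact congrArg Subtype.val (mul_comm (⟨b, hb⟩ : P) ⟨a, ha⟩)

variable {p : ℕ} {M : Ideal AlgInt} (hM : IsPModular p M)
variable {G : Type*} [Group G] [Fintype G]

include hM in
/-- **The crux of the theory of blocks of defect one** (subgroup form): `l(B) ≥ e`. -/
theorem relIndex_le_blockRank {B : Set (IrrCharacter G)} {P : Subgroup G} (hP : Nat.card P = p)
    (hSyl : ¬ p ∣ P.index) {b : Set (IrrCharacter (Cn P))} (hind : IsInducedBlock M (Cn P) b B)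
    (θ : IrrCharacter (Cn P)) (hθ : θ ∈ b)
    (hθP : ∀ x : Cn P, (x : G) ∈ P → (θ : Cn P → ℂ) x = (θ : Cn P → ℂ) 1) (T : Subgroup G)
    (hT : ∀ g : G, g ∈ T ↔ (g ∈ Nn P ∧ ∀ c c' : Cn P, (c' : G) = g * c * g⁻¹ →
      (θ : Cn P → ℂ) c' = (θ : Cn P → ℂ) c)) :
    (Cn P).relIndex T ≤ blockRank p B := by
  classical
  have : Fact p.Prime := ⟨hM.1⟩
  have hPp : IsPGroup p P := IsPGroup.of_card (n := 1) (by rw [hP, pow_one])
  have hB : IsPBlock M B := hind.2.1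
  obtain ⟨H, hH, hN, hPH, hHp⟩ := exists_compl_Nn hP hSyl
  have hPC : P ≤ Cn P := le_Cn_of_prime_card hP
  have hCN : Cn P ≤ Nn P := Cn_le_Nn P
  have hθc : IsCharacter (Cn P) (θ : Cn P → ℂ) := isCharacter_of_isIrrCharacter θ.2
  have hθcl : IsClassFunction (Cn P) (θ : Cn P → ℂ) := isClassFunction_of_isCharacter hθc
  -- decomposition of the centraliser
  have hdec : ∀ c ∈ Cn P, ∃ u ∈ P, ∃ h ∈ H, h ∈ Cn P ∧ c = u * h := by
    intro c hc
    obtain ⟨u, hu, h, hh, rfl⟩ := hN c (hCN hc)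
    refine ⟨u, hu, h, hh, ?_, rfl⟩
    have := (Cn P).mul_mem ((Cn P).inv_mem (hPC hu)) hc
    rwa [inv_mul_cancel_left] at this
  have hker : ∀ (u x : G) (hu : u ∈ P) (hx : x ∈ Cn P),
      (θ : Cn P → ℂ) ⟨u * x, (Cn P).mul_mem (hPC hu) hx⟩ = (θ : Cn P → ℂ) ⟨x, hx⟩ := by
    intro u x hu hx
    have h1 := Cfsg.Agent.Lib.Helper82.isChar_mul_of_mem_ker hθc (x := ⟨u, hPC hu⟩)
      (hθP ⟨u, hPC hu⟩ hu) ⟨x, hx⟩
    rw [← h1]
    exact congrArg (θ : Cn P → ℂ) (Subtype.ext ((Subgroup.mem_centralizer_iff.1 hx) u hu))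
  have hKn : ((Cn P).subgroupOf H).Normal := normal_Cn_subgroupOf hH
  have hcyc : IsCyclic (MulAut P) := isCyclic_mulAut_of_prime_card hP
  -- the restricted character
  have hirr0 : IsIrrCharacter (H.subgroupOf (Cn P)) (fun x : H.subgroupOf (Cn P) => (θ : Cn P → ℂ) x) := by
    apply isIrr_restrict_supplement (P.subgroupOf (Cn P)) (H.subgroupOf (Cn P)) _ _ θ.2
    · intro u hu
      exact hθP u hu
    · intro x
      obtain ⟨u, hu, h, hh, hhC, hx⟩ := hdec x.1 x.2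
      exact ⟨⟨u, hPC hu⟩, hu, ⟨h, hhC⟩, hh, Subtype.ext hx⟩
  have hirr : IsIrrCharacter ((Cn P).subgroupOf H)
      ((fun x : H.subgroupOf (Cn P) => (θ : Cn P → ℂ) x) ∘ swapSub (Cn P) H) :=
    isIrrCharacter_comp_equiv _ hirr0
  obtain ⟨θ', hθ'⟩ : ∃ θ' : IrrCharacter ((Cn P).subgroupOf H), θ' = ⟨_, hirr⟩ := ⟨_, rfl⟩
  have hθ'a : ∀ x : (Cn P).subgroupOf H, (θ' : (Cn P).subgroupOf H → ℂ) x
      = (θ : Cn P → ℂ) ⟨x.1.1, x.2⟩ := by
    intro x; rw [hθ']; rfl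
  -- the stabiliser
  have hT' : ∀ g : H, g ∈ T.subgroupOf H ↔ ∀ h : (Cn P).subgroupOf H,
      (θ' : (Cn P).subgroupOf H → ℂ) ⟨g * h * g⁻¹, hKn.conj_mem h h.2 g⟩
        = (θ' : (Cn P).subgroupOf H → ℂ) h := by
    intro g
    rw [Subgroup.mem_subgroupOf, hT]
    constructor
    · rintro ⟨_, h2⟩ h
      rw [hθ'a, hθ'a]
      exact h2 _ _ rfl
    · intro h
      refine ⟨hH g.2, fun c c' hcc => ?_⟩
      obtain ⟨u, hu, x, hx, hxC, hc⟩ := hdec c.1 c.2
      have h1 : (θ : Cn P → ℂ) c = (θ : Cn P → ℂ) ⟨x, hxC⟩ := by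
        rw [← hker u x hu hxC]
        exact congrArg (θ : Cn P → ℂ) (Subtype.ext hc)
      have hgu : (g : G) * u * (g : G)⁻¹ ∈ P :=
        ((Subgroup.mem_normalizer_iff.1 (hH g.2)) u).1 hu
      have hgx : (g : G) * x * (g : G)⁻¹ ∈ Cn P := (conj_mem_Cn_iff (hH g.2)).2 hxC
      have h2 : (θ : Cn P → ℂ) c' = (θ : Cn P → ℂ) ⟨(g : G) * x * (g : G)⁻¹, hgx⟩ := by
        rw [← hker _ _ hgu hgx]
        refine congrArg (θ : Cn P → ℂ) (Subtype.ext ?_)
        rw [hcc, hc]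
        simp [mul_assoc]
      have h3 := h ⟨⟨x, hx⟩, hxC⟩
      rw [hθ'a, hθ'a] at h3
      rw [h1, h2]
      exact h3
  have : Fintype H := Fintype.ofFinite H
  have : Fintype ((Cn P).subgroupOf H) := Fintype.ofFinite _
  have : Fintype (Cn P) := Fintype.ofFinite _
  have : Fintype (H.subgroupOf (Cn P)) := Fintype.ofFinite _
  obtain ⟨𝒞, h𝒞1, h𝒞2⟩ := Cfsg.Agent.Lib.Helper4.defOne_R1 ((Cn P).subgroupOf H) (T.subgroupOf H) (actP hH) (actP_ker hH) θ' hT'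
  -- value of the central character
  have hBP := isBrauerPairOf_of_isInducedBlock hM hPp hind
  have hω0 := hBP.2.2 θ hθ
  have hω1 : omega (θ' : (Cn P).subgroupOf H → ℂ) (fun n : (Cn P).subgroupOf H => trB P H B n)
      = brauerOmega P (blockCoeff B) (θ : Cn P → ℂ) := by
    unfold brauerOmega omega
    rw [finsum_eq_sum_of_fintype]
    rw [← sum_subgroup_eq (H.subgroupOf (Cn P))
      (fun x : Cn P => blockCoeff B x * (θ : Cn P → ℂ) x / (θ : Cn P → ℂ) 1)]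
    · rw [← Equiv.sum_comp (swapSub (Cn P) H).toEquiv]
      refine Finset.sum_congr rfl (fun n _ => ?_)
      show trB P H B n.1 * _ / _ = _
      rw [trB_mem B (h := n.1) n.2, hθ'a, hθ'a]
      rfl
    · intro x hx
      have hs : p ∣ orderOf (x : G) := by
        by_contra hreg
        exact hx (mem_compl_of_regular hP hN hPH x.2 hreg)
      rw [Cfsg.Agent.Lib.Helper21.blockCoeff_eq_zero_of_singular hM B hB hs]
      simp
  have h𝒞3 : ∀ χ ∈ 𝒞, MemLocalIdeal M (omega (χ : H → ℂ) (trB P H B) - 1) := by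
    intro χ hχ
    rw [Cfsg.Agent.Lib.Helper21.omega_eq_omega_res_of_constituent hKn χ θ' (h𝒞2 χ hχ)
      (trB_classFunction hH B) (fun g hg => trB_not_mem B hg), hω1]
    exact hω0
  have hle := card_le_blockRank_of_chars hM hB hP hSyl hH hN hPH hHp 𝒞 h𝒞3
  -- the index
  have hCT : Cn P ≤ T := by
    intro c hc
    rw [hT]
    refine ⟨hCN hc, fun x x' hx => ?_⟩
    have : x' = ⟨c, hc⟩ * x * ⟨c, hc⟩⁻¹ := Subtype.ext hx
    rw [this]
    exact hθcl _ _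
  have hTN : T ≤ Nn P := fun g hg => ((hT g).1 hg).1
  have e1 := card_eq_mul_card_inf hP hN hPH hPC hCN
  have e2 := card_eq_mul_card_inf hP hN hPH (hPC.trans hCT) hTN
  have e3 : Nat.card (Cn P) * (Cn P).relIndex T = Nat.card T := by
    rw [← Nat.card_congr (Subgroup.subgroupOfEquivOfLe hCT).toEquiv]
    exact Subgroup.card_mul_index _
  have e4 : (Cn P).relIndex T = 𝒞.card := by
    rw [e1, e2, ← h𝒞1] at e3
    have hpos : 0 < p * Nat.card ((Cn P).subgroupOf H) :=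
      Nat.mul_pos hM.1.pos Nat.card_pos
    apply Nat.eq_of_mul_eq_mul_left hpos
    rw [e3]; ring
  rw [e4]
  exact hle

end Cfsg.Agent.Lib.Helper80
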