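import Mathlib
import Cfsg.Agent.Lib.Helper80.MTCount3
import Cfsg.Agent.Lib.Helper80.BlockBasic
import Cfsg.Agent.Lib.Helper21.PrincipalOver

set_option autoImplicit false
set_option linter.unusedSectionVars false

/-! # Blocks of defect one: the inequality `e ≤ l(B)`

`P` is a Sylow `p`-subgroup of order `p`, `b` a block of `C_G(P)` inducing `B`, `θ ∈ b` the
canonical character, `T` its stabiliser in `N_G(P)`.  Then `|T : C_G(P)| ≤ l(B)`. -/

namespace Cfsg.Agent.Lib.Helper80

open Cfsg

/-- **Blocks of defect one**: the inertial index is at most the number of modular characters. -/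
theorem le_blockRank {G : Type*} [Group G] [Finite G] (p : ℕ) [Fact p.Prime] (M : Ideal AlgInt)
    (hM : IsPModular p M) (P : Sylow p G) (hP : Nat.card P = p) (B : Set (IrrCharacter G))
    (b : Set (IrrCharacter (Subgroup.centralizer ((P : Subgroup G) : Set G))))
    (hind : IsInducedBlock M (Subgroup.centralizer ((P : Subgroup G) : Set G)) b B)
    (θ : IrrCharacter (Subgroup.centralizer ((P : Subgroup G) : Set G))) (hθ : θ ∈ b)
    (hθP : ∀ x : Subgroup.centralizer ((P : Subgroup G) : Set G), (x : G) ∈ (P : Subgroup G) →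
      (θ : Subgroup.centralizer ((P : Subgroup G) : Set G) → ℂ) x
        = (θ : Subgroup.centralizer ((P : Subgroup G) : Set G) → ℂ) 1)
    (T : Subgroup G)
    (hT : ∀ g : G, g ∈ T ↔ (g ∈ Subgroup.normalizer ((P : Subgroup G) : Set G) ∧
      ∀ c c' : Subgroup.centralizer ((P : Subgroup G) : Set G), (c' : G) = g * c * g⁻¹ →
        (θ : Subgroup.centralizer ((P : Subgroup G) : Set G) → ℂ) c'
          = (θ : Subgroup.centralizer ((P : Subgroup G) : Set G) → ℂ) c)) :
    (Subgroup.centralizer ((P : Subgroup G) : Set G)).relIndex T ≤ blockRank p B := by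
  have : Fintype G := Fintype.ofFinite G
  exact relIndex_le_blockRank hM hP P.not_dvd_index hind θ hθ hθP T hT

/-- the principal block case -/
theorem le_blockRank_principal {G : Type*} [Group G] [Finite G] (p : ℕ) [Fact p.Prime]
    (M : Ideal AlgInt) (hM : IsPModular p M) (P : Sylow p G) (hP : Nat.card P = p) :
    (Subgroup.centralizer ((P : Subgroup G) : Set G)).relIndex
      (Subgroup.normalizer ((P : Subgroup G) : Set G)) ≤ blockRank p (principalBlock M G) := by
  have : Fintype G := Fintype.ofFinite G
  have hPC : (P : Subgroup G) ≤ Subgroup.centralizer ((P : Subgroup G) : Set G) :=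
    le_Cn_of_prime_card hP
  apply le_blockRank p M hM P hP (principalBlock M G) (principalBlock M _)
    (Cfsg.Agent.Lib.Helper21.isInducedBlock_principal hM P.2 hPC le_rfl) (trivIrr _)
    (trivIrr_mem_principalBlock hM) (fun _ _ => rfl)
  intro g
  exact ⟨fun h => ⟨h, fun _ _ _ => rfl⟩, fun h => h.1⟩

end Cfsg.Agent.Lib.Helper80
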