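import Cfsg.Agent.Lib.Helper80.BRPat2
import Cfsg.Agent.Lib.Helper78.SelfCent2
import Cfsg.Agent.S4508

/-! Brauer--Reynolds ladder: parity of `t`, and the case `ε = 1`. -/

set_option autoImplicit false
set_option linter.unusedVariables false
set_option linter.unusedSectionVars false

namespace Cfsg.Agent.Lib.Helper80.BR

open Cfsg Cfsg.Agent.Lib Cfsg.Agent.Lib.Helper67.BR Cfsg.Agent.Lib.Helper9.BR Cfsg.Agent.Lib.Helper41.BR

variable {G : Type*} [Group G] [Finite G] [Fintype (IrrCharacter G)]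

/-- the degree relation -/
theorem Pat.rel_one {p n : ℕ} [hp : Fact p.Prime] {A B Y Z : Finset (IrrCharacter G)} {ε : ℤ}
    {y e t : ℕ} (H : Pat p n A B Y Z ε y e t) :
    ε * (y : ℤ) = 1 + (A.card : ℤ) * (1 + n * p) - (B.card : ℤ) * ((p : ℤ) - 1) := by
  have hp1 : 1 ≤ p := hp.out.one_lt.le
  have ht0 : 0 < Y.card := by
    rw [H.cardY]
    rcases Nat.eq_zero_or_pos t with h | h
    · have := H.het
      rw [h, zero_mul] at this
      have := hp.out.two_le
      omega
    · exact h
  obtain ⟨θ, hθ⟩ := Finset.card_pos.1 ht0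
  have h := H.rel θ hθ 1 (not_dvd_orderOf_one p)
  simp only [irr_one] at h
  have eA : ∑ χ ∈ A, ((charDegree (χ : G → ℂ) : ℕ) : ℂ) = (A.card : ℂ) * ((1 + n * p : ℕ) : ℂ) := by
    rw [Finset.sum_congr rfl (fun χ hχ => by rw [H.degA χ hχ]), Finset.sum_const, nsmul_eq_mul]
  have eB : ∑ χ ∈ B, ((charDegree (χ : G → ℂ) : ℕ) : ℂ) = (B.card : ℂ) * ((p - 1 : ℕ) : ℂ) := by
    rw [Finset.sum_congr rfl (fun χ hχ => by rw [H.degB χ hχ]), Finset.sum_const, nsmul_eq_mul]
  rw [H.degY θ hθ, eA, eB] at h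
  push_cast [Nat.cast_sub hp1] at h
  exact_mod_cast h

theorem Pat.t_even {p n : ℕ} [hp : Fact p.Prime] {A B Y Z : Finset (IrrCharacter G)} {ε : ℤ}
    {y e t : ℕ} (H : Pat p n A B Y Z ε y e t) (hperf : commutator G = ⊤) (z : G)
    (hz : orderOf z = p) (hC : Subgroup.centralizer ({z} : Set G) = Subgroup.zpowers z)
    (hB : 0 < B.card) : Even t := by
  obtain ⟨χ, hχ⟩ := Finset.card_pos.1 hB
  have hp1 : 1 ≤ p := hp.out.one_lt.le
  have h1 := Cfsg.Agent.S4508.result p hp.out z hz hC _ rfl χ (by rw [H.degB χ hχ]; omega)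
  have h2 := Helper78.sc_card_classes hp.out hz hC
  have h3 : (Subgroup.zpowers z).relIndex
      (Subgroup.normalizer ((Subgroup.zpowers z : Subgroup G) : Set G)) = e := by
    have h4 := Subgroup.relIndex_mul_relIndex ⊥ (Subgroup.zpowers z)
      (Subgroup.normalizer ((Subgroup.zpowers z : Subgroup G) : Set G)) bot_le
      Subgroup.le_normalizer
    rw [Subgroup.relIndex_bot_left, Subgroup.relIndex_bot_left, H.cardN z hz, Nat.card_zpowers,
      hz] at h4
    exact Nat.eq_of_mul_eq_mul_left hp.out.pos h4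
  rw [h3, ← H.het] at h2
  have he0 : 0 < e := by have := H.he2; omega
  have h5 := Nat.eq_of_mul_eq_mul_right he0 h2
  rw [h5] at h1
  rcases h1 with h | h
  · exact h
  · rw [hperf, Subgroup.index_top] at h
    exact absurd h (by decide)

/-- the case `ε = 1`. -/
theorem Pat.caseA {p n : ℕ} [hp : Fact p.Prime] {A B Y Z : Finset (IrrCharacter G)} {ε : ℤ}
    {y e t : ℕ} (H : Pat p n A B Y Z ε y e t) (hperf : commutator G = ⊤) (z : G)
    (hz : orderOf z = p) (hC : Subgroup.centralizer ({z} : Set G) = Subgroup.zpowers z)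
    (hε : ε = 1) : n = 1 ∧ t = 2 := by
  classical
  have := Fintype.ofFinite G
  have hp1 : 1 ≤ p := hp.out.one_lt.le
  have hty : t * y = p - 1 := by
    rcases H.epsy with h | h
    · rw [hε] at h; exact absurd h.1 (by norm_num)
    · exact h.2
  have ht0 : 0 < t := by
    rcases Nat.eq_zero_or_pos t with h | h
    · have := H.het
      rw [h, zero_mul] at this
      have := hp.out.two_le
      omega
    · exact h
  have hye : y = e := by
    rw [← H.het] at hty
    exact Nat.eq_of_mul_eq_mul_left ht0 hty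
  have hrel := H.rel_one
  rw [hε, hye] at hrel
  set a := A.card with ha
  set b := B.card with hb
  have hX : (1 : ℤ) + a + b = e := by exact_mod_cast H.cardX
  have hpZ : (0 : ℤ) < (p : ℤ) := by exact_mod_cast hp.out.pos
  have hban : (b : ℤ) = a * n := by
    have : (p : ℤ) * ((b : ℤ) - a * n) = 0 := by linear_combination hX + hrel
    rcases mul_eq_zero.1 this with h | h
    · omega
    · linarith
  have hban' : b = a * n := by exact_mod_cast hban
  have he2 := H.he2
  have hn1 := H.hn1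
  have hX' := H.cardX
  have ha1 : 1 ≤ a := by
    rcases Nat.eq_zero_or_pos a with h | h
    · rw [h, zero_mul] at hban'
      omega
    · exact h
  have hb1 : 0 < b := by
    rw [hban']; exact Nat.mul_pos ha1 hn1
  have hev := H.t_even hperf z hz hC hb1
  have ht2 : 2 ≤ t := by
    obtain ⟨k, hk⟩ := hev
    omega
  obtain ⟨θ₁, hθ₁, θ₂, hθ₂, hne⟩ := Finset.one_lt_card.1 (by rw [H.cardY]; omega : 1 < Y.card)
  have hten := tensor_bound θ₁ θ₂ hne B (fun g => p ∣ orderOf g)
    (fun g hg => H.eqY θ₁ hθ₁ θ₂ hθ₂ g hg) (fun χ hχ g hg => H.valB χ hχ g hg)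
  rw [Finset.sum_congr rfl (fun χ hχ => H.degB χ hχ), Finset.sum_const, smul_eq_mul,
    H.degY θ₁ hθ₁, H.degY θ₂ hθ₂, hye, ← H.het, ← hb, hban'] at hten
  have he0 : 0 < e := by omega
  have h1 : a * n * t ≤ e := by
    have : (a * n * t) * e ≤ e * e := by
      calc (a * n * t) * e = a * n * (t * e) := by ring
        _ ≤ e * e := hten
    exact Nat.le_of_mul_le_mul_right this he0
  have he : e = 1 + a + a * n := by omega
  have han : 1 ≤ a * n := Nat.mul_pos ha1 hn1
  have haan : a ≤ a * n := Nat.le_mul_of_pos_right a hn1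
  have ht4 : t < 4 := by
    by_contra hcon
    have : a * n * 4 ≤ a * n * t := Nat.mul_le_mul_left _ (by omega)
    omega
  have ht : t = 2 := by
    obtain ⟨k, hk⟩ := hev
    omega
  refine ⟨?_, ht⟩
  rw [ht] at h1
  have h2 : a * n ≤ 1 + a := by omega
  by_contra hn
  have hn2 : 2 ≤ n := by omega
  have h3 : a * 2 ≤ a * n := Nat.mul_le_mul_left a hn2
  have ha : a = 1 := by omega
  rw [ha] at h2 he
  have hn' : n = 2 := by omega
  rw [hn'] at he
  have hp9 : p = 9 := by
    have := H.het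
    rw [ht, he] at this
    omega
  have := hp.out
  rw [hp9] at this
  exact absurd this (by norm_num)

end Cfsg.Agent.Lib.Helper80.BR
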