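import Cfsg.Agent.Lib.Helper80.BRSums
import Cfsg.Agent.Lib.Helper80.BRCaseA

/-! Brauer--Reynolds ladder: the case `ε = -1`, numerics and multiplicities. -/

set_option autoImplicit false
set_option linter.unusedVariables false
set_option linter.unusedSectionVars false

namespace Cfsg.Agent.Lib.Helper80.BR

open Cfsg Cfsg.Agent.Lib Cfsg.Agent.Lib.Helper67.BR Cfsg.Agent.Lib.Helper9.BR Cfsg.Agent.Lib.Helper41.BR
open scoped ComplexConjugate

variable {G : Type*} [Group G] [Fintype G] [Fintype (IrrCharacter G)]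

/-- numerics of the case `ε = -1`. -/
theorem Pat.numB {p n : ℕ} [hp : Fact p.Prime] {A B Y Z : Finset (IrrCharacter G)} {ε : ℤ}
    {y e t : ℕ} (H : Pat p n A B Y Z ε y e t) (hε : ε = -1) :
    t * y = 1 + n * p ∧ ∃ c : ℕ, 1 ≤ c ∧ n + 1 = c * t ∧ e = 1 + c + A.card * (n + 1) ∧
      y + e = c * p ∧ B.card = c + A.card * n := by
  have hp1 : 1 ≤ p := hp.out.one_lt.le
  have hty : t * y = 1 + n * p := by
    rcases H.epsy with h | h
    · exact h.2
    · rw [hε] at h; exact absurd h.1 (by norm_num)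
  refine ⟨hty, ?_⟩
  have hrel := H.rel_one
  rw [hε] at hrel
  set a := A.card with ha
  set b := B.card with hb
  have hX : (1 : ℤ) + a + b = e := by exact_mod_cast H.cardX
  have hpZ : (0 : ℤ) < (p : ℤ) := by exact_mod_cast hp.out.pos
  have hetZ : (t : ℤ) * e = p - 1 := by
    have := H.het
    have h2 : ((t * e : ℕ) : ℤ) = ((p - 1 : ℕ) : ℤ) := by rw [this]
    rw [Nat.cast_sub hp1] at h2
    exact_mod_cast h2
  have htyZ : (t : ℤ) * y = 1 + n * p := by exact_mod_cast hty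
  have h1 : (b : ℤ) * t - (a * t + 1) * n = 1 := by
    have : (p : ℤ) * ((b : ℤ) * t - (a * t + 1) * n - 1) = 0 := by
      linear_combination (t : ℤ) * hrel + htyZ + (t : ℤ) * hX + hetZ
    rcases mul_eq_zero.1 this with h | h
    · omega
    · linarith
  have ht0 : 0 < t := by
    rcases Nat.eq_zero_or_pos t with h | h
    · have := H.het
      rw [h, zero_mul] at this
      have := hp.out.two_le
      omega
    · exact h
  have htZ : (0 : ℤ) < (t : ℤ) := by exact_mod_cast ht0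
  have h2 : (n : ℤ) + 1 = ((b : ℤ) - a * n) * t := by linear_combination (-1 : ℤ) * h1
  have hcpos : 0 < (b : ℤ) - a * n := by
    by_contra hcon
    have : ((b : ℤ) - a * n) * t ≤ 0 := mul_nonpos_of_nonpos_of_nonneg (by linarith) htZ.le
    have hn0 : (0 : ℤ) ≤ (n : ℤ) := Int.natCast_nonneg _
    linarith
  obtain ⟨c, hc⟩ := Int.eq_ofNat_of_zero_le hcpos.le
  have hc1 : (1 : ℤ) ≤ (c : ℤ) := by rw [← hc]; linarith
  have hb' : (b : ℤ) = c + a * n := by linarith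
  rw [hc] at h2
  refine ⟨c, by exact_mod_cast hc1, by exact_mod_cast h2, ?_, ?_, by exact_mod_cast hb'⟩
  · have : (e : ℤ) = 1 + c + a * (n + 1) := by linarith
    exact_mod_cast this
  · have : (t : ℤ) * ((y : ℤ) + e - c * p) = 0 := by
      linear_combination htyZ + hetZ + (p : ℤ) * h2
    rcases mul_eq_zero.1 this with h | h
    · omega
    · have h3 : (y : ℤ) + e = c * p := by linarith
      exact_mod_cast h3


/-- values on `N \ P` in the case `ε = -1`. -/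
structure MultB (p n e c : ℕ) (z : G) (A B Y Z : Finset (IrrCharacter G))
    (f : IrrCharacter G → ℕ) : Prop where
  valB : ∀ χ ∈ B, ∀ g ∈ Subgroup.normalizer ((Subgroup.zpowers z : Subgroup G) : Set G),
    g ∉ Subgroup.zpowers z → (χ : G → ℂ) g = 0
  bndA : ∀ χ ∈ A, ∀ g ∈ Subgroup.normalizer ((Subgroup.zpowers z : Subgroup G) : Set G),
    g ∉ Subgroup.zpowers z → ‖(χ : G → ℂ) g‖ ≤ ((n + 1 : ℕ) : ℝ)
  bndY : ∀ χ ∈ Y, ∀ g ∈ Subgroup.normalizer ((Subgroup.zpowers z : Subgroup G) : Set G),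
    g ∉ Subgroup.zpowers z → ‖(χ : G → ℂ) g‖ ≤ (c : ℝ)
  degZ : ∀ χ ∈ Z, charDegree (χ : G → ℂ) = p * f χ
  valZ : ∀ χ ∈ Z, ∀ g ∈ Subgroup.normalizer ((Subgroup.zpowers z : Subgroup G) : Set G),
    g ∉ Subgroup.zpowers z → (χ : G → ℂ) g = (f χ : ℂ)
  sumZ : ∑ χ ∈ Z, (f χ) ^ 2 = n
  star : ∀ w ∈ Subgroup.normalizer ((Subgroup.zpowers z : Subgroup G) : Set G),
    w ∉ Subgroup.zpowers z → Nat.card (Subgroup.centralizer ({w} : Set G)) *
      Nat.card {g : G // g ∈ Subgroup.normalizer ((Subgroup.zpowers z : Subgroup G) : Set G) ∧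
        IsConj w g} = p * e * (n + 1)

theorem Pat.multB {p n : ℕ} [hp : Fact p.Prime] {A B Y Z : Finset (IrrCharacter G)} {ε : ℤ}
    {y e t : ℕ} (H : Pat p n A B Y Z ε y e t) (hε : ε = -1) (z : G)
    (hz : orderOf z = p) (hC : Subgroup.centralizer ({z} : Set G) = Subgroup.zpowers z)
    {c : ℕ} (hc1 : 1 ≤ c) (hnc : n + 1 = c * t) (hec : e = 1 + c + A.card * (n + 1))
    (hty : t * y = 1 + n * p) :
    ∃ f : IrrCharacter G → ℕ, MultB p n e c z A B Y Z f := by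
  classical
  have hp1 : 1 ≤ p := hp.out.one_lt.le
  have hp0 : (p : ℂ) ≠ 0 := by exact_mod_cast hp.out.ne_zero
  set P := Subgroup.zpowers z with hPdef
  set N := Subgroup.normalizer ((Subgroup.zpowers z : Subgroup G) : Set G) with hNdef
  have hcN : Nat.card N = p * e := H.cardN z hz
  have hN0 : (Nat.card N : ℂ) ≠ 0 := by exact_mod_cast Nat.card_pos.ne'
  obtain ⟨f, m, hfm⟩ := exists_fc p z hz hC
  have hTP : ∀ χ : IrrCharacter G, ∑ u : P, (χ : G → ℂ) u = (p : ℂ) * f χ := fun χ => (hfm χ).1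
  obtain ⟨cN, hcNdef⟩ : ∃ cN : ℂ, cN = (Nat.card N : ℂ) := ⟨_, rfl⟩
  have hTN : ∀ χ : IrrCharacter G, ∑ g : N, (χ : G → ℂ) g = cN * m χ := by
    intro χ; rw [hcNdef]; exact (hfm χ).2.1
  have hcNC : cN = (p : ℂ) * e := by rw [hcNdef, hcN]; push_cast; ring
  have hN0' : cN ≠ 0 := by rw [hcNdef]; exact hN0
  have hmf := fun χ => (hfm χ).2.2.1
  have hbd := fun χ => (hfm χ).2.2.2.1
  have heq := fun χ => (hfm χ).2.2.2.2
  set T := Helper82.trivIrr G with hT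
  -- values of f
  have fT : f T = 1 := by
    have h := hTP T
    rw [sum_P_const p z hz (T : G → ℂ) 1 (fun g _ => rfl), Helper82.trivIrr_apply] at h
    have h2 : (p : ℂ) * 1 = (p : ℂ) * f T := by rw [← h]; ring
    have h3 := mul_left_cancel₀ hp0 h2
    exact_mod_cast h3.symm
  have mT : m T = 1 := by
    have h := hTN T
    have h1 : ∑ g : N, (T : G → ℂ) g = (Nat.card N : ℂ) := by
      simp [hT, Helper82.trivIrr_apply, Nat.card_eq_fintype_card]
    rw [h1, ← hcNdef] at h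
    have h2 : cN * 1 = cN * m T := by rw [← h]; ring
    have h3 := mul_left_cancel₀ hN0' h2
    exact_mod_cast h3.symm
  have fA : ∀ χ ∈ A, f χ = n + 1 := by
    intro χ hχ
    have h := hTP χ
    rw [sum_P_const p z hz (χ : G → ℂ) 1 (H.valA χ hχ), irr_one, H.degA χ hχ] at h
    have h2 : (p : ℂ) * ((n + 1 : ℕ) : ℂ) = (p : ℂ) * f χ := by
      rw [← h]; push_cast; ring
    have h3 := mul_left_cancel₀ hp0 h2
    exact_mod_cast h3.symm
  have fB : ∀ χ ∈ B, f χ = 0 := by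
    intro χ hχ
    have h := hTP χ
    rw [sum_P_const p z hz (χ : G → ℂ) (-1) (H.valB χ hχ), irr_one, H.degB χ hχ] at h
    have h2 : (p : ℂ) * ((0 : ℕ) : ℂ) = (p : ℂ) * f χ := by
      rw [← h]; push_cast [Nat.cast_sub hp1]; ring
    have h3 := mul_left_cancel₀ hp0 h2
    exact_mod_cast h3.symm
  have fZ : ∀ χ ∈ Z, charDegree (χ : G → ℂ) = p * f χ := by
    intro χ hχ
    have h := hTP χ
    rw [sum_P_const p z hz (χ : G → ℂ) 0 (H.valZ χ hχ), irr_one] at h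
    have h2 : ((charDegree (χ : G → ℂ) : ℕ) : ℂ) = ((p * f χ : ℕ) : ℂ) := by
      push_cast; rw [← h]; ring
    exact_mod_cast h2
  have sumfY : ∑ θ ∈ Y, f θ = n + 1 := by
    have h1 : ∑ θ ∈ Y, ∑ u : P, (θ : G → ℂ) u = ∑ θ ∈ Y, (p : ℂ) * f θ :=
      Finset.sum_congr rfl (fun θ _ => hTP θ)
    rw [Finset.sum_comm, sum_P_const p z hz (fun g => ∑ θ ∈ Y, (θ : G → ℂ) g) (-(ε : ℂ)) H.sumY,
      ← Finset.mul_sum] at h1
    have h2 : ∑ θ ∈ Y, (θ : G → ℂ) 1 = ((t * y : ℕ) : ℂ) := by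
      rw [Finset.sum_congr rfl (fun θ hθ => by rw [irr_one, H.degY θ hθ]), Finset.sum_const,
        H.cardY, nsmul_eq_mul]
      push_cast; ring
    rw [h2, hty, hε] at h1
    have h3 : (p : ℂ) * ((n + 1 : ℕ) : ℂ) = (p : ℂ) * ((∑ θ ∈ Y, f θ : ℕ) : ℂ) := by
      push_cast
      push_cast at h1
      rw [← h1]; ring
    have h4 := mul_left_cancel₀ hp0 h3
    exact_mod_cast h4.symm
  have vB : ∀ χ ∈ B, ∀ g ∈ N, g ∉ P → (χ : G → ℂ) g = 0 := by
    intro χ hχ g hg hgP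
    have := hbd χ g hg hgP
    rw [fB χ hχ] at this
    simpa using this
  -- the key relation
  have key : ∀ θ ∈ Y, e * (1 + m θ + ∑ χ ∈ A, m χ) = 1 + f θ + A.card * (n + 1) := by
    intro θ hθ
    have h0 : ∀ g ∈ N, g ∉ P →
        (fun g => (T : G → ℂ) g + (θ : G → ℂ) g + ∑ χ ∈ A, (χ : G → ℂ) g) g = 0 := by
      intro g hg hgP
      have h1 := H.rel θ hθ g (regular_of_sc p z hz hC g hg hgP)
      rw [hε, Finset.sum_eq_zero (fun χ hχ => vB χ hχ g hg hgP)] at h1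
      simp only [Helper82.trivIrr_apply, hT]
      push_cast at h1
      linear_combination (-1 : ℂ) * h1
    have h1 := sum_N_eq_sum_P P N Subgroup.le_normalizer _ h0
    have eA : ∑ i ∈ A, ((f i : ℕ) : ℂ) = (A.card : ℂ) * ((n + 1 : ℕ) : ℂ) := by
      rw [Finset.sum_congr rfl (fun χ hχ => by rw [fA χ hχ]), Finset.sum_const, nsmul_eq_mul]
    simp only [Finset.sum_add_distrib] at h1
    rw [Finset.sum_comm, Finset.sum_comm (s := (Finset.univ : Finset P)), hTN, hTN, hTP, hTP,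
      Finset.sum_congr rfl (fun χ _ => hTN χ), Finset.sum_congr rfl (fun χ _ => hTP χ),
      fT, mT, hcNC, ← Finset.mul_sum, ← Finset.mul_sum, eA] at h1
    have h2 : (p : ℂ) * ((e * (1 + m θ + ∑ χ ∈ A, m χ) : ℕ) : ℂ) =
        (p : ℂ) * ((1 + f θ + A.card * (n + 1) : ℕ) : ℂ) := by
      push_cast
      push_cast at h1
      linear_combination h1
    have h3 := mul_left_cancel₀ hp0 h2
    exact_mod_cast h3
  have he0 : 0 < e := by have := H.he2; omega
  have fY_ge : ∀ θ ∈ Y, c ≤ f θ := by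
    intro θ hθ
    have h := key θ hθ
    have hK : e * 1 ≤ e * (1 + m θ + ∑ χ ∈ A, m χ) := Nat.mul_le_mul_left e (by omega)
    omega
  have fY : ∀ θ ∈ Y, f θ = c := by
    have hs : ∑ θ ∈ Y, c = ∑ θ ∈ Y, f θ := by
      rw [sumfY, Finset.sum_const, H.cardY, smul_eq_mul, hnc, mul_comm]
    intro θ hθ
    exact ((Finset.sum_eq_sum_iff_of_le fY_ge).1 hs θ hθ).symm
  have mzero : ∀ θ ∈ Y, m θ = 0 ∧ ∑ χ ∈ A, m χ = 0 := by
    intro θ hθ
    have h := key θ hθ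
    rw [fY θ hθ, ← hec] at h
    have h2 : 1 + m θ + ∑ χ ∈ A, m χ = 1 := Nat.eq_of_mul_eq_mul_left he0 (by rw [h, mul_one])
    omega
  obtain ⟨θ0, hθ0⟩ : Y.Nonempty := by
    rw [← Finset.card_pos, H.cardY]
    rcases Nat.eq_zero_or_pos t with h | h
    · rw [h, mul_zero] at hnc; omega
    · exact h
  have mY : ∀ θ ∈ Y, m θ = 0 := fun θ hθ => (mzero θ hθ).1
  have mA : ∀ χ ∈ A, m χ = 0 := fun χ hχ => (Finset.sum_eq_zero_iff.1 (mzero θ0 hθ0).2) χ hχ
  have mB : ∀ χ ∈ B, m χ = 0 := by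
    intro χ hχ
    have := hmf χ
    rw [fB χ hχ] at this
    omega
  have hGc : (Nat.card G : ℂ) = (p : ℂ) * e * (1 + n * p) := by
    rw [H.cardG]; push_cast; ring
  have hecC : (e : ℂ) = 1 + c + (A.card : ℂ) * (n + 1) := by exact_mod_cast hec
  have htyC : (t : ℂ) * y = 1 + n * p := by exact_mod_cast hty
  -- first sum
  have S1 : ∑ χ ∈ Z, (f χ) ^ 2 = n := by
    have h := sum_irr_TH_deg (G := G) P
    rw [H.split] at h
    have e1 : ∑ χ ∈ A, (∑ g : P, (χ : G → ℂ) g) * (χ : G → ℂ) 1 =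
        (A.card : ℂ) * ((p : ℂ) * (n + 1) * (1 + n * p)) := by
      rw [Finset.sum_congr rfl (fun χ hχ => by
        rw [hTP χ, fA χ hχ, irr_one, H.degA χ hχ]), Finset.sum_const, nsmul_eq_mul]
      push_cast; ring
    have e2 : ∑ χ ∈ B, (∑ g : P, (χ : G → ℂ) g) * (χ : G → ℂ) 1 = 0 := by
      apply Finset.sum_eq_zero
      intro χ hχ
      rw [hTP χ, fB χ hχ]; simp
    have e3 : ∑ χ ∈ Y, (∑ g : P, (χ : G → ℂ) g) * (χ : G → ℂ) 1 =
        (t : ℂ) * ((p : ℂ) * c * y) := by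
      rw [Finset.sum_congr rfl (fun χ hχ => by
        rw [hTP χ, fY χ hχ, irr_one, H.degY χ hχ]), Finset.sum_const, nsmul_eq_mul, H.cardY]
    have e4 : ∑ χ ∈ Z, (∑ g : P, (χ : G → ℂ) g) * (χ : G → ℂ) 1 =
        (p : ℂ) ^ 2 * ((∑ χ ∈ Z, (f χ) ^ 2 : ℕ) : ℂ) := by
      push_cast
      rw [Finset.mul_sum]
      apply Finset.sum_congr rfl
      intro χ hχ
      rw [hTP χ, irr_one, fZ χ hχ]
      push_cast; ring
    rw [e1, e2, e3, e4, hTP, fT, hGc, Helper82.trivIrr_apply, hecC] at h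
    have h2 : (p : ℂ) ^ 2 * ((∑ χ ∈ Z, (f χ) ^ 2 : ℕ) : ℂ) = (p : ℂ) ^ 2 * (n : ℂ) := by
      push_cast at h ⊢
      linear_combination h - (p : ℂ) * c * htyC
    have h3 := mul_left_cancel₀ (pow_ne_zero 2 hp0) h2
    exact_mod_cast h3
  have S2 : ∑ χ ∈ Z, m χ * f χ = n := by
    have h := sum_irr_TH_deg (G := G) N
    rw [H.split] at h
    have e1 : ∑ χ ∈ A, (∑ g : N, (χ : G → ℂ) g) * (χ : G → ℂ) 1 = 0 := by
      apply Finset.sum_eq_zero
      intro χ hχ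
      rw [hTN χ, mA χ hχ]; simp
    have e2 : ∑ χ ∈ B, (∑ g : N, (χ : G → ℂ) g) * (χ : G → ℂ) 1 = 0 := by
      apply Finset.sum_eq_zero
      intro χ hχ
      rw [hTN χ, mB χ hχ]; simp
    have e3 : ∑ χ ∈ Y, (∑ g : N, (χ : G → ℂ) g) * (χ : G → ℂ) 1 = 0 := by
      apply Finset.sum_eq_zero
      intro χ hχ
      rw [hTN χ, mY χ hχ]; simp
    have e4 : ∑ χ ∈ Z, (∑ g : N, (χ : G → ℂ) g) * (χ : G → ℂ) 1 =
        cN * ((p : ℂ) * ((∑ χ ∈ Z, m χ * f χ : ℕ) : ℂ)) := by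
      push_cast
      rw [Finset.mul_sum, Finset.mul_sum]
      apply Finset.sum_congr rfl
      intro χ hχ
      rw [hTN χ, irr_one, fZ χ hχ]
      push_cast; ring
    rw [e1, e2, e3, e4, hTN, mT, hGc, Helper82.trivIrr_apply] at h
    have h2 : cN * ((p : ℂ) * ((∑ χ ∈ Z, m χ * f χ : ℕ) : ℂ)) =
        cN * ((p : ℂ) * (n : ℂ)) := by
      have h5 : cN * ((1 : ℕ) : ℂ) * 1 + 0 + 0 + 0 +
          cN * ((p : ℂ) * ((∑ χ ∈ Z, m χ * f χ : ℕ) : ℂ)) =
          cN * (1 + n * p) := by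
        rw [h, hcNC]
      linear_combination h5
    have h3 := mul_left_cancel₀ hp0 (mul_left_cancel₀ hN0' h2)
    exact_mod_cast h3
  have mZ : ∀ χ ∈ Z, m χ = f χ := by
    have hle : ∀ χ ∈ Z, m χ * f χ ≤ (f χ) ^ 2 := by
      intro χ _
      rw [sq]
      exact Nat.mul_le_mul_right _ (hmf χ)
    intro χ hχ
    have h := (Finset.sum_eq_sum_iff_of_le hle).1 (by rw [S1, S2]) χ hχ
    have hf0 : 0 < f χ := by
      have h1 := Helper82.isIrr_charDegree_pos χ.2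
      rw [fZ χ hχ] at h1
      exact Nat.pos_of_mul_pos_left h1 |> fun _ => by
        rcases Nat.eq_zero_or_pos (f χ) with h0 | h0
        · rw [h0, mul_zero] at h1; omega
        · exact h0
    rw [sq] at h
    exact Nat.eq_of_mul_eq_mul_right hf0 h
  refine ⟨f, vB, ?_, ?_, fZ, ?_, S1, ?_⟩
  · intro χ hχ g hg hgP
    have := hbd χ g hg hgP
    rwa [fA χ hχ] at this
  · intro χ hχ g hg hgP
    have := hbd χ g hg hgP
    rwa [fY χ hχ] at this
  · intro χ hχ g hg hgP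
    exact heq χ (mZ χ hχ) g hg hgP
  · intro w hw hwP
    have h := sum_irr_conj_TH (G := G) N w
    rw [H.split] at h
    have e1 : ∑ χ ∈ A, (χ : G → ℂ) w * conj (∑ g : N, (χ : G → ℂ) g) = 0 := by
      apply Finset.sum_eq_zero
      intro χ hχ
      rw [hTN χ, mA χ hχ]; simp
    have e2 : ∑ χ ∈ B, (χ : G → ℂ) w * conj (∑ g : N, (χ : G → ℂ) g) = 0 := by
      apply Finset.sum_eq_zero
      intro χ hχ
      rw [hTN χ, mB χ hχ]; simp
    have e3 : ∑ χ ∈ Y, (χ : G → ℂ) w * conj (∑ g : N, (χ : G → ℂ) g) = 0 := by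
      apply Finset.sum_eq_zero
      intro χ hχ
      rw [hTN χ, mY χ hχ]; simp
    have hcj : conj cN = cN := by rw [hcNdef]; simp
    have e4 : ∑ χ ∈ Z, (χ : G → ℂ) w * conj (∑ g : N, (χ : G → ℂ) g) =
        cN * ((∑ χ ∈ Z, (f χ) ^ 2 : ℕ) : ℂ) := by
      push_cast
      rw [Finset.mul_sum]
      apply Finset.sum_congr rfl
      intro χ hχ
      rw [hTN χ, mZ χ hχ, heq χ (mZ χ hχ) w hw hwP]
      simp only [map_mul, Complex.conj_natCast, hcj]
      ring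
    rw [e1, e2, e3, e4, hTN, mT, S1, Helper82.trivIrr_apply] at h
    have h2 : ((Nat.card (Subgroup.centralizer ({w} : Set G)) *
        Nat.card {g : G // g ∈ N ∧ IsConj w g} : ℕ) : ℂ) = ((p * e * (n + 1) : ℕ) : ℂ) := by
      rw [Nat.cast_mul, ← h]
      simp only [map_mul, Complex.conj_natCast, hcj]
      rw [hcNC]
      push_cast
      ring
    exact_mod_cast h2

end Cfsg.Agent.Lib.Helper80.BR
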