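import Cfsg.Agent.Lib.Helper80.BRCaseB1

/-! Brauer--Reynolds ladder: the case `ε = -1`, `c = 1`. -/

set_option autoImplicit false
set_option linter.unusedVariables false
set_option linter.unusedSectionVars false

namespace Cfsg.Agent.Lib.Helper80.BR

open Cfsg Cfsg.Agent.Lib Cfsg.Agent.Lib.Helper67.BR Cfsg.Agent.Lib.Helper9.BR Cfsg.Agent.Lib.Helper41.BR
open scoped ComplexConjugate

variable {G : Type*} [Group G] [Fintype G] [Fintype (IrrCharacter G)]

theorem arith_c_one {p n e t c a : ℕ} (hp : p.Prime) (hc1 : 1 ≤ c) (hnc : n + 1 = c * t)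
    (hec : e = 1 + c + a * (n + 1)) (het : t * e = p - 1)
    (hd : e * (n + 1) ∣ p * e * (1 + n * p)) : c = 1 := by
  have he0 : 0 < e := by omega
  have ht0 : 0 < t := by
    rcases Nat.eq_zero_or_pos t with h | h
    · rw [h, mul_zero] at hnc; omega
    · exact h
  have h1 : n + 1 ∣ p * (1 + n * p) := by
    have : e * (n + 1) ∣ e * (p * (1 + n * p)) := by
      have h : p * e * (1 + n * p) = e * (p * (1 + n * p)) := by ring
      rwa [h] at hd
    exact Nat.dvd_of_mul_dvd_mul_left he0 this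
  have hlt : n + 1 < p := by
    have h2 : c * t < e * t := Nat.mul_lt_mul_of_pos_right (by omega) ht0
    have h3 : e * t = p - 1 := by rw [mul_comm]; exact het
    omega
  have hcop : Nat.Coprime (n + 1) p := by
    rw [Nat.coprime_comm, Nat.Prime.coprime_iff_not_dvd hp]
    intro h
    exact absurd (Nat.le_of_dvd (by omega) h) (by omega)
  have h2 : n + 1 ∣ 1 + n * p := hcop.dvd_of_dvd_mul_left h1
  have h3 : n + 1 ∣ p - 1 := by
    have h4 : n + 1 ∣ (n + 1) * p := Dvd.intro _ rfl
    have h5 : (n + 1) * p - (1 + n * p) = p - 1 := by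
      have : (n + 1) * p = n * p + p := by ring
      have := hp.one_lt
      omega
    rw [← h5]
    exact Nat.dvd_sub h4 h2
  rw [← het, hnc, mul_comm c t] at h3
  have h4 : c ∣ e := Nat.dvd_of_mul_dvd_mul_left ht0 h3
  have h5 : c ∣ c + a * (n + 1) := by
    rw [hnc]
    exact Dvd.dvd.add dvd_rfl (Dvd.intro_left (a * t) (by ring))
  have h6 : c ∣ 1 := by
    have h7 : e = (c + a * (n + 1)) + 1 := by omega
    rw [h7] at h4
    exact (Nat.dvd_add_right h5).1 h4
  exact Nat.dvd_one.1 h6

/-- the generator of a complement -/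
theorem exists_gen {p n : ℕ} [hp : Fact p.Prime] {A B Y Z : Finset (IrrCharacter G)} {ε : ℤ}
    {y e t : ℕ} (H : Pat p n A B Y Z ε y e t) (z : G)
    (hz : orderOf z = p) (hC : Subgroup.centralizer ({z} : Set G) = Subgroup.zpowers z) :
    ∃ w ∈ Subgroup.normalizer ((Subgroup.zpowers z : Subgroup G) : Set G), orderOf w = e ∧
      orderOf w * p = Nat.card (Subgroup.normalizer ((Subgroup.zpowers z : Subgroup G) : Set G)) ∧
      ∀ v ∈ Subgroup.zpowers w, v ≠ 1 →
        v ∈ Subgroup.normalizer ((Subgroup.zpowers z : Subgroup G) : Set G) ∧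
        v ∉ Subgroup.zpowers z := by
  obtain ⟨w, hw, hcard, hdvd, -⟩ := nstr p z hz hC
  have hwe : orderOf w = e := by
    have h := hcard
    rw [H.cardN z hz, mul_comm] at h
    exact Nat.eq_of_mul_eq_mul_left hp.out.pos h
  refine ⟨w, hw, hwe, hcard, ?_⟩
  intro v hv hv1
  refine ⟨(Subgroup.zpowers_le.2 hw) hv, ?_⟩
  intro hvz
  have h1 : orderOf v ∣ p := by rw [← hz]; exact orderOf_dvd_of_mem_zpowers hvz
  have h2 : orderOf v ∣ p - 1 := (orderOf_dvd_of_mem_zpowers hv).trans hdvd
  rcases (Nat.dvd_prime hp.out).1 h1 with h | h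
  · exact hv1 (orderOf_eq_one_iff.1 h)
  · rw [h] at h2
    have := Nat.le_of_dvd (by have := hp.out.two_le; omega) h2
    have := hp.out.two_le
    omega

theorem Pat.c_one {p n : ℕ} [hp : Fact p.Prime] {A B Y Z : Finset (IrrCharacter G)} {ε : ℤ}
    {y e t : ℕ} (H : Pat p n A B Y Z ε y e t) (z : G)
    (hz : orderOf z = p) (hC : Subgroup.centralizer ({z} : Set G) = Subgroup.zpowers z)
    {c : ℕ} (hc1 : 1 ≤ c) (hnc : n + 1 = c * t) (hec : e = 1 + c + A.card * (n + 1))
    {f : IrrCharacter G → ℕ} (M : MultB p n e c z A B Y Z f) : c = 1 := by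
  obtain ⟨w, hw, hwe, hcard, hE⟩ := exists_gen H z hz hC
  have hw1 : w ≠ 1 := by
    intro h
    rw [h, orderOf_one] at hwe
    have := H.he2
    omega
  have h1 := M.star w hw (hE w (Subgroup.mem_zpowers w) hw1).2
  rw [Cfsg.Agent.Lib.Helper67.BR.kappa p z hz hC w hw hcard w (Subgroup.mem_zpowers w) hw1] at h1
  have h2 := card_normalizer_zpowers w
  have h3 : Nat.card (Subgroup.normalizer ((Subgroup.zpowers w : Subgroup G) : Set G)) =
      e * (n + 1) := by
    have : p * Nat.card (Subgroup.normalizer ((Subgroup.zpowers w : Subgroup G) : Set G)) =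
        p * (e * (n + 1)) := by
      rw [h2]
      calc _ = Nat.card (Subgroup.centralizer ({w} : Set G)) *
            (p * Nat.card {u : G // u ∈ Subgroup.zpowers w ∧ IsConj w u}) := by ring
        _ = p * e * (n + 1) := h1
        _ = _ := by ring
    exact Nat.eq_of_mul_eq_mul_left hp.out.pos this
  have h4 := Subgroup.card_subgroup_dvd_card
    (Subgroup.normalizer ((Subgroup.zpowers w : Subgroup G) : Set G))
  rw [h3, H.cardG] at h4
  exact arith_c_one hp.out hc1 hnc hec H.het h4

end Cfsg.Agent.Lib.Helper80.BR
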