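import Cfsg.Agent.Lib.Helper80.BRCaseB2
import Cfsg.Agent.Lib.Helper82.Parity

/-! Brauer--Reynolds ladder: the case `ε = -1`, the involution of the complement. -/

set_option autoImplicit false
set_option linter.unusedVariables false
set_option linter.unusedSectionVars false

namespace Cfsg.Agent.Lib.Helper80.BR

open Cfsg Cfsg.Agent.Lib Cfsg.Agent.Lib.Helper67.BR Cfsg.Agent.Lib.Helper9.BR Cfsg.Agent.Lib.Helper41.BR
open scoped ComplexConjugate

theorem orderOf_of_isConj {G : Type*} [Group G] {a b : G} (h : IsConj a b) :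
    orderOf b = orderOf a := by
  obtain ⟨c, rfl⟩ := _root_.isConj_iff.1 h
  exact orderOf_injective (MulAut.conj c).toMonoidHom (MulAut.conj c).injective a

theorem invol_unique_zpowers {G : Type*} [Group G] [Finite G] (w : G) {a b : G}
    (ha : a ∈ Subgroup.zpowers w) (hb : b ∈ Subgroup.zpowers w) (ha2 : orderOf a = 2)
    (hb2 : orderOf b = 2) : a = b := by
  classical
  have := Fintype.ofFinite (Subgroup.zpowers w)
  by_contra hab
  have h1 := IsCyclic.card_pow_eq_one_le (α := Subgroup.zpowers w) (n := 2) (by norm_num)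
  have ha1 : a ≠ 1 := by rintro rfl; simp at ha2
  have hb1 : b ≠ 1 := by rintro rfl; simp at hb2
  have h2 : ({1, ⟨a, ha⟩, ⟨b, hb⟩} : Finset (Subgroup.zpowers w)) ⊆
      Finset.univ.filter (fun x : Subgroup.zpowers w => x ^ 2 = 1) := by
    intro x hx
    simp only [Finset.mem_insert, Finset.mem_singleton] at hx
    rw [Finset.mem_filter]
    refine ⟨Finset.mem_univ _, ?_⟩
    rcases hx with rfl | rfl | rfl
    · simp
    · apply Subtype.ext
      show a ^ 2 = 1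
      rw [← ha2]; exact pow_orderOf_eq_one a
    · apply Subtype.ext
      show b ^ 2 = 1
      rw [← hb2]; exact pow_orderOf_eq_one b
  have h3 : ({1, ⟨a, ha⟩, ⟨b, hb⟩} : Finset (Subgroup.zpowers w)).card = 3 := by
    rw [Finset.card_insert_of_notMem, Finset.card_insert_of_notMem, Finset.card_singleton]
    · simp only [Finset.mem_singleton]
      exact fun h => hab (congrArg Subtype.val h)
    · simp only [Finset.mem_insert, Finset.mem_singleton, not_or]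
      exact ⟨fun h => ha1 (congrArg Subtype.val h).symm, fun h => hb1 (congrArg Subtype.val h).symm⟩
  have h4 := Finset.card_le_card h2
  omega

variable {G : Type*} [Group G] [Fintype G] [Fintype (IrrCharacter G)]

theorem Pat.caseB_invol {p n : ℕ} [hp : Fact p.Prime] {A B Y Z : Finset (IrrCharacter G)} {ε : ℤ}
    {y e t : ℕ} (H : Pat p n A B Y Z ε y e t) (hε : ε = -1) (z : G)
    (hz : orderOf z = p) (hC : Subgroup.centralizer ({z} : Set G) = Subgroup.zpowers z)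
    (hnt : n + 1 = t) (hea : e = 2 + A.card * t) (hye : y + e = p) (hty : t * y = 1 + n * p)
    (ht4 : 4 ≤ t) (htev : Even t) {f : IrrCharacter G → ℕ} (M : MultB p n e 1 z A B Y Z f) :
    ∃ w₀ : G, orderOf w₀ = 2 ∧
      (∀ l ∈ Subgroup.centralizer ({w₀} : Set G), l ≠ 1 → IsConj w₀ l) ∧
      Nat.card (Subgroup.centralizer ({w₀} : Set G)) = p - 1 ∧
      Nat.card G = p * (p - 1) * (p - 2) := by
  classical
  have hp1 : 1 ≤ p := hp.out.one_lt.le
  have hp0 : (p : ℂ) ≠ 0 := by exact_mod_cast hp.out.ne_zero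
  obtain ⟨w, hw, hwe, hcard, hE⟩ := exists_gen H z hz hC
  have he2 : 2 ∣ e := by
    rw [hea]
    exact Dvd.dvd.add dvd_rfl (Dvd.dvd.mul_left htev.two_dvd _)
  have he0 : 0 < e := by have := H.he2; omega
  set w₀ := w ^ (e / 2) with hw₀
  have ho : orderOf w₀ = 2 := by
    rw [hw₀, ← hwe]
    exact orderOf_pow_orderOf_div (by rw [hwe]; omega) (by rw [hwe]; exact he2)
  have hw₀E : w₀ ∈ Subgroup.zpowers w := Subgroup.pow_mem _ (Subgroup.mem_zpowers w) _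
  have hw₀1 : w₀ ≠ 1 := by
    intro h; rw [h, orderOf_one] at ho; omega
  obtain ⟨hw₀N, hw₀P⟩ := hE w₀ hw₀E hw₀1
  have hsq : w₀ * w₀ = 1 := by rw [← sq, ← ho]; exact pow_orderOf_eq_one w₀
  have huniq : ∀ v ∈ Subgroup.zpowers w, orderOf v = 2 → v = w₀ :=
    fun v hv hv2 => invol_unique_zpowers w hv hw₀E hv2 ho
  have hk : Nat.card {u : G // u ∈ Subgroup.zpowers w ∧ IsConj w₀ u} = 1 := by
    rw [Nat.card_eq_one_iff_unique]
    refine ⟨⟨?_⟩, ⟨⟨w₀, hw₀E, IsConj.refl _⟩⟩⟩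
    intro a b
    apply Subtype.ext
    rw [huniq a.1 a.2.1 ((orderOf_of_isConj a.2.2).trans ho),
      huniq b.1 b.2.1 ((orderOf_of_isConj b.2.2).trans ho)]
  have hCw : Nat.card (Subgroup.centralizer ({w₀} : Set G)) = e * t := by
    have h1 := M.star w₀ hw₀N hw₀P
    rw [Cfsg.Agent.Lib.Helper67.BR.kappa p z hz hC w hw hcard w₀ hw₀E hw₀1, hk, hnt, mul_one] at h1
    have h2 : p * Nat.card (Subgroup.centralizer ({w₀} : Set G)) = p * (e * t) := by
      rw [mul_comm, h1]; ring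
    exact Nat.eq_of_mul_eq_mul_left hp.out.pos h2
  -- integer values
  have hint : ∀ χ : IrrCharacter G, ∃ x : ℤ, (χ : G → ℂ) w₀ = (x : ℂ) := by
    intro χ
    obtain ⟨a, ha⟩ := Helper82.isChar_invol_value (Helper82.isIrr_isChar χ.2) hsq
    refine ⟨2 * (a : ℤ) - (charDegree (χ : G → ℂ) : ℤ), ?_⟩
    rw [ha, irr_one]; push_cast; ring
  choose x hx using hint
  have hreg : ¬ p ∣ orderOf w₀ := regular_of_sc p z hz hC w₀ hw₀N hw₀P
  have xT : x (Helper82.trivIrr G) = 1 := by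
    have := hx (Helper82.trivIrr G)
    rw [Helper82.trivIrr_apply] at this
    exact_mod_cast this.symm
  have xB : ∀ χ ∈ B, x χ = 0 := by
    intro χ hχ
    have := M.valB χ hχ w₀ hw₀N hw₀P
    rw [hx] at this
    exact_mod_cast this
  have xZ : ∀ χ ∈ Z, x χ = (f χ : ℤ) := by
    intro χ hχ
    have := M.valZ χ hχ w₀ hw₀N hw₀P
    rw [hx] at this
    exact_mod_cast this
  have xA : ∀ χ ∈ A, (x χ) ^ 2 ≤ (t : ℤ) ^ 2 := by
    intro χ hχ
    have h := M.bndA χ hχ w₀ hw₀N hw₀P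
    rw [hx, Complex.norm_intCast, hnt] at h
    have h2 : |x χ| ≤ (t : ℤ) := by exact_mod_cast h
    rw [← sq_abs]
    exact pow_le_pow_left₀ (abs_nonneg _) h2 2
  have xY : ∀ χ ∈ Y, (x χ) ^ 2 ≤ 1 := by
    intro χ hχ
    have h := M.bndY χ hχ w₀ hw₀N hw₀P
    rw [hx, Complex.norm_intCast] at h
    have h2 : |x χ| ≤ (1 : ℤ) := by exact_mod_cast h
    rw [← sq_abs]
    calc |x χ| ^ 2 ≤ 1 ^ 2 := pow_le_pow_left₀ (abs_nonneg _) h2 2
      _ = 1 := by norm_num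
  -- column orthogonality
  have S4 : 1 + ∑ χ ∈ A, (x χ) ^ 2 + ∑ χ ∈ Y, (x χ) ^ 2 + (n : ℤ) = (e : ℤ) * t := by
    have h := Helper82.finsum_irr_mul_conj_self w₀
    rw [finsum_eq_sum_of_fintype, H.split, hCw] at h
    simp only [hx, map_intCast] at h
    have eB : ∑ χ ∈ B, ((x χ : ℤ) : ℂ) * ((x χ : ℤ) : ℂ) = 0 :=
      Finset.sum_eq_zero (fun χ hχ => by rw [xB χ hχ]; simp)
    have eZ : ∑ χ ∈ Z, ((x χ : ℤ) : ℂ) * ((x χ : ℤ) : ℂ) = (n : ℂ) := by
      have h2 : ((∑ χ ∈ Z, (f χ) ^ 2 : ℕ) : ℂ) = (n : ℂ) := by rw [M.sumZ]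
      rw [← h2]; push_cast
      exact Finset.sum_congr rfl (fun χ hχ => by rw [xZ χ hχ]; push_cast; ring)
    rw [xT, eB, eZ] at h
    have h3 : ((1 + ∑ χ ∈ A, (x χ) ^ 2 + ∑ χ ∈ Y, (x χ) ^ 2 + (n : ℤ) : ℤ) : ℂ) =
        (((e : ℤ) * t : ℤ) : ℂ) := by
      push_cast
      push_cast at h
      rw [← h]
      simp only [sq]
      ring
    exact_mod_cast h3
  have hcA : ∑ χ ∈ A, (x χ) ^ 2 ≤ (A.card : ℤ) * (t : ℤ) ^ 2 := by
    have := Finset.sum_le_card_nsmul A (fun χ => (x χ) ^ 2) ((t : ℤ) ^ 2) xA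
    rwa [nsmul_eq_mul] at this
  have hcY : ∑ χ ∈ Y, (x χ) ^ 2 ≤ (t : ℤ) := by
    have := Finset.sum_le_card_nsmul Y (fun χ => (x χ) ^ 2) 1 xY
    rw [nsmul_eq_mul, H.cardY, mul_one] at this
    exact this
  have heaZ : (e : ℤ) = 2 + A.card * t := by exact_mod_cast hea
  have hntZ : (n : ℤ) + 1 = t := by exact_mod_cast hnt
  have htot : ∑ χ ∈ A, (x χ) ^ 2 + ∑ χ ∈ Y, (x χ) ^ 2 = (A.card : ℤ) * (t : ℤ) ^ 2 + t := by
    linear_combination S4 + (t : ℤ) * heaZ - hntZ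
  have eqA : ∑ χ ∈ A, (x χ) ^ 2 = (A.card : ℤ) * (t : ℤ) ^ 2 := by linarith
  have eqY : ∑ χ ∈ Y, (x χ) ^ 2 = (t : ℤ) := by linarith
  have xA2 : ∀ χ ∈ A, (x χ) ^ 2 = (t : ℤ) ^ 2 :=
    (Finset.sum_eq_sum_iff_of_le xA).1 (by rw [eqA, Finset.sum_const, nsmul_eq_mul])
  have xY2 : ∀ χ ∈ Y, (x χ) ^ 2 = 1 :=
    (Finset.sum_eq_sum_iff_of_le xY).1 (by
      rw [eqY, Finset.sum_const, nsmul_eq_mul, H.cardY, mul_one])
  have hdvdA : (t : ℤ) ∣ ∑ χ ∈ A, x χ := by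
    apply Finset.dvd_sum
    intro χ hχ
    rcases abs_eq_abs.1 ((sq_eq_sq_iff_abs_eq_abs _ _).1 (xA2 χ hχ)) with h | h
    · rw [h]
    · rw [h]; exact (dvd_neg).2 dvd_rfl
  have hrelw : ∀ θ ∈ Y, - x θ = 1 + ∑ χ ∈ A, x χ := by
    intro θ hθ
    have h := H.rel θ hθ w₀ hreg
    simp only [hx] at h
    rw [hε, Finset.sum_eq_zero (s := B) (fun χ hχ => by rw [xB χ hχ]; simp)] at h
    have h2 : ((- x θ : ℤ) : ℂ) = ((1 + ∑ χ ∈ A, x χ : ℤ) : ℂ) := by
      push_cast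
      push_cast at h
      linear_combination h
    exact_mod_cast h2
  have ht4Z : (4 : ℤ) ≤ (t : ℤ) := by exact_mod_cast ht4
  have xYv : ∀ θ ∈ Y, x θ = -1 := by
    intro θ hθ
    have h1 := xY2 θ hθ
    have h2 : (x θ - 1) * (x θ + 1) = 0 := by linear_combination h1
    rcases mul_eq_zero.1 h2 with h | h
    · exfalso
      have h3 := hrelw θ hθ
      obtain ⟨k, hk⟩ := hdvdA
      have h4 : (t : ℤ) * k = -2 := by rw [← hk]; linarith
      have h5 : (t : ℤ) ∣ 2 := ⟨-k, by linarith⟩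
      have := Int.le_of_dvd (by norm_num) h5
      linarith
    · linarith
  obtain ⟨θ0, hθ0⟩ : Y.Nonempty := by
    rw [← Finset.card_pos, H.cardY]; omega
  have sumA : ∑ χ ∈ A, x χ = 0 := by
    have := hrelw θ0 hθ0
    rw [xYv θ0 hθ0] at this
    linarith
  -- the class constant
  set S := Nat.card {i : G // IsConj w₀ i ∧ IsConj w₀ (i⁻¹ * w₀)} with hS
  have hy0 : 0 < y := by
    rcases Nat.eq_zero_or_pos y with h | h
    · rw [h, mul_zero] at hty; omega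
    · exact h
  have hy0C : (y : ℂ) ≠ 0 := by exact_mod_cast hy0.ne'
  have S5 : ((e * t : ℕ) : ℂ) ^ 2 * (S : ℂ) =
      (Nat.card G : ℂ) * (1 - (t : ℂ) / y + (n : ℂ) / p) := by
    have h := Helper82.sum_sum_ite_eq w₀ w₀ w₀
    rw [pairs_count, H.split, hCw] at h
    simp only [hx, map_intCast, irr_one] at h
    have eA : ∑ χ ∈ A, ((x χ : ℤ) : ℂ) * ((x χ : ℤ) : ℂ) * ((x χ : ℤ) : ℂ) /
        ((charDegree (χ : G → ℂ) : ℕ) : ℂ) = 0 := by
      have h1 : ∀ χ ∈ A, ((x χ : ℤ) : ℂ) * ((x χ : ℤ) : ℂ) * ((x χ : ℤ) : ℂ) /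
          ((charDegree (χ : G → ℂ) : ℕ) : ℂ) =
          ((t : ℂ) ^ 2 / ((1 + n * p : ℕ) : ℂ)) * ((x χ : ℤ) : ℂ) := by
        intro χ hχ
        rw [H.degA χ hχ]
        have h2 : ((x χ : ℤ) : ℂ) * ((x χ : ℤ) : ℂ) = (t : ℂ) ^ 2 := by
          have := xA2 χ hχ
          have h3 : (((x χ) ^ 2 : ℤ) : ℂ) = (((t : ℤ) ^ 2 : ℤ) : ℂ) := by rw [this]
          push_cast at h3
          rw [← h3]; ring
        rw [h2]; ring
      rw [Finset.sum_congr rfl h1, ← Finset.mul_sum]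
      have h4 : ∑ χ ∈ A, ((x χ : ℤ) : ℂ) = ((∑ χ ∈ A, x χ : ℤ) : ℂ) := by push_cast; rfl
      rw [h4, sumA]; simp
    have eB : ∑ χ ∈ B, ((x χ : ℤ) : ℂ) * ((x χ : ℤ) : ℂ) * ((x χ : ℤ) : ℂ) /
        ((charDegree (χ : G → ℂ) : ℕ) : ℂ) = 0 :=
      Finset.sum_eq_zero (fun χ hχ => by rw [xB χ hχ]; simp)
    have eY : ∑ χ ∈ Y, ((x χ : ℤ) : ℂ) * ((x χ : ℤ) : ℂ) * ((x χ : ℤ) : ℂ) /
        ((charDegree (χ : G → ℂ) : ℕ) : ℂ) = - ((t : ℂ) / y) := by
      rw [Finset.sum_congr rfl (fun χ hχ => by rw [xYv χ hχ, H.degY χ hχ]), Finset.sum_const,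
        H.cardY, nsmul_eq_mul]
      push_cast; ring
    have eZ : ∑ χ ∈ Z, ((x χ : ℤ) : ℂ) * ((x χ : ℤ) : ℂ) * ((x χ : ℤ) : ℂ) /
        ((charDegree (χ : G → ℂ) : ℕ) : ℂ) = (n : ℂ) / p := by
      have h2 : ((∑ χ ∈ Z, (f χ) ^ 2 : ℕ) : ℂ) = (n : ℂ) := by rw [M.sumZ]
      rw [← h2]; push_cast
      rw [Finset.sum_div]
      apply Finset.sum_congr rfl
      intro χ hχ
      rw [xZ χ hχ, M.degZ χ hχ]
      have hf0 : (f χ : ℂ) ≠ 0 := by
        have h1 := Helper82.isIrr_charDegree_pos χ.2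
        rw [M.degZ χ hχ] at h1
        have : f χ ≠ 0 := by
          rintro h0; rw [h0, mul_zero] at h1; omega
        exact_mod_cast this
      push_cast
      field_simp
    rw [eA, eB, eY, eZ, xT, deg_triv] at h
    rw [h]
    push_cast
    ring
  have hpC : (p : ℂ) = t * e + 1 := by
    have h1 : t * e + 1 = p := by have := H.het; omega
    exact_mod_cast h1.symm
  have hyC : (y : ℂ) = p - e := by
    have : ((y + e : ℕ) : ℂ) = (p : ℂ) := by rw [hye]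
    push_cast at this
    linear_combination this
  have hnC : (n : ℂ) = t - 1 := by
    have : ((n + 1 : ℕ) : ℂ) = (t : ℂ) := by rw [hnt]
    push_cast at this
    linear_combination this
  have htyC : (t : ℂ) * y = 1 + n * p := by exact_mod_cast hty
  have hSval : S = e * n := by
    have hGc : (Nat.card G : ℂ) = (p : ℂ) * e * ((t : ℂ) * y) := by
      rw [H.cardG, htyC]; push_cast; ring
    rw [hGc] at S5
    have h1 : ((e * t : ℕ) : ℂ) ^ 2 * (S : ℂ) =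
        (e : ℂ) * t * ((p : ℂ) * y - p * t + y * n) := by
      rw [S5]
      field_simp
    have h2 : (p : ℂ) * y - p * t + y * n = (e : ℂ) * t * (e * n) := by
      rw [hyC, hnC, hpC]; ring
    rw [h2] at h1
    have het0 : ((e * t : ℕ) : ℂ) ^ 2 ≠ 0 := by
      apply pow_ne_zero
      have : e * t ≠ 0 := Nat.mul_ne_zero he0.ne' (by omega)
      exact_mod_cast this
    have h3 : ((e * t : ℕ) : ℂ) ^ 2 * (S : ℂ) = ((e * t : ℕ) : ℂ) ^ 2 * ((e * n : ℕ) : ℂ) := by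
      rw [h1]; push_cast; ring
    have h4 := mul_left_cancel₀ het0 h3
    exact_mod_cast h4
  have hcE : Nat.card (Subgroup.zpowers w) = e := by rw [Nat.card_zpowers, hwe]
  have hEle : Subgroup.zpowers w ≤ Subgroup.centralizer ({w₀} : Set G) := by
    intro v hv
    obtain ⟨k, rfl⟩ := Subgroup.mem_zpowers_iff.1 hv
    rw [Subgroup.mem_centralizer_singleton_iff]
    exact (((Commute.refl w).zpow_left k).pow_right (e / 2))
  obtain ⟨hE2, hconj⟩ := invol_struct w₀ ho (Subgroup.zpowers w) hEle hw₀E huniq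
    (by rw [← hS, hSval, hcE, hCw, ← hnt]; ring)
    (by rw [hcE, hCw, mul_comm]; exact Nat.mul_lt_mul_of_pos_left (by omega) he0)
  rw [hcE] at hE2
  refine ⟨w₀, ho, hconj, ?_, ?_⟩
  · rw [hCw, mul_comm, H.het]
  · rw [H.cardG, ← hty, ← H.het]
    have : y = p - 2 := by omega
    rw [this]
    ring

end Cfsg.Agent.Lib.Helper80.BR
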