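import Cfsg.Agent.Lib.Helper80.BRRungs
import Cfsg.Agent.Lib.Helper82.Basic

/-! Brauer--Reynolds ladder: the degree pattern of the principal block. -/

set_option autoImplicit false
set_option linter.unusedVariables false
set_option linter.unusedSectionVars false

namespace Cfsg.Agent.Lib.Helper80.BR

open Cfsg Cfsg.Agent.Lib Cfsg.Agent.Lib.Helper67.BR Cfsg.Agent.Lib.Helper9.BR Cfsg.Agent.Lib.Helper41.BR

variable {G : Type*} [Group G] [Finite G]

theorem not_dvd_orderOf_one (p : ℕ) [hp : Fact p.Prime] : ¬ p ∣ orderOf (1 : G) := by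
  rw [orderOf_one]
  exact hp.out.one_lt.ne' ∘ Nat.dvd_one.1

theorem irr_one (χ : IrrCharacter G) : (χ : G → ℂ) 1 = (charDegree (χ : G → ℂ) : ℂ) :=
  Helper82.isChar_one_eq (Helper82.isIrr_isChar χ.2)

theorem deg_triv : charDegree ((Helper82.trivIrr G : IrrCharacter G) : G → ℂ) = 1 := by
  have h := irr_one (Helper82.trivIrr G)
  rw [Helper82.trivIrr_apply] at h
  exact_mod_cast h.symm

/-- the sign of the trivial character -/
theorem Dat.s_triv {p : ℕ} [hp : Fact p.Prime] {P : Subgroup G} (hP : Nat.card P = p)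
    {X Y : Finset (IrrCharacter G)} {s : IrrCharacter G → ℤ} {ε : ℤ} (D : Dat p P X Y s ε) :
    s (Helper82.trivIrr G) = 1 := by
  have h1 : 1 < Nat.card P := by rw [hP]; exact hp.out.one_lt
  haveI := Finite.one_lt_card_iff_nontrivial.1 h1
  obtain ⟨x, hx⟩ := exists_ne (1 : P)
  have h := D.valX _ D.triv x x.2 (fun h => hx (Subtype.ext h)) 1 (Subgroup.one_mem _)
    (not_dvd_orderOf_one p)
  rw [Helper82.trivIrr_apply] at h
  exact_mod_cast h.symm

/-- the degree relation -/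
theorem Dat.rel_one {p : ℕ} [hp : Fact p.Prime] {P : Subgroup G}
    {X Y : Finset (IrrCharacter G)} {s : IrrCharacter G → ℤ} {ε : ℤ} (D : Dat p P X Y s ε)
    {θ : IrrCharacter G} (hθ : θ ∈ Y) :
    ε * (charDegree (θ : G → ℂ) : ℤ) = ∑ χ ∈ X, s χ * (charDegree (χ : G → ℂ) : ℤ) := by
  have h := D.rel θ hθ 1 (not_dvd_orderOf_one p)
  simp only [irr_one] at h
  exact_mod_cast h

theorem pattern (hperf : commutator G = ⊤) (p : ℕ) [hp : Fact p.Prime] (P : Sylow p G)
    (hP : Nat.card P = p) {X Y : Finset (IrrCharacter G)} {s : IrrCharacter G → ℤ} {ε : ℤ}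
    (D : Dat p (P : Subgroup G) X Y s ε) (n : ℕ) (hn : Nat.card (Sylow p G) = 1 + n * p)
    (hF : ¬ FForm p n) :
    (∀ χ ∈ X, χ ≠ Helper82.trivIrr G → (s χ = 1 ∧ charDegree (χ : G → ℂ) = 1 + n * p) ∨
      (s χ = -1 ∧ charDegree (χ : G → ℂ) = p - 1)) ∧
    (∀ θ ∈ Y, (ε = -1 ∧ Y.card * charDegree (θ : G → ℂ) = 1 + n * p) ∨
      (ε = 1 ∧ Y.card * charDegree (θ : G → ℂ) = p - 1)) := by
  classical
  have hp2 : 2 ≤ p := hp.out.two_le
  obtain ⟨hdX, hdY⟩ := deg_dvd p P hP D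
  rw [hn] at hdX hdY
  have hn0 : n ≠ 0 := by
    rintro rfl
    exact card_sylow_ne_one hperf p P hP (by rw [hn]; simp)
  have hnp : p + 1 ≤ 1 + n * p := by
    have : 1 * p ≤ n * p := Nat.mul_le_mul_right p (Nat.one_le_iff_ne_zero.2 hn0)
    omega
  set e := X.card with he
  set t := Y.card with ht
  set Np := 1 + n * p with hNp
  have het : t * e = p - 1 := D.cardY
  have hep : e ≤ p - 1 := by
    rw [← het]
    have ht0 : 0 < t := by
      rcases Nat.eq_zero_or_pos t with h | h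
      · rw [h, zero_mul] at het; omega
      · exact h
    exact Nat.le_mul_of_pos_left e ht0
  have hst := D.s_triv hP
  -- weak pattern on X
  have wX : ∀ χ ∈ X, (s χ = 1 ∧ (charDegree (χ : G → ℂ) = 1 ∨ charDegree (χ : G → ℂ) = Np)) ∨
      (s χ = -1 ∧ (charDegree (χ : G → ℂ) = p - 1 ∨ charDegree (χ : G → ℂ) = (p - 1) * Np)) := by
    intro χ hχ
    have hd : charDegree (χ : G → ℂ) ∣ (p - 1) * Np := by
      rw [← het, mul_assoc]
      exact Dvd.dvd.mul_left (hdX χ hχ) t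
    have hc := D.congX χ hχ
    rcases D.sgn χ hχ with h | h
    · left
      rw [h] at hc
      exact ⟨h, node_plus hp2 hF hd hc⟩
    · right
      rw [h] at hc
      exact ⟨h, node_minus hp2 hF hd hc⟩
  have wY : ∀ θ ∈ Y, (ε = -1 ∧ (t * charDegree (θ : G → ℂ) = 1 ∨ t * charDegree (θ : G → ℂ) = Np)) ∨
      (ε = 1 ∧ (t * charDegree (θ : G → ℂ) = p - 1 ∨
        t * charDegree (θ : G → ℂ) = (p - 1) * Np)) := by
    intro θ hθ
    have hd : t * charDegree (θ : G → ℂ) ∣ (p - 1) * Np := by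
      rw [← het, mul_assoc]
      exact Nat.mul_dvd_mul_left t (hdY θ hθ)
    have hc := D.congY θ hθ
    have hc2 : ((t * charDegree (θ : G → ℂ) : ℕ) : ℤ) ≡ -ε [ZMOD (p : ℤ)] := by
      have h1 := hc.mul_left (t : ℤ)
      have h2 : (t : ℤ) * (ε * (e : ℤ)) = ε * ((p : ℤ) - 1) := by
        have : ((t * e : ℕ) : ℤ) = (p : ℤ) - 1 := by
          rw [het]; push_cast [Nat.cast_sub (by omega : 1 ≤ p)]; ring
        push_cast at this
        rw [← this]; ring
      rw [h2] at h1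
      push_cast
      refine h1.trans ?_
      rw [Int.modEq_iff_dvd]
      exact ⟨-ε, by ring⟩
    rcases D.eps with h | h
    · right
      rw [h] at hc2
      exact ⟨h, node_minus hp2 hF hd hc2⟩
    · left
      rw [h] at hc2
      exact ⟨h, node_plus hp2 hF hd (by simpa using hc2)⟩
  -- bound of a single term
  have hterm : ∀ χ ∈ X, s χ * (charDegree (χ : G → ℂ) : ℤ) ≤ (Np : ℤ) := by
    intro χ hχ
    rcases wX χ hχ with ⟨h, h1 | h1⟩ | ⟨h, -⟩
    · rw [h, h1]; push_cast; have : (1 : ℤ) ≤ (Np : ℤ) := by exact_mod_cast (by omega : 1 ≤ Np)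
      linarith
    · rw [h, h1]; simp
    · rw [h]
      have : (0 : ℤ) ≤ (charDegree (χ : G → ℂ) : ℤ) := Int.natCast_nonneg _
      have h2 : (0 : ℤ) ≤ (Np : ℤ) := Int.natCast_nonneg _
      linarith
  have hsplit : ∑ χ ∈ X, s χ * (charDegree (χ : G → ℂ) : ℤ) =
      1 + ∑ χ ∈ X.erase (Helper82.trivIrr G), s χ * (charDegree (χ : G → ℂ) : ℤ) := by
    rw [← Finset.add_sum_erase X _ D.triv, hst, deg_triv]
    simp
  have hcardE : (X.erase (Helper82.trivIrr G)).card = e - 1 := Finset.card_erase_of_mem D.triv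
  have he1 : 1 ≤ e := Finset.card_pos.2 ⟨_, D.triv⟩
  have hsum_le : ∑ χ ∈ X, s χ * (charDegree (χ : G → ℂ) : ℤ) ≤ 1 + ((e : ℤ) - 1) * Np := by
    rw [hsplit]
    have := Finset.sum_le_card_nsmul (X.erase (Helper82.trivIrr G))
      (fun χ => s χ * (charDegree (χ : G → ℂ) : ℤ)) (Np : ℤ)
      (fun χ hχ => hterm χ (Finset.mem_of_mem_erase hχ))
    rw [hcardE, nsmul_eq_mul, Nat.cast_sub he1] at this
    push_cast at this
    linarith
  have hNpZ : ((p : ℤ) + 1) ≤ (Np : ℤ) := by exact_mod_cast hnp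
  have hepZ : (e : ℤ) ≤ (p : ℤ) - 1 := by
    have : ((e : ℕ) : ℤ) ≤ ((p - 1 : ℕ) : ℤ) := by exact_mod_cast hep
    rwa [Nat.cast_sub (by omega : 1 ≤ p), Nat.cast_one] at this
  have hpZ : (2 : ℤ) ≤ (p : ℤ) := by exact_mod_cast hp2
  obtain ⟨θ0, hθ0⟩ : Y.Nonempty := by
    rw [← Finset.card_pos]
    rcases Nat.eq_zero_or_pos t with h | h
    · rw [h, zero_mul] at het; omega
    · exact h
  have ht0 : 0 < t := Finset.card_pos.2 ⟨θ0, hθ0⟩
  -- lower bound for ε y
  have hlow : ∀ θ ∈ Y, -(Np : ℤ) ≤ ε * (charDegree (θ : G → ℂ) : ℤ) := by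
    intro θ hθ
    have hy0 : (0 : ℤ) ≤ (charDegree (θ : G → ℂ) : ℤ) := Int.natCast_nonneg _
    rcases wY θ hθ with ⟨h, h1⟩ | ⟨h, -⟩
    · have h2 : charDegree (θ : G → ℂ) ≤ Np := by
        have h3 : charDegree (θ : G → ℂ) ≤ t * charDegree (θ : G → ℂ) :=
          Nat.le_mul_of_pos_left _ ht0
        rcases h1 with h1 | h1 <;> omega
      have h4 : (charDegree (θ : G → ℂ) : ℤ) ≤ (Np : ℤ) := by exact_mod_cast h2
      rw [h]; linarith
    · rw [h]
      have h2 : (0 : ℤ) ≤ (Np : ℤ) := Int.natCast_nonneg _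
      linarith
  constructor
  · intro χ hχ hne
    rcases wX χ hχ with ⟨h, h1 | h1⟩ | ⟨h, h1 | h1⟩
    · exact absurd (eq_triv_of_perfect hperf χ h1) hne
    · exact Or.inl ⟨h, h1⟩
    · exact Or.inr ⟨h, h1⟩
    · exfalso
      have hmem : χ ∈ X.erase (Helper82.trivIrr G) := Finset.mem_erase.2 ⟨hne, hχ⟩
      have h2 : ∑ χ ∈ X.erase (Helper82.trivIrr G), s χ * (charDegree (χ : G → ℂ) : ℤ) ≤
          -(((p : ℤ) - 1) * Np) + ((e : ℤ) - 2) * Np := by
        rw [← Finset.add_sum_erase _ _ hmem, h, h1]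
        have := Finset.sum_le_card_nsmul ((X.erase (Helper82.trivIrr G)).erase χ)
          (fun χ => s χ * (charDegree (χ : G → ℂ) : ℤ)) (Np : ℤ)
          (fun χ hχ => hterm χ (Finset.mem_of_mem_erase (Finset.mem_of_mem_erase hχ)))
        rw [Finset.card_erase_of_mem hmem, hcardE, nsmul_eq_mul] at this
        have he2 : 2 ≤ e := by
          have : 0 < (X.erase (Helper82.trivIrr G)).card := Finset.card_pos.2 ⟨_, hmem⟩
          omega
        have h5 : ((e - 1 - 1 : ℕ) : ℤ) = (e : ℤ) - 2 := by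
          rw [Nat.sub_sub, Nat.cast_sub he2]; norm_num
        rw [h5] at this
        push_cast [Nat.cast_sub (by omega : 1 ≤ p)]
        linarith
      have h3 := hlow θ0 hθ0
      rw [D.rel_one hθ0, hsplit] at h3
      nlinarith
  · intro θ hθ
    rcases wY θ hθ with ⟨h, h1 | h1⟩ | ⟨h, h1 | h1⟩
    · exfalso
      have h2 : charDegree (θ : G → ℂ) = 1 := Nat.eq_one_of_mul_eq_one_left h1
      have h3 := eq_triv_of_perfect hperf θ h2
      rw [h3] at hθ
      exact (Finset.disjoint_left.1 D.disj D.triv) hθ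
    · exact Or.inl ⟨h, h1⟩
    · exact Or.inr ⟨h, h1⟩
    · exfalso
      have h2 : charDegree (θ : G → ℂ) = e * Np := by
        rw [← het, mul_assoc] at h1
        exact Nat.eq_of_mul_eq_mul_left ht0 h1
      have h3 := D.rel_one hθ
      rw [h, h2] at h3
      push_cast at h3
      nlinarith

end Cfsg.Agent.Lib.Helper80.BR
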