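import Cfsg.Agent.Lib.Helper80.BRPat
import Cfsg.Agent.Lib.Helper78.SelfCent
import Cfsg.Agent.Lib.Helper96.SylowAct

/-! Brauer--Reynolds ladder: the pattern in the self-centralising case, as an interface. -/

set_option autoImplicit false
set_option linter.unusedVariables false
set_option linter.unusedSectionVars false

namespace Cfsg.Agent.Lib.Helper80.BR

open Cfsg Cfsg.Agent.Lib Cfsg.Agent.Lib.Helper67.BR Cfsg.Agent.Lib.Helper9.BR Cfsg.Agent.Lib.Helper41.BR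

variable {G : Type*} [Group G] [Finite G]

/-- the pattern -/
structure Pat [Fintype (IrrCharacter G)] (p n : ℕ) (A B Y Z : Finset (IrrCharacter G)) (ε : ℤ)
    (y e t : ℕ) : Prop where
  split : ∀ F : IrrCharacter G → ℂ, ∑ χ, F χ = F (Helper82.trivIrr G) + ∑ χ ∈ A, F χ + ∑ χ ∈ B, F χ
    + ∑ χ ∈ Y, F χ + ∑ χ ∈ Z, F χ
  cardX : 1 + A.card + B.card = e
  cardY : Y.card = t
  het : t * e = p - 1
  he2 : 2 ≤ e
  hn1 : 1 ≤ n
  degA : ∀ χ ∈ A, charDegree (χ : G → ℂ) = 1 + n * p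
  degB : ∀ χ ∈ B, charDegree (χ : G → ℂ) = p - 1
  degY : ∀ χ ∈ Y, charDegree (χ : G → ℂ) = y
  degZ : ∀ χ ∈ Z, p ∣ charDegree (χ : G → ℂ)
  valA : ∀ χ ∈ A, ∀ g : G, p ∣ orderOf g → (χ : G → ℂ) g = 1
  valB : ∀ χ ∈ B, ∀ g : G, p ∣ orderOf g → (χ : G → ℂ) g = -1
  valZ : ∀ χ ∈ Z, ∀ g : G, p ∣ orderOf g → (χ : G → ℂ) g = 0
  eqY : ∀ θ ∈ Y, ∀ θ' ∈ Y, ∀ g : G, ¬ p ∣ orderOf g → (θ : G → ℂ) g = (θ' : G → ℂ) g
  rel : ∀ θ ∈ Y, ∀ g : G, ¬ p ∣ orderOf g →
    (ε : ℂ) * (θ : G → ℂ) g = 1 + ∑ χ ∈ A, (χ : G → ℂ) g - ∑ χ ∈ B, (χ : G → ℂ) g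
  sumY : ∀ g : G, p ∣ orderOf g → ∑ θ ∈ Y, (θ : G → ℂ) g = -(ε : ℂ)
  epsy : (ε = -1 ∧ t * y = 1 + n * p) ∨ (ε = 1 ∧ t * y = p - 1)
  cardG : Nat.card G = p * e * (1 + n * p)
  cardN : ∀ z : G, orderOf z = p →
    Nat.card (Subgroup.normalizer ((Subgroup.zpowers z : Subgroup G) : Set G)) = p * e

theorem centralizer_zpowers' (z : G) :
    Subgroup.centralizer ((Subgroup.zpowers z : Subgroup G) : Set G) =
      Subgroup.centralizer ({z} : Set G) := by
  ext g
  rw [Subgroup.mem_centralizer_iff, Subgroup.mem_centralizer_iff]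
  constructor
  · intro h x hx
    rw [Set.mem_singleton_iff] at hx
    subst hx
    exact h x (Subgroup.mem_zpowers x)
  · intro h x hx
    obtain ⟨k, rfl⟩ := Subgroup.mem_zpowers_iff.1 hx
    have h1 : Commute z g := h z rfl
    exact (h1.zpow_left k)

theorem exists_pat [Fintype (IrrCharacter G)] (hperf : commutator G = ⊤) (p : ℕ)
    [hp : Fact p.Prime] (z : G) (hz : orderOf z = p)
    (hC : Subgroup.centralizer ({z} : Set G) = Subgroup.zpowers z) (n : ℕ)
    (hn : Nat.card (Sylow p G) = 1 + n * p) (hF : ¬ FForm p n) :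
    ∃ (A B Y Z : Finset (IrrCharacter G)) (ε : ℤ) (y e t : ℕ), Pat p n A B Y Z ε y e t := by
  classical
  obtain ⟨P, hPz⟩ := Helper78.sc_exists_sylow hp.out hz hC
  have hP : Nat.card P = p := by
    have : Nat.card (P : Subgroup G) = p := by rw [hPz, Nat.card_zpowers, hz]
    exact this
  have hcent : Subgroup.centralizer ((P : Subgroup G) : Set G) = Subgroup.zpowers z := by
    rw [hPz, centralizer_zpowers', hC]
  have hreg : ∀ y ∈ Subgroup.centralizer ((P : Subgroup G) : Set G), ¬ p ∣ orderOf y → y = 1 := by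
    intro y hy hpy
    rw [hcent] at hy
    have h1 : orderOf y ∣ p := by
      rw [← hz]
      exact orderOf_dvd_of_mem_zpowers hy
    rcases (Nat.dvd_prime hp.out).1 h1 with h | h
    · exact orderOf_eq_one_iff.1 h
    · exact absurd (h ▸ dvd_rfl) hpy
  obtain ⟨X, Y, s, ε, D⟩ := data hperf p P hP
  obtain ⟨pX, pY⟩ := pattern hperf p P hP D n hn hF
  have hst := D.s_triv hP
  have hsing : ∀ (χ : IrrCharacter G) (g : G), p ∣ orderOf g →
      ∃ x ∈ (P : Subgroup G), x ≠ 1 ∧ (χ : G → ℂ) g = (χ : G → ℂ) x ∧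
        ∀ χ' : IrrCharacter G, (χ' : G → ℂ) g = (χ' : G → ℂ) x := by
    intro χ g hg
    obtain ⟨a, x, hx, hx1, rfl⟩ := sing_conj p z hz hC g hg
    refine ⟨x, hPz ▸ hx, hx1, Helper82.isChar_conj_eq (Helper82.isIrr_isChar χ.2) _ _, ?_⟩
    intro χ'
    exact Helper82.isChar_conj_eq (Helper82.isIrr_isChar χ'.2) _ _
  have hvalX : ∀ χ ∈ X, ∀ g : G, p ∣ orderOf g → (χ : G → ℂ) g = (s χ : ℂ) := by
    intro χ hχ g hg
    obtain ⟨x, hx, hx1, h, -⟩ := hsing χ g hg
    rw [h]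
    have := D.valX χ hχ x hx hx1 1 (Subgroup.one_mem _) (not_dvd_orderOf_one p)
    rwa [mul_one] at this
  obtain ⟨θ0, hθ0⟩ : Y.Nonempty := by
    rw [← Finset.card_pos]
    rcases Nat.eq_zero_or_pos Y.card with h | h
    · have := D.cardY
      rw [h, zero_mul] at this
      have := hp.out.two_le
      omega
    · exact h
  set T := Helper82.trivIrr G with hT
  set A := (X.erase T).filter (fun χ => s χ = 1) with hA
  set B := (X.erase T).filter (fun χ => s χ = -1) with hB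
  have hB' : (X.erase T).filter (fun χ => ¬ s χ = 1) = B := by
    apply Finset.filter_congr
    intro χ hχ
    rcases D.sgn χ (Finset.mem_of_mem_erase hχ) with h | h <;> rw [h] <;> norm_num
  have splitX : ∀ F : IrrCharacter G → ℂ, ∑ χ ∈ X, F χ = F T + ∑ χ ∈ A, F χ + ∑ χ ∈ B, F χ := by
    intro F
    rw [← Finset.add_sum_erase X _ D.triv, ← Finset.sum_filter_add_sum_filter_not (X.erase T)
      (fun χ => s χ = 1), hB', add_assoc]
  have hmemA : ∀ χ ∈ A, χ ∈ X ∧ χ ≠ T ∧ s χ = 1 := by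
    intro χ hχ
    obtain ⟨h1, h2⟩ := Finset.mem_filter.1 hχ
    exact ⟨Finset.mem_of_mem_erase h1, Finset.ne_of_mem_erase h1, h2⟩
  have hmemB : ∀ χ ∈ B, χ ∈ X ∧ χ ≠ T ∧ s χ = -1 := by
    intro χ hχ
    obtain ⟨h1, h2⟩ := Finset.mem_filter.1 hχ
    exact ⟨Finset.mem_of_mem_erase h1, Finset.ne_of_mem_erase h1, h2⟩
  have hcardN : Nat.card (Subgroup.normalizer ((P : Subgroup G) : Set G)) = p * X.card := by
    rw [D.cardX, ← Helper96.card_centralizer_mul_relIndex (P : Subgroup G), hcent,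
      Nat.card_zpowers, hz]
  refine ⟨A, B, Y, (X ∪ Y)ᶜ, ε, charDegree (θ0 : G → ℂ), X.card, Y.card, ?_⟩
  refine ⟨?_, ?_, rfl, D.cardY, ?_, ?_, ?_, ?_, ?_, ?_, ?_, ?_, ?_, D.eqY, ?_, ?_, ?_, ?_, ?_⟩
  · intro F
    rw [← Finset.sum_add_sum_compl (X ∪ Y), Finset.sum_union D.disj, splitX]
  · have h1 : (X.erase T).card + 1 = X.card := Finset.card_erase_add_one D.triv
    have h2 := Finset.card_filter_add_card_filter_not (s := X.erase T) (fun χ => s χ = 1)
    rw [hB'] at h2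
    change A.card + B.card = _ at h2
    omega
  · rw [D.cardX]
    exact two_le_relIndex hperf p P hP
  · rcases Nat.eq_zero_or_pos n with h | h
    · exfalso
      apply card_sylow_ne_one hperf p P hP
      rw [hn, h]; simp
    · exact h
  · intro χ hχ
    obtain ⟨h1, h2, h3⟩ := hmemA χ hχ
    rcases pX χ h1 h2 with h | h
    · exact h.2
    · rw [h3] at h; exact absurd h.1 (by norm_num)
  · intro χ hχ
    obtain ⟨h1, h2, h3⟩ := hmemB χ hχ
    rcases pX χ h1 h2 with h | h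
    · rw [h3] at h; exact absurd h.1 (by norm_num)
    · exact h.2
  · intro θ hθ
    have h := D.eqY θ hθ θ0 hθ0 1 (not_dvd_orderOf_one p)
    rw [irr_one, irr_one] at h
    exact_mod_cast h
  · intro ψ hψ
    rw [Finset.mem_compl, Finset.mem_union, not_or] at hψ
    exact (D.out hreg ψ hψ.1 hψ.2).1
  · intro χ hχ g hg
    obtain ⟨h1, h2, h3⟩ := hmemA χ hχ
    rw [hvalX χ h1 g hg, h3]; simp
  · intro χ hχ g hg
    obtain ⟨h1, h2, h3⟩ := hmemB χ hχ
    rw [hvalX χ h1 g hg, h3]; simp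
  · intro ψ hψ
    rw [Finset.mem_compl, Finset.mem_union, not_or] at hψ
    exact (D.out hreg ψ hψ.1 hψ.2).2
  · intro θ hθ g hg
    rw [D.rel θ hθ g hg, splitX, hst, Helper82.trivIrr_apply]
    have e1 : ∑ χ ∈ A, (s χ : ℂ) * (χ : G → ℂ) g = ∑ χ ∈ A, (χ : G → ℂ) g := by
      apply Finset.sum_congr rfl
      intro χ hχ
      rw [(hmemA χ hχ).2.2]; simp
    have e2 : ∑ χ ∈ B, (s χ : ℂ) * (χ : G → ℂ) g = - ∑ χ ∈ B, (χ : G → ℂ) g := by
      rw [← Finset.sum_neg_distrib]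
      apply Finset.sum_congr rfl
      intro χ hχ
      rw [(hmemB χ hχ).2.2]; simp
    rw [e1, e2]; simp; ring
  · intro g hg
    obtain ⟨x, hx, hx1, -, h⟩ := hsing θ0 g hg
    rw [← D.sumY x hx hx1]
    exact Finset.sum_congr rfl (fun θ _ => h θ)
  · exact pY θ0 hθ0
  · rw [← Helper96.card_sylow_mul_card_normalizer P, hcardN, hn, mul_comm]
  · intro z' hz'
    have hpg : IsPGroup p (Subgroup.zpowers z') :=
      IsPGroup.of_card (n := 1) (by rw [Nat.card_zpowers, hz', pow_one])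
    obtain ⟨Q, hQ⟩ := hpg.exists_le_sylow
    have hQc : Nat.card (Q : Subgroup G) = p := by
      rw [Sylow.card_eq_multiplicity, ← Sylow.card_eq_multiplicity P]; exact hP
    have hQe : Subgroup.zpowers z' = (Q : Subgroup G) := by
      apply Subgroup.eq_of_le_of_card_ge hQ
      rw [hQc, Nat.card_zpowers, hz']
    rw [hQe]
    have h1 := Helper96.card_sylow_mul_card_normalizer Q
    have h2 := Helper96.card_sylow_mul_card_normalizer P
    rw [← h2] at h1
    have h3 : 0 < Nat.card (Sylow p G) := Nat.card_pos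
    rw [← hcardN]
    exact Nat.eq_of_mul_eq_mul_left h3 h1

end Cfsg.Agent.Lib.Helper80.BR
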