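import Cfsg.Agent.Lib.Helper80.BRDefs
import Cfsg.Agent.Lib.Helper67.BRAR
import Cfsg.Agent.Lib.Helper67.BRINV
import Cfsg.Agent.Lib.Helper67.BRKAPPA
import Cfsg.Agent.Lib.Helper67.BRNSTR
import Cfsg.Agent.Lib.Helper67.BRLG
import Cfsg.Agent.Lib.Helper67.BRSING
import Cfsg.Agent.Lib.Helper67.BRPAIRS
import Cfsg.Agent.Lib.Helper67.BRLIN
import Cfsg.Agent.Lib.Helper67.BRDEGDVD
import Cfsg.Agent.Lib.Helper9.BRNPOS
import Cfsg.Agent.Lib.Helper9.BRTENSOR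
import Cfsg.Agent.Lib.Helper9.BRNU
import Cfsg.Agent.Lib.Helper9.BRKER
import Cfsg.Agent.Lib.Helper9.BRDATA
import Cfsg.Agent.Lib.Helper41.BRBURN

/-! Brauer--Reynolds ladder: all rungs (helper67, helper9, helper41). -/
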