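import Cfsg.Agent.Lib.Helper80.BRPat2
import Cfsg.Agent.Lib.Helper78.SelfCent2
import Cfsg.Agent.Lib.Helper82.StructConst

/-! Brauer--Reynolds ladder: sums of characters over subgroups. -/

set_option autoImplicit false
set_option linter.unusedVariables false
set_option linter.unusedSectionVars false

namespace Cfsg.Agent.Lib.Helper80.BR

open Cfsg Cfsg.Agent.Lib Cfsg.Agent.Lib.Helper67.BR Cfsg.Agent.Lib.Helper9.BR Cfsg.Agent.Lib.Helper41.BR
open scoped ComplexConjugate

variable {G : Type*} [Group G] [Fintype G] [Fintype (IrrCharacter G)]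

theorem sum_irr_TH_deg (H : Subgroup G) [Fintype H] :
    ∑ χ : IrrCharacter G, (∑ g : H, (χ : G → ℂ) g) * (χ : G → ℂ) 1 = (Nat.card G : ℂ) := by
  classical
  simp_rw [Finset.sum_mul]
  rw [Finset.sum_comm]
  simp_rw [Helper82.sum_irr_mul_one_eq]
  rw [Finset.sum_eq_single (1 : H)]
  · simp
  · intro b _ hb
    rw [if_neg]
    exact fun h => hb (Subtype.ext h)
  · simp

theorem sum_irr_conj_TH (H : Subgroup G) [Fintype H] (w : G) :
    ∑ χ : IrrCharacter G, (χ : G → ℂ) w * conj (∑ g : H, (χ : G → ℂ) g) =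
      (Nat.card (Subgroup.centralizer ({w} : Set G)) : ℂ) *
        (Nat.card {g : G // g ∈ H ∧ IsConj w g} : ℂ) := by
  classical
  simp_rw [map_sum, Finset.mul_sum]
  rw [Finset.sum_comm]
  have h1 : ∀ g : H, ∑ χ : IrrCharacter G, (χ : G → ℂ) w * conj ((χ : G → ℂ) g) =
      if IsConj w (g : G) then (Nat.card (Subgroup.centralizer ({w} : Set G)) : ℂ) else 0 := by
    intro g
    rw [← finsum_eq_sum_of_fintype]
    split_ifs with h
    · exact (Cfsg.Agent.S0145.result w (g : G)).1 h
    · exact (Cfsg.Agent.S0145.result w (g : G)).2 h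
  simp_rw [h1]
  rw [← Finset.sum_filter, Finset.sum_const, nsmul_eq_mul, mul_comm]
  congr 2
  rw [← Fintype.card_subtype, ← Nat.card_eq_fintype_card]
  exact Nat.card_congr (Equiv.subtypeSubtypeEquivSubtypeInter (fun g : G => g ∈ H)
    (fun g : G => IsConj w g))

omit [Fintype (IrrCharacter G)] in
/-- sum over a subgroup of prime order of a function constant on the non-identity elements -/
theorem sum_P_const (p : ℕ) [hp : Fact p.Prime] (z : G) (hz : orderOf z = p)
    [Fintype (Subgroup.zpowers z)] (F : G → ℂ) (v : ℂ) (hF : ∀ g : G, p ∣ orderOf g → F g = v) :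
    ∑ u : Subgroup.zpowers z, F u = F 1 + ((p : ℂ) - 1) * v := by
  classical
  rw [← Finset.add_sum_erase Finset.univ _ (Finset.mem_univ (1 : Subgroup.zpowers z))]
  congr 1
  have h1 : ∀ u ∈ (Finset.univ : Finset (Subgroup.zpowers z)).erase 1, F (u : G) = v := by
    intro u hu
    apply hF
    have hu1 : (u : G) ≠ 1 := fun h => (Finset.ne_of_mem_erase hu) (Subtype.ext h)
    have h2 : orderOf (u : G) ∣ p := by
      rw [← hz]; exact orderOf_dvd_of_mem_zpowers u.2
    rcases (Nat.dvd_prime hp.out).1 h2 with h | h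
    · exact absurd (orderOf_eq_one_iff.1 h) hu1
    · rw [h]
  rw [Finset.sum_congr rfl h1, Finset.sum_const, Finset.card_erase_of_mem (Finset.mem_univ _),
    Finset.card_univ, ← Nat.card_eq_fintype_card, Nat.card_zpowers, hz, nsmul_eq_mul,
    Nat.cast_sub hp.out.one_lt.le]
  simp

omit [Fintype (IrrCharacter G)] in
/-- if `F` vanishes on `N \ P` the sums over `N` and `P` agree -/
theorem sum_N_eq_sum_P (P N : Subgroup G) [Fintype P] [Fintype N] (hPN : P ≤ N) (F : G → ℂ)
    (hF : ∀ g ∈ N, g ∉ P → F g = 0) : ∑ g : N, F g = ∑ u : P, F u := by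
  classical
  have h1 : ∑ g : N, F g = ∑ g ∈ Finset.univ.filter (fun g : G => g ∈ N), F g :=
    (Finset.sum_subtype _ (by simp) F).symm
  have h2 : ∑ g : P, F g = ∑ g ∈ Finset.univ.filter (fun g : G => g ∈ P), F g :=
    (Finset.sum_subtype _ (by simp) F).symm
  rw [h1, h2]
  symm
  apply Finset.sum_subset
  · intro g hg
    rw [Finset.mem_filter] at hg ⊢
    exact ⟨hg.1, hPN hg.2⟩
  · intro g hg hg'
    rw [Finset.mem_filter] at hg hg'
    exact hF g hg.2 (fun h => hg' ⟨Finset.mem_univ _, h⟩)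

omit [Fintype (IrrCharacter G)] [Fintype G] in
theorem free_of_sc [Finite G] (p : ℕ) [hp : Fact p.Prime] (z : G) (hz : orderOf z = p)
    (hC : Subgroup.centralizer ({z} : Set G) = Subgroup.zpowers z) (g : G)
    (hg : g ∉ Subgroup.zpowers z) (u : G) (hu : u ∈ Subgroup.zpowers z) (h : g * u = u * g) :
    u = 1 := by
  by_contra hu1
  apply hg
  rw [← Helper78.sc_centralizer_of_mem hp.out hz hC hu hu1, Subgroup.mem_centralizer_singleton_iff]
  exact h

omit [Fintype (IrrCharacter G)] [Fintype G] in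
/-- elements of `N \ P` are `p`-regular -/
theorem regular_of_sc [Finite G] (p : ℕ) [hp : Fact p.Prime] (z : G) (hz : orderOf z = p)
    (hC : Subgroup.centralizer ({z} : Set G) = Subgroup.zpowers z) (g : G)
    (hgN : g ∈ Subgroup.normalizer ((Subgroup.zpowers z : Subgroup G) : Set G))
    (hg : g ∉ Subgroup.zpowers z) : ¬ p ∣ orderOf g := by
  intro hdvd
  apply hg
  obtain ⟨a, x, hx, hx1, rfl⟩ := sing_conj p z hz hC g hdvd
  obtain ⟨P, hPz⟩ := Helper78.sc_exists_sylow hp.out hz hC
  have ho : orderOf (a * x * a⁻¹) = p := by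
    have h0 : orderOf (a * x * a⁻¹) = orderOf x := by
      have := (MulAut.conj a).toMonoidHom
      exact orderOf_injective (MulAut.conj a).toMonoidHom (MulAut.conj a).injective x
    rw [h0]
    have h2 : orderOf x ∣ p := by
      rw [← hz]; exact orderOf_dvd_of_mem_zpowers hx
    rcases (Nat.dvd_prime hp.out).1 h2 with h | h
    · exact absurd (orderOf_eq_one_iff.1 h) hx1
    · exact h
  have hpg : IsPGroup p (Subgroup.zpowers (a * x * a⁻¹)) :=
    IsPGroup.of_card (n := 1) (by rw [Nat.card_zpowers, ho, pow_one])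
  have h3 := hpg.inf_normalizer_sylow P
  have h4 : a * x * a⁻¹ ∈ Subgroup.zpowers (a * x * a⁻¹) ⊓
      Subgroup.normalizer ((P : Subgroup G) : Set G) := by
    refine ⟨Subgroup.mem_zpowers _, ?_⟩
    rw [hPz]; exact hgN
  have h5 : a * x * a⁻¹ ∈ Subgroup.zpowers (a * x * a⁻¹) ⊓ (P : Subgroup G) := by
    rw [← h3]; exact h4
  rw [← hPz]
  exact h5.2

/-- the multiplicities `f = (χ_P, 1)`, `c = (χ_N, 1)`. -/
theorem exists_fc (p : ℕ) [hp : Fact p.Prime] (z : G) (hz : orderOf z = p)
    (hC : Subgroup.centralizer ({z} : Set G) = Subgroup.zpowers z)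
    [Fintype (Subgroup.zpowers z)]
    [Fintype (Subgroup.normalizer ((Subgroup.zpowers z : Subgroup G) : Set G))] :
    ∃ f c : IrrCharacter G → ℕ, ∀ χ : IrrCharacter G,
      ∑ u : Subgroup.zpowers z, (χ : G → ℂ) u = (p : ℂ) * f χ ∧
      ∑ g : Subgroup.normalizer ((Subgroup.zpowers z : Subgroup G) : Set G), (χ : G → ℂ) g =
        (Nat.card (Subgroup.normalizer ((Subgroup.zpowers z : Subgroup G) : Set G)) : ℂ) * c χ ∧
      c χ ≤ f χ ∧
      (∀ g ∈ Subgroup.normalizer ((Subgroup.zpowers z : Subgroup G) : Set G),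
        g ∉ Subgroup.zpowers z → ‖(χ : G → ℂ) g‖ ≤ f χ) ∧
      (c χ = f χ → ∀ g ∈ Subgroup.normalizer ((Subgroup.zpowers z : Subgroup G) : Set G),
        g ∉ Subgroup.zpowers z → (χ : G → ℂ) g = f χ) := by
  have h := fun χ : IrrCharacter G => nu_pack (Subgroup.zpowers z)
    (Subgroup.normalizer ((Subgroup.zpowers z : Subgroup G) : Set G)) Subgroup.le_normalizer le_rfl
    (fun g _ hg u hu h => free_of_sc p z hz hC g hg u hu h) (χ : G → ℂ)
    (Helper82.isIrr_isChar χ.2)
  choose f c hfc using h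
  refine ⟨f, c, fun χ => ?_⟩
  have := hfc χ
  rw [Nat.card_zpowers, hz] at this
  exact this

end Cfsg.Agent.Lib.Helper80.BR
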