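import Cfsg.Agent.Lib.Helper80.CTISetup
import Cfsg.Agent.Lib.Helper96.TIC.Case3

/-!
# Case 3 of the classification of groups all of whose element centralizers are TI
-/

set_option autoImplicit false

namespace Cfsg.Agent.Lib.Helper80.CTI

theorem case3 {G : Type*} [Group G] [Finite G]
    (hTI : ∀ x : G, Cfsg.IsTISubset (Subgroup.centralizer ({x} : Set G) : Set G))
    (h3 : ∀ x : G, x ≠ 1 → ¬ (Subgroup.centralizer ({x} : Set G)).Normal ∧
      Subgroup.normalizer ((Subgroup.centralizer ({x} : Set G) : Subgroup G) : Set G)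
        ≠ Subgroup.centralizer ({x} : Set G))
    (hnt : Nontrivial G) :
    ∃ n : ℕ, 2 ≤ n ∧
      Nonempty (G ≃* Matrix.ProjectiveSpecialLinearGroup (Fin 2) (GaloisField 2 n)) := by
  obtain ⟨t, c⟩ := exists_cfg hTI h3 hnt
  exact Cfsg.Agent.Lib.Helper96.TIC.case3_of_cfg hTI c

end Cfsg.Agent.Lib.Helper80.CTI
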