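import Cfsg.Agent.Lib.Helper80.CTISetup

/-!
# No regular normal subgroup; coset form of transitivity
-/

set_option autoImplicit false

namespace Cfsg.Agent.Lib.Helper80.CTI

open Subgroup

variable {G : Type*} [Group G] [Finite G] {H M : Subgroup G} {t : G}

theorem noreg (c : Cfg H M t) (N : Subgroup G) (hN : N.Normal)
    (htr : MulAction.IsPretransitive N (G ⧸ M)) :
    ∃ a : G ⧸ M, MulAction.stabilizer N a ≠ ⊥ := by
  by_contra hcon
  push Not at hcon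
  have hNM : ∀ n ∈ N, n ∈ M → n = 1 := by
    intro n hn hnM
    have h1 : (⟨n, hn⟩ : N) ∈ MulAction.stabilizer N ((1 : G) : G ⧸ M) := by
      rw [MulAction.mem_stabilizer_iff]
      change ((n * 1 : G) : G ⧸ M) = ((1 : G) : G ⧸ M)
      rw [QuotientGroup.eq]
      simpa using hnM
    rw [hcon, mem_bot] at h1
    exact congrArg Subtype.val h1
  have ht2 : t * t = 1 := by
    have h : t ^ 2 = 1 := by rw [← c.ht]; exact pow_orderOf_eq_one t
    rwa [sq] at h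
  have htinv : t⁻¹ = t := inv_eq_of_mul_eq_one_left ht2
  have hinj : Function.Injective (fun r : N => (⟨(r : G)⁻¹ * (t * r * t⁻¹),
      N.mul_mem (N.inv_mem r.2) (hN.conj_mem r r.2 t)⟩ : N)) := by
    intro a b hab
    have hab' : (a : G)⁻¹ * (t * a * t⁻¹) = (b : G)⁻¹ * (t * b * t⁻¹) := congrArg Subtype.val hab
    have hk : t * ((b : G) * (a : G)⁻¹) * t⁻¹ = (b : G) * (a : G)⁻¹ := by
      have e1 : t * ((b : G) * (a : G)⁻¹) * t⁻¹ = (t * b * t⁻¹) * (t * a * t⁻¹)⁻¹ := by group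
      have hX : t * a * t⁻¹ = (a : G) * ((b : G)⁻¹ * (t * b * t⁻¹)) := by
        rw [← hab', mul_inv_cancel_left]
      rw [e1, hX]; group
    have hkH : (b : G) * (a : G)⁻¹ ∈ H := by
      rw [c.hH, mem_centralizer_singleton_iff]
      exact (mul_inv_eq_iff_eq_mul.mp hk).symm
    have h1 := hNM _ (N.mul_mem b.2 (N.inv_mem a.2)) (c.le hkH)
    exact Subtype.ext (mul_inv_eq_one.mp h1).symm
  have hsurj := Finite.surjective_of_injective hinj
  have hinv : ∀ n ∈ N, t * n * t⁻¹ = n⁻¹ := by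
    intro n hn
    obtain ⟨r, hr⟩ := hsurj ⟨n, hn⟩
    have hr' : (r : G)⁻¹ * (t * r * t⁻¹) = n := congrArg Subtype.val hr
    rw [← hr', htinv]
    have e1 : t * ((r : G)⁻¹ * (t * r * t)) * t = t * (r : G)⁻¹ * t * r * (t * t) := by
      group
    rw [e1, ht2, mul_one]
    simp only [mul_inv_rev, inv_inv, htinv, mul_assoc]
  have hab : ∀ a ∈ N, ∀ b ∈ N, a * b = b * a := by
    intro a ha b hb
    have h1 := hinv (a * b) (N.mul_mem ha hb)
    have e1 : t * (a * b) * t⁻¹ = (t * a * t⁻¹) * (t * b * t⁻¹) := by group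
    rw [e1, hinv a ha, hinv b hb, mul_inv_rev] at h1
    have e4 := congrArg (·⁻¹) h1
    simp only [mul_inv_rev, inv_inv] at e4
    exact e4.symm
  have hbot := c.noAb N hN hab
  obtain ⟨g, hg⟩ : ∃ g : G, g ∉ M := by
    by_contra hcon2
    push Not at hcon2
    exact c.neT (eq_top_iff.mpr fun x _ => hcon2 x)
  obtain ⟨n, hn⟩ := htr.exists_smul_eq ((1 : G) : G ⧸ M) ((g : G) : G ⧸ M)
  have hn1 : (n : G) = 1 := by
    have h0 : (n : G) ∈ (⊥ : Subgroup G) := hbot.le n.2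
    exact mem_bot.mp h0
  have hn' : (((n : G) * 1 : G) : G ⧸ M) = ((g : G) : G ⧸ M) := hn
  rw [hn1, QuotientGroup.eq] at hn'
  apply hg
  simpa using hn'

theorem trans2 (c : Cfg H M t)
    (fixH : ∀ x ∈ H, x ≠ 1 → ∀ w : G ⧸ M, x • w = w → w = ((1 : G) : G ⧸ M))
    (factor : ∀ b : G ⧸ M, b ≠ ((1 : G) : G ⧸ M) → ∀ x ∈ M, ∃ h ∈ H, ∃ d ∈ M,
      d • b = b ∧ x = h * d)
    (three : ∀ b w : G ⧸ M, b ≠ ((1 : G) : G ⧸ M) → w ≠ ((1 : G) : G ⧸ M) → b ≠ w →
      ∀ d ∈ M, d • b = b → d • w = w → d = 1)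
    (b w : G ⧸ M) (hb : b ≠ ((1 : G) : G ⧸ M)) (hw : w ≠ ((1 : G) : G ⧸ M)) :
    ∃ h ∈ H, h • w = b := by
  obtain ⟨m, hmM, hmH⟩ : ∃ m ∈ M, m ∉ H := by
    by_contra hcon
    push Not at hcon
    exact c.neH (le_antisymm c.le hcon)
  obtain ⟨h', hh', d, hd, hdb, rfl⟩ := factor b hb m hmM
  have hd1 : d ≠ 1 := by
    rintro rfl
    exact hmH (by simpa using hh')
  obtain ⟨h₀, hh₀, e, he, hew, hdd⟩ := factor w hw d hd
  have hinj : Function.Injective (fun h : H => (⟨(h : G)⁻¹ * (d * h * d⁻¹),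
      H.mul_mem (H.inv_mem h.2) (c.conj_mem hd h.2)⟩ : H)) := by
    intro a b' hab
    have hab' : (a : G)⁻¹ * (d * a * d⁻¹) = (b' : G)⁻¹ * (d * b' * d⁻¹) :=
      congrArg Subtype.val hab
    have hk : d * ((b' : G) * (a : G)⁻¹) * d⁻¹ = (b' : G) * (a : G)⁻¹ := by
      have e1 : d * ((b' : G) * (a : G)⁻¹) * d⁻¹ = (d * b' * d⁻¹) * (d * a * d⁻¹)⁻¹ := by group
      have hX : d * a * d⁻¹ = (a : G) * ((b' : G)⁻¹ * (d * b' * d⁻¹)) := by
        rw [← hab', mul_inv_cancel_left]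
      rw [e1, hX]; group
    by_contra hne
    have hk1 : (b' : G) * (a : G)⁻¹ ≠ 1 := by
      intro h
      exact hne (Subtype.ext (mul_inv_eq_one.mp h).symm)
    have hdH : d ∈ H := by
      apply c.cen _ (H.mul_mem b'.2 (H.inv_mem a.2)) hk1
      rw [mem_centralizer_singleton_iff]
      exact (mul_inv_eq_iff_eq_mul.mp hk)
    exact hb (fixH d hdH hd1 b hdb)
  have hsurj := Finite.surjective_of_injective hinj
  obtain ⟨k, hk⟩ := hsurj ⟨h₀⁻¹, H.inv_mem hh₀⟩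
  have hk2 : (k : G)⁻¹ * (d * k * d⁻¹) = h₀⁻¹ := congrArg Subtype.val hk
  have hconj : (k : G)⁻¹ * d * k = e := by
    have e1 : (k : G)⁻¹ * d * k = ((k : G)⁻¹ * (d * k * d⁻¹)) * d := by group
    rw [e1, hk2, hdd, inv_mul_cancel_left]
  have hfix : d • ((k : G) • w) = (k : G) • w := by
    have e1 : d * (k : G) = (k : G) * e := by rw [← hconj]; group
    rw [← mul_smul, e1, mul_smul, hew]
  have hpt : ∀ x ∈ M, x • ((1 : G) : G ⧸ M) = ((1 : G) : G ⧸ M) := by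
    intro x hx
    change ((x * 1 : G) : G ⧸ M) = ((1 : G) : G ⧸ M)
    rw [QuotientGroup.eq]
    simpa using hx
  have hkw : (k : G) • w ≠ ((1 : G) : G ⧸ M) := by
    intro h
    apply hw
    have h2 := congrArg (fun z => (k : G)⁻¹ • z) h
    simp only [inv_smul_smul] at h2
    rw [h2]
    exact hpt _ (M.inv_mem (c.le k.2))
  refine ⟨k, k.2, ?_⟩
  by_contra hne
  exact hd1 (three b ((k : G) • w) hb hkw (fun h => hne h.symm) d hd hdb hfix)

end Cfsg.Agent.Lib.Helper80.CTI
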