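import Cfsg.Agent.Lib.Helper80.CTIDefs
import Cfsg.Agent.Lib.Helper31.CN
import Cfsg.Agent.S0183

/-!
# Existence of the strongly embedded configuration in case 3
-/

set_option autoImplicit false

namespace Cfsg.Agent.Lib.Helper80.CTI

open Subgroup
open scoped commutatorElement

variable {G : Type*} [Group G]

theorem noAb_of_case3 (hTI : IsCTI G)
    (h3 : ∀ x : G, x ≠ 1 → ¬ (centralizer ({x} : Set G)).Normal)
    (A : Subgroup G) (hA : A.Normal) (hab : ∀ a ∈ A, ∀ b ∈ A, a * b = b * a) : A = ⊥ := by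
  by_contra hne
  obtain ⟨a, ha⟩ := (Subgroup.ne_bot_iff_exists_ne_one (H := A)).mp hne
  have ha1 : (a : G) ≠ 1 := fun h => ha (Subtype.ext h)
  apply h3 (a : G) ha1
  apply hTI.normal_of_le A hne
  intro b hb
  rw [mem_centralizer_singleton_iff]
  exact hab b hb a a.2

/-- a nontrivial solvable group has a nontrivial abelian normal subgroup -/
theorem exists_abelian_normal_of_solvable [Nontrivial G] (hs : Group.IsSolvable G) :
    ∃ A : Subgroup G, A.Normal ∧ (∀ a ∈ A, ∀ b ∈ A, a * b = b * a) ∧ A ≠ ⊥ := by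
  classical
  obtain ⟨n, hn⟩ := hs.solvable
  have hex : ∃ n, derivedSeries G n = ⊥ := ⟨n, hn⟩
  have h0 : Nat.find hex ≠ 0 := by
    intro h
    have h1 := Nat.find_spec hex
    rw [h, derivedSeries_zero] at h1
    exact top_ne_bot h1
  obtain ⟨k, hk⟩ := Nat.exists_eq_succ_of_ne_zero h0
  have h1 := Nat.find_spec hex
  rw [hk, Nat.succ_eq_add_one, derivedSeries_succ] at h1
  refine ⟨derivedSeries G k, inferInstance, ?_, ?_⟩
  · intro a ha b hb
    have h2 : ⁅a, b⁆ ∈ ⁅derivedSeries G k, derivedSeries G k⁆ := commutator_mem_commutator ha hb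
    rw [h1, mem_bot, commutatorElement_eq_one_iff_mul_comm] at h2
    exact h2
  · exact Nat.find_min hex (by omega)

theorem exists_cfg [Finite G] (hTI : IsCTI G)
    (h3 : ∀ x : G, x ≠ 1 → ¬ (centralizer ({x} : Set G)).Normal ∧
      normalizer ((centralizer ({x} : Set G) : Subgroup G) : Set G) ≠ centralizer ({x} : Set G))
    (hnt : Nontrivial G) :
    ∃ t : G, Cfg (centralizer ({t} : Set G))
      (normalizer ((centralizer ({t} : Set G) : Subgroup G) : Set G)) t := by
  have hCN := hTI.isCN
  have hnoAb := noAb_of_case3 hTI (fun x hx => (h3 x hx).1)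
  have heven : 2 ∣ Nat.card G := by
    by_contra hodd
    have hodd' : Odd (Nat.card G) := by
      rw [← Nat.not_even_iff_odd, even_iff_two_dvd]; exact hodd
    have hs := Cfsg.Agent.S0183.result hodd' hCN
    obtain ⟨A, hA, hab, hne⟩ := exists_abelian_normal_of_solvable hs
    exact hne (hnoAb A hA hab)
  have : Fact (Nat.Prime 2) := ⟨Nat.prime_two⟩
  obtain ⟨S⟩ : Nonempty (Sylow 2 G) := inferInstance
  have hS1 : (S : Subgroup G) ≠ ⊥ := S.ne_bot_of_dvd_card heven
  have hSnt : Nontrivial (S : Subgroup G) := (Subgroup.nontrivial_iff_ne_bot _).mpr hS1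
  have hcn := S.2.center_nontrivial
  have hcp : IsPGroup 2 (center (S : Subgroup G)) := S.2.to_subgroup _
  have h2c : 2 ∣ Nat.card (center (S : Subgroup G)) := by
    obtain ⟨k, hk⟩ := (IsPGroup.iff_card).mp hcp
    have hk0 : k ≠ 0 := by
      rintro rfl
      rw [pow_zero] at hk
      have := Finite.one_lt_card (α := center (S : Subgroup G))
      omega
    rw [hk]
    exact dvd_pow_self 2 hk0
  obtain ⟨z, hz⟩ := exists_prime_orderOf_dvd_card' 2 h2c
  set t : G := ((z : (S : Subgroup G)) : G) with ht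
  have hto : orderOf t = 2 := by
    rw [ht, Subgroup.orderOf_coe, Subgroup.orderOf_coe, hz]
  have ht1 : t ≠ 1 := by
    intro h
    rw [h, orderOf_one] at hto
    omega
  have hSle : (S : Subgroup G) ≤ centralizer ({t} : Set G) := by
    intro y hy
    rw [mem_centralizer_singleton_iff]
    exact congrArg Subtype.val (mem_center_iff.mp z.2 ⟨y, hy⟩)
  have hoddI : Odd (centralizer ({t} : Set G)).index := by
    rw [← Nat.not_even_iff_odd, even_iff_two_dvd]
    intro h
    exact S.not_dvd_index (h.trans (index_dvd_of_le hSle))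
  refine ⟨t, ⟨hto, rfl, rfl, ?_, ?_, (h3 t ht1).2.symm, ?_, hoddI, hnoAb⟩⟩
  · -- centralizers
    intro h hh hh1 c hc
    set H := centralizer ({t} : Set G) with hH
    set M := normalizer (H : Set G) with hM
    have hle : H ≤ M := le_normalizer
    have hnorm : (H.subgroupOf M).Normal := by
      rw [hM]; exact Subgroup.normal_in_normalizer
    have hoddr : Odd (H.relIndex M) := Odd.of_dvd_nat hoddI (relIndex_dvd_index_of_le hle)
    have hcM : centralizer ({h} : Set G) ≤ M := hTI.cen_le_normalizer hh hh1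
    obtain ⟨a, ha, b, hb, hab, ⟨k, hk⟩, hbq⟩ :=
      Cfsg.Agent.Lib.Helper31.exists_prime_decomp 2 c (isOfFinOrder_of_finite c)
    have hz : zpowers c ≤ centralizer ({h} : Set G) := by
      rw [zpowers_le]; exact hc
    have hbH : b ∈ H := by
      rw [hH, mem_centralizer_singleton_iff]
      apply Cfsg.Agent.Lib.Helper31.commute_of_mem_nilpotent _ (hCN h hh1) (hz hb)
        (mem_cen_comm hh)
      rw [hto]; exact hbq
    have haH : a ∈ H := by
      have haM : a ∈ M := hcM (hz ha)
      have h1 := Subgroup.pow_index_mem (H.subgroupOf M) (⟨a, haM⟩ : M)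
      rw [mem_subgroupOf] at h1
      have h1' : a ^ H.relIndex M ∈ H := h1
      have hcop : (orderOf a).Coprime (H.relIndex M) := by
        rw [hk]
        apply Nat.Coprime.pow_left
        exact (Nat.coprime_two_left).mpr hoddr
      obtain ⟨m, hm⟩ := exists_pow_eq_self_of_coprime hcop.symm
      rw [← hm]
      exact H.pow_mem h1' m
    rw [hab]
    exact H.mul_mem haH hbH
  · intro g hg h hh hgh
    exact hTI t g hg h hh hgh
  · intro h
    rw [normalizer_eq_top_iff] at h
    exact (h3 t ht1).1 h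

end Cfsg.Agent.Lib.Helper80.CTI
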