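import Cfsg.Agent.Lib.Helper80.CTISetup

/-!
# `H` is transitive on the cosets of `M` other than `M`
-/

set_option autoImplicit false

namespace Cfsg.Agent.Lib.Helper80.CTI

open Subgroup

variable {G : Type*} [Group G] [Finite G] {H M : Subgroup G} {t : G}

theorem inv_eq_of_orderOf_two {u : G} (hu : orderOf u = 2) : u⁻¹ = u := by
  have h : u ^ 2 = 1 := by rw [← hu]; exact pow_orderOf_eq_one u
  rw [inv_eq_iff_mul_eq_one, ← sq]; exact h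

/-- no non-identity element of a two point stabilizer is inverted inside `M` -/
theorem factB (c : Cfg H M t)
    (hB : ∀ u : G, orderOf u = 2 → u ∉ M → ∀ d ∈ M, u * d * u⁻¹ ∈ M → u * d * u⁻¹ = d⁻¹)
    (hC : ∀ u : G, orderOf u = 2 → u ∉ M → ∀ m ∈ M, ∃ h ∈ H, ∃ d ∈ M,
      u * d * u⁻¹ ∈ M ∧ m = h * d)
    {u d m : G} (hu : orderOf u = 2) (huM : u ∉ M) (hd : d ∈ M) (hud : u * d * u⁻¹ ∈ M)
    (hm : m ∈ M) (hmd : m * d * m⁻¹ = d⁻¹) : d = 1 := by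
  obtain ⟨h, hh, d₁, hd₁, hud₁, rfl⟩ := hC u hu huM m hm
  have e1 := hB u hu huM d hd hud
  have e2 := hB u hu huM d₁ hd₁ hud₁
  have e0 : u * (d₁ * d) * u⁻¹ = (u * d₁ * u⁻¹) * (u * d * u⁻¹) := by group
  have e3 : u * (d₁ * d) * u⁻¹ = (d₁ * d)⁻¹ := hB u hu huM (d₁ * d) (M.mul_mem hd₁ hd) (by
    rw [e0]; exact M.mul_mem hud₁ hud)
  have hcomm : d₁ * d = d * d₁ := by
    rw [e0, e1, e2, mul_inv_rev] at e3
    have e4 := congrArg (·⁻¹) e3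
    simp only [mul_inv_rev, inv_inv] at e4
    exact e4.symm
  have h1 : h * d * h⁻¹ = d⁻¹ := by
    have e5 : h * d₁ * d * (h * d₁)⁻¹ = h * (d₁ * d * d₁⁻¹) * h⁻¹ := by group
    rw [e5, hcomm, mul_inv_cancel_right] at hmd
    exact hmd
  have h2 : d⁻¹ * d⁻¹ ∈ H := by
    have e6 : h * (d * h⁻¹ * d⁻¹) = d⁻¹ * d⁻¹ := by
      calc h * (d * h⁻¹ * d⁻¹) = (h * d * h⁻¹) * d⁻¹ := by group
        _ = d⁻¹ * d⁻¹ := by rw [h1]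
    rw [← e6]
    exact H.mul_mem hh (c.conj_mem hd (H.inv_mem hh))
  have h3 : d⁻¹ * d⁻¹ = 1 := c.inter huM h2 (by
    have e7 : u * (d⁻¹ * d⁻¹) * u⁻¹ = (u * d * u⁻¹)⁻¹ * (u * d * u⁻¹)⁻¹ := by group
    rw [e7]; exact M.mul_mem (M.inv_mem hud) (M.inv_mem hud))
  by_contra hd1
  have h4 : orderOf d = 2 := by
    apply orderOf_eq_prime _ hd1
    have e8 := congrArg (·⁻¹) h3
    simp only [mul_inv_rev, inv_inv, inv_one] at e8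
    rw [sq]; exact e8
  exact hd1 (c.inter huM (c.invol_mem hd h4) hud)

/-- two involutions outside `M` inverting the same non-identity element of `M` lie in the same
coset of `M` -/
theorem uniq (c : Cfg H M t)
    (hA : ∀ g : G, g ∉ M → ∃ u : G, orderOf u = 2 ∧ u⁻¹ * g ∈ M)
    (hB : ∀ u : G, orderOf u = 2 → u ∉ M → ∀ d ∈ M, u * d * u⁻¹ ∈ M → u * d * u⁻¹ = d⁻¹)
    (hC : ∀ u : G, orderOf u = 2 → u ∉ M → ∀ m ∈ M, ∃ h ∈ H, ∃ d ∈ M,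
      u * d * u⁻¹ ∈ M ∧ m = h * d)
    {u v d : G} (hu : orderOf u = 2) (huM : u ∉ M) (hd : d ∈ M)
    (hd1 : d ≠ 1) (hud : u * d * u⁻¹ = d⁻¹) (hvd : v * d * v⁻¹ = d⁻¹) : u⁻¹ * v ∈ M := by
  by_contra hw
  obtain ⟨v₃, hv₃, hm⟩ := hA _ hw
  have hwd : (u⁻¹ * v) * d * (u⁻¹ * v)⁻¹ = d := by
    have e1 : (u⁻¹ * v) * d * (u⁻¹ * v)⁻¹ = u⁻¹ * (v * d * v⁻¹) * u := by group
    rw [e1, hvd, ← hud]; group
  have hv₃M : v₃ ∉ M := by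
    intro h
    apply hw
    have := M.mul_mem h hm
    rwa [mul_inv_cancel_left] at this
  have hmd : (v₃⁻¹ * (u⁻¹ * v)) * d * (v₃⁻¹ * (u⁻¹ * v))⁻¹ = v₃ * d * v₃⁻¹ := by
    have e1 : (v₃⁻¹ * (u⁻¹ * v)) * d * (v₃⁻¹ * (u⁻¹ * v))⁻¹
        = v₃⁻¹ * ((u⁻¹ * v) * d * (u⁻¹ * v)⁻¹) * v₃ := by group
    rw [e1, hwd, inv_eq_of_orderOf_two hv₃]
  have hmem : v₃ * d * v₃⁻¹ ∈ M := by
    rw [← hmd]
    exact M.mul_mem (M.mul_mem hm hd) (M.inv_mem hm)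
  have hinv := hB v₃ hv₃ hv₃M d hd hmem
  apply hd1
  exact factB c hB hC hu huM hd (by rw [hud]; exact M.inv_mem hd) hm (hmd.trans hinv)

theorem trans (c : Cfg H M t)
    (hA : ∀ g : G, g ∉ M → ∃ u : G, orderOf u = 2 ∧ u⁻¹ * g ∈ M)
    (hB : ∀ u : G, orderOf u = 2 → u ∉ M → ∀ d ∈ M, u * d * u⁻¹ ∈ M → u * d * u⁻¹ = d⁻¹)
    (hC : ∀ u : G, orderOf u = 2 → u ∉ M → ∀ m ∈ M, ∃ h ∈ H, ∃ d ∈ M,
      u * d * u⁻¹ ∈ M ∧ m = h * d) :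
    ∀ g₁ g₂ : G, g₁ ∉ M → g₂ ∉ M → ∃ h ∈ H, g₂⁻¹ * (h * g₁) ∈ M := by
  intro g₁ g₂ hg₁ hg₂
  obtain ⟨u₁, hu₁, hm₁⟩ := hA g₁ hg₁
  obtain ⟨u₂, hu₂, hm₂⟩ := hA g₂ hg₂
  have hu₁M : u₁ ∉ M := by
    intro h
    apply hg₁
    have := M.mul_mem h hm₁
    rwa [mul_inv_cancel_left] at this
  have hu₂M : u₂ ∉ M := by
    intro h
    apply hg₂
    have := M.mul_mem h hm₂
    rwa [mul_inv_cancel_left] at this
  obtain ⟨m, hmM, hmH⟩ : ∃ m ∈ M, m ∉ H := by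
    by_contra hcon
    push Not at hcon
    exact c.neH (le_antisymm c.le hcon)
  obtain ⟨h', hh', d, hd, hud, rfl⟩ := hC u₂ hu₂ hu₂M m hmM
  have hd1 : d ≠ 1 := by
    rintro rfl
    exact hmH (by simpa using hh')
  obtain ⟨h₀, hh₀, d', hd', hud', hdd⟩ := hC u₁ hu₁ hu₁M d hd
  have hinj : Function.Injective (fun h : H => (⟨(h : G)⁻¹ * (d * h * d⁻¹),
      H.mul_mem (H.inv_mem h.2) (c.conj_mem hd h.2)⟩ : H)) := by
    intro a b hab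
    have hab' : (a : G)⁻¹ * (d * a * d⁻¹) = (b : G)⁻¹ * (d * b * d⁻¹) := congrArg Subtype.val hab
    have hk : d * ((b : G) * (a : G)⁻¹) * d⁻¹ = (b : G) * (a : G)⁻¹ := by
      have e1 : d * ((b : G) * (a : G)⁻¹) * d⁻¹ = (d * b * d⁻¹) * (d * a * d⁻¹)⁻¹ := by group
      have hX : d * a * d⁻¹ = (a : G) * ((b : G)⁻¹ * (d * b * d⁻¹)) := by
        rw [← hab', mul_inv_cancel_left]
      rw [e1, hX]; group
    by_contra hne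
    have hk1 : (b : G) * (a : G)⁻¹ ≠ 1 := by
      intro h
      exact hne (Subtype.ext (mul_inv_eq_one.mp h).symm)
    have hdH : d ∈ H := by
      apply c.cen _ (H.mul_mem b.2 (H.inv_mem a.2)) hk1
      rw [mem_centralizer_singleton_iff]
      exact (mul_inv_eq_iff_eq_mul.mp hk)
    exact hd1 (c.inter hu₂M hdH hud)
  have hsurj := Finite.surjective_of_injective hinj
  obtain ⟨h, hh⟩ := hsurj ⟨h₀⁻¹, H.inv_mem hh₀⟩
  have hh2 : (h : G)⁻¹ * (d * h * d⁻¹) = h₀⁻¹ := congrArg Subtype.val hh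
  have hconj : (h : G)⁻¹ * d * h = d' := by
    have e1 : (h : G)⁻¹ * d * h = ((h : G)⁻¹ * (d * h * d⁻¹)) * d := by group
    rw [e1, hh2, hdd, inv_mul_cancel_left]
  have hdeq : d = (h : G) * d' * (h : G)⁻¹ := by
    rw [← hconj]; group
  have hvd : ((h : G) * u₁ * (h : G)⁻¹) * d * ((h : G) * u₁ * (h : G)⁻¹)⁻¹ = d⁻¹ := by
    have e1 : ((h : G) * u₁ * (h : G)⁻¹) * d * ((h : G) * u₁ * (h : G)⁻¹)⁻¹
        = (h : G) * (u₁ * ((h : G)⁻¹ * d * h) * u₁⁻¹) * (h : G)⁻¹ := by group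
    rw [e1, hconj, hB u₁ hu₁ hu₁M d' hd' hud', hdeq]; group
  have hfin := uniq c hA hB hC hu₂ hu₂M hd hd1 (hB u₂ hu₂ hu₂M d hd hud) hvd
  refine ⟨h, h.2, ?_⟩
  have e1 : g₂⁻¹ * ((h : G) * g₁)
      = (u₂⁻¹ * g₂)⁻¹ * (u₂⁻¹ * ((h : G) * u₁ * (h : G)⁻¹)) * (h : G) * (u₁⁻¹ * g₁) := by group
  rw [e1]
  exact M.mul_mem (M.mul_mem (M.mul_mem (M.inv_mem hm₂) hfin) (c.le h.2)) hm₁

end Cfsg.Agent.Lib.Helper80.CTI
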