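import Mathlib
import Cfsg.Prelude.Def_LocalStructure
import Cfsg.Agent.Lib.Helper12.L2Main

/-!
# `PSL(2, p)` has non-normal Sylow `p`-subgroups
-/

set_option autoImplicit false

namespace Cfsg.Agent.Lib.Helper80.NPC

theorem ex_psl (p : ℕ) [Fact p.Prime] (hp : 3 < p) :
    ∃ (H : Type) (_ : Group H) (_ : Finite H),
      Nat.card H = p * (p ^ 2 - 1) / 2 ∧ ¬ Cfsg.IsPClosed p H := by
  have hpp : p.Prime := Fact.out
  obtain ⟨m, hm⟩ : ∃ m, p = 2 * m + 1 := by
    rcases hpp.eq_two_or_odd' with h | h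
    · omega
    · exact h
  have hcard := Cfsg.Agent.Lib.Helper12.L2.card_psl hm
  have hs : IsSimpleGroup (Matrix.ProjectiveSpecialLinearGroup (Fin 2) (ZMod p)) :=
    Matrix.ProjectiveSpecialLinearGroup.rank_two_simple (by
      rw [Nat.card_eq_fintype_card, ZMod.card]; exact hp)
  refine ⟨Matrix.ProjectiveSpecialLinearGroup (Fin 2) (ZMod p), inferInstance, inferInstance,
    ?_, ?_⟩
  · rw [hcard]
    have h1 : p ^ 2 - 1 = 2 * ((p + 1) * m) := by
      apply Nat.sub_eq_of_eq_add
      rw [hm]; ring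
    rw [h1]
    have h2 : p * (2 * ((p + 1) * m)) = 2 * ((p + 1) * (p * m)) := by ring
    rw [h2, Nat.mul_div_cancel_left _ (by norm_num)]
  · intro hc
    obtain ⟨P⟩ : Nonempty (Sylow p (Matrix.ProjectiveSpecialLinearGroup (Fin 2) (ZMod p))) :=
      inferInstance
    have hPc := P.card_eq_multiplicity
    have hm0 : 0 < m := by omega
    have hne : Nat.card (Matrix.ProjectiveSpecialLinearGroup (Fin 2) (ZMod p)) ≠ 0 :=
      Nat.card_pos.ne'
    rcases hs.eq_bot_or_eq_top_of_normal _ (hc P) with h | h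
    · rw [h, Subgroup.card_bot] at hPc
      have hd : p ∣ Nat.card (Matrix.ProjectiveSpecialLinearGroup (Fin 2) (ZMod p)) := by
        rw [hcard]; exact Dvd.intro_left _ (by ring : (p + 1) * m * p = (p + 1) * (p * m))
      have h1 := hpp.factorization_pos_of_dvd hne hd
      have h2 := Nat.one_lt_pow h1.ne' hpp.one_lt
      omega
    · rw [h, Subgroup.card_top] at hPc
      have hd : (p + 1) ∣ p ^ (Nat.card
          (Matrix.ProjectiveSpecialLinearGroup (Fin 2) (ZMod p))).factorization p := by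
        rw [← hPc, hcard]; exact Dvd.intro _ rfl
      obtain ⟨i, -, hi⟩ := (Nat.dvd_prime_pow hpp).mp hd
      rcases Nat.eq_zero_or_pos i with rfl | hi0
      · simp at hi; omega
      · have : p ∣ p + 1 := hi ▸ dvd_pow_self p hi0.ne'
        have h1 : p ∣ 1 := (Nat.dvd_add_right (dvd_refl p)).mp this
        exact hpp.one_lt.ne' (Nat.dvd_one.mp h1)

end Cfsg.Agent.Lib.Helper80.NPC
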