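import Mathlib
import Cfsg.Prelude.Def_LocalStructure

/-!
# Least order of a group with non-normal Sylow `p`-subgroups: the induction

`lower`: given the two terminal cases (order `p * q ^ k`, and simple groups) every finite group whose
Sylow `p`-subgroups are not normal has order at least `min (p * m) (p * (p ^ 2 - 1) / 2)`.
-/

set_option autoImplicit false

namespace Cfsg.Agent.Lib.Helper80.NPC

theorem isPClosed_of_normal {p : ℕ} [Fact p.Prime] {H : Type*} [Group H] [Finite H]
    (P : Sylow p H) (h : (P : Subgroup H).Normal) : Cfsg.IsPClosed p H := by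
  intro Q
  have hu := Sylow.unique_of_normal P h
  have : Q = P := Subsingleton.elim _ _
  rw [this]; exact h

theorem card_sylow_ne_one {p : ℕ} [Fact p.Prime] {H : Type*} [Group H] [Finite H]
    (hnc : ¬ Cfsg.IsPClosed p H) : Nat.card (Sylow p H) ≠ 1 := by
  intro h1
  apply hnc
  intro P
  have : Subsingleton (Sylow p H) := (Nat.card_eq_one_iff_unique.mp h1).1
  exact Sylow.normal_of_subsingleton P

theorem card_sylow_mul {p : ℕ} [Fact p.Prime] {H : Type*} [Group H] [Finite H] (P : Sylow p H) :
    Nat.card (Sylow p H) * Nat.card (Subgroup.normalizer ((P : Subgroup H) : Set H))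
      = Nat.card H := by
  rw [P.card_eq_index_normalizer]; exact Subgroup.index_mul_card _

theorem card_lt_of_ne_top {H : Type*} [Group H] [Finite H] (K : Subgroup H) (hK : K ≠ ⊤) :
    Nat.card K < Nat.card H := by
  by_contra hge
  exact hK (Subgroup.eq_top_of_le_card K (not_lt.mp hge))

theorem card_quot_lt {H : Type*} [Group H] [Finite H] (N : Subgroup H) (hN : N ≠ ⊥) :
    Nat.card (H ⧸ N) < Nat.card H := by
  have h1 := Subgroup.card_eq_card_quotient_mul_card_subgroup N
  have h2 : 1 < Nat.card N := (Subgroup.one_lt_card_iff_ne_bot N).mpr hN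
  have h3 : 0 < Nat.card (H ⧸ N) := Nat.card_pos
  nlinarith

theorem lower (p : ℕ) [Fact p.Prime] (m : ℕ)
    (hpq : ∀ (L : Type) [Group L] [Finite L] (q k : ℕ), q.Prime → Nat.card L = p * q ^ k →
      ¬ Cfsg.IsPClosed p L → p * m ≤ Nat.card L)
    (hsimple : ∀ (H : Type) [Group H] [Finite H] [IsSimpleGroup H], ¬ Cfsg.IsPClosed p H →
      p * (p ^ 2 - 1) / 2 ≤ Nat.card H) :
    ∀ (n : ℕ) (H : Type) [Group H] [Finite H], Nat.card H = n → ¬ Cfsg.IsPClosed p H →
      min (p * m) (p * (p ^ 2 - 1) / 2) ≤ n := by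
  have hpp : p.Prime := Fact.out
  intro n
  induction n using Nat.strong_induction_on with
  | _ n ih =>
  intro H _ _ hn hnc
  by_contra hlt
  rw [not_le, lt_min_iff] at hlt
  obtain ⟨hlt1, hlt2⟩ := hlt
  have hsub : ∀ K : Subgroup H, K ≠ ⊤ → Cfsg.IsPClosed p K := by
    intro K hK
    by_contra hKn
    have hcard : Nat.card K < n := hn ▸ card_lt_of_ne_top K hK
    have h1 := ih _ hcard K rfl hKn
    rcases min_le_iff.mp h1 with h | h <;> omega
  have hquo : ∀ (N : Subgroup H) [N.Normal], N ≠ ⊥ → Cfsg.IsPClosed p (H ⧸ N) := by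
    intro N hN hN0
    by_contra hKn
    have hcard : Nat.card (H ⧸ N) < n := hn ▸ card_quot_lt N hN0
    have h1 := ih _ hcard (H ⧸ N) rfl hKn
    rcases min_le_iff.mp h1 with h | h <;> omega
  have hP : ∀ P : Sylow p H, ¬ (P : Subgroup H).Normal := fun P h =>
    hnc (isPClosed_of_normal P h)
  have hnp1 := card_sylow_ne_one hnc
  have hnpmod : Nat.card (Sylow p H) ≡ 1 [MOD p] := card_sylow_modEq_one p H
  have hnppos : 0 < Nat.card (Sylow p H) := Nat.card_pos
  have hnpge : p + 1 ≤ Nat.card (Sylow p H) := by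
    have h1 : p ∣ Nat.card (Sylow p H) - 1 := (Nat.modEq_iff_dvd' hnppos).mp hnpmod.symm
    have h2 : 0 < Nat.card (Sylow p H) - 1 := by omega
    have := Nat.le_of_dvd h2 h1
    omega
  have hcardP : ∀ P : Sylow p H, Nat.card P = p := by
    intro P
    obtain ⟨k, hk⟩ := IsPGroup.iff_card.mp P.2
    have h1 := card_sylow_mul P
    have h2 : Nat.card P ≤ Nat.card (Subgroup.normalizer ((P : Subgroup H) : Set H)) :=
      Nat.le_of_dvd Nat.card_pos (Subgroup.card_dvd_of_le Subgroup.le_normalizer)
    rcases Nat.lt_or_ge k 2 with hk2 | hk2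
    · interval_cases k
      · exfalso
        apply hP P
        have : (P : Subgroup H) = ⊥ := Subgroup.eq_bot_of_card_eq _ (by simpa using hk)
        rw [this]; infer_instance
      · simpa using hk
    · exfalso
      have h3 : p ^ 2 ≤ Nat.card P := hk ▸ Nat.pow_le_pow_right hpp.pos hk2
      have h4 : (p + 1) * p ^ 2 ≤ Nat.card H := by
        rw [← h1]; exact Nat.mul_le_mul hnpge (h3.trans h2)
      have h5 : p * (p ^ 2 - 1) / 2 ≤ p * (p ^ 2 - 1) := Nat.div_le_self _ _
      have h6 : p * (p ^ 2 - 1) ≤ p * p ^ 2 := Nat.mul_le_mul_left _ (Nat.sub_le _ _)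
      nlinarith
  have key : ∀ N : Subgroup H, N.Normal → N ≠ ⊥ → N ≠ ⊤ → N.index = p := by
    intro N hN hN0 hN1
    obtain ⟨P⟩ : Nonempty (Sylow p H) := inferInstance
    have hq := hquo N hN0
    have hsurj : Function.Surjective (QuotientGroup.mk' N) := QuotientGroup.mk'_surjective N
    have h1 : ((P : Subgroup H).map (QuotientGroup.mk' N)).Normal := hq (P.mapSurjective hsurj)
    have h2 : ((P : Subgroup H) ⊔ N).Normal := by
      have := h1.comap (QuotientGroup.mk' N)
      rwa [Subgroup.comap_map_eq, QuotientGroup.ker_mk'] at this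
    have h3 : (P : Subgroup H) ⊔ N = ⊤ := by
      by_contra hne
      have hc := hsub _ hne
      have hle : (P : Subgroup H) ≤ (P : Subgroup H) ⊔ N := le_sup_left
      have h4 := hc (P.subtype hle)
      have h5 := Sylow.characteristic_of_normal (P.subtype hle) h4
      have h6 : ((P.subtype hle).toSubgroup.map
          ((P : Subgroup H) ⊔ N).subtype).Normal := ConjAct.normal_of_characteristic_of_normal
      apply hP P
      rwa [Sylow.coe_subtype, Subgroup.subgroupOf_map_subtype, inf_of_le_left hle] at h6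
    have h7 : (P : Subgroup H) ⊓ N = ⊥ := by
      have hd : Nat.card ((P : Subgroup H) ⊓ N : Subgroup H) ∣ p :=
        (Subgroup.card_dvd_of_le inf_le_left).trans (hcardP P).dvd
      rcases (Nat.dvd_prime hpp).mp hd with h | h
      · exact Subgroup.eq_bot_of_card_eq _ h
      · exfalso
        have h8 : (P : Subgroup H) ⊓ N = P :=
          Subgroup.eq_of_le_of_card_ge inf_le_left (by rw [h, hcardP P])
        have h9 : (P : Subgroup H) ≤ N := inf_eq_left.mp h8
        rw [sup_eq_right.mpr h9] at h3
        exact hN1 h3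
    calc N.index = N.relIndex ⊤ := (Subgroup.relIndex_top_right N).symm
      _ = N.relIndex ((P : Subgroup H) ⊔ N) := by rw [h3]
      _ = N.relIndex (P : Subgroup H) := Subgroup.relIndex_sup_right _ _
      _ = (N ⊓ (P : Subgroup H)).relIndex (P : Subgroup H) :=
          (Subgroup.inf_relIndex_right _ _).symm
      _ = Nat.card P := by rw [inf_comm, h7, Subgroup.relIndex_bot_left]
      _ = p := hcardP P
  have hns : ¬ IsSimpleGroup H := fun hs => by
    have := hsimple H hnc
    omega
  have hnt : Nontrivial H := by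
    by_contra h
    rw [not_nontrivial_iff_subsingleton] at h
    apply hnc
    intro P
    have : (P : Subgroup H) = ⊥ := Subsingleton.elim _ _
    rw [this]; infer_instance
  obtain ⟨N, hN, hN0, hN1⟩ : ∃ N : Subgroup H, N.Normal ∧ N ≠ ⊥ ∧ N ≠ ⊤ := by
    by_contra hcon
    push Not at hcon
    exact hns { toNontrivial := hnt
                eq_bot_or_eq_top_of_normal := fun N hN => by
                  by_cases h : N = ⊥
                  · exact Or.inl h
                  · exact Or.inr (hcon N hN h) }
  have hidx := key N hN hN0 hN1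
  have hcardH : Nat.card H = p * Nat.card N := by rw [← hidx, Subgroup.index_mul_card N]
  obtain ⟨q, hq, hqd⟩ := Nat.exists_prime_and_dvd hnp1
  have : Fact q.Prime := ⟨hq⟩
  have hqp : q ≠ p := by
    rintro rfl
    have h1 : Nat.card (Sylow q H) % q = 0 := Nat.mod_eq_zero_of_dvd hqd
    have h2 : Nat.card (Sylow q H) % q = 1 % q := hnpmod
    rw [Nat.mod_eq_of_lt hq.one_lt] at h2
    omega
  have hcop : Nat.Coprime q p := (Nat.coprime_primes hq hpp).mpr hqp
  obtain ⟨P⟩ : Nonempty (Sylow p H) := inferInstance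
  have hqN : q ∣ Nat.card N := by
    have h1 : q ∣ Nat.card H := hqd.trans (Dvd.intro _ (card_sylow_mul P))
    rw [hcardH] at h1
    exact hcop.dvd_of_dvd_mul_left h1
  obtain ⟨Q⟩ : Nonempty (Sylow q N) := inferInstance
  have hfr : Subgroup.normalizer (((Q : Subgroup N).map N.subtype : Subgroup H) : Set H) ⊔ N = ⊤ :=
    Sylow.normalizer_sup_eq_top Q
  have hQcard : Nat.card ((Q : Subgroup N).map N.subtype : Subgroup H)
      = q ^ (Nat.card N).factorization q := by
    rw [Subgroup.card_map_of_injective N.subtype_injective, Sylow.card_eq_multiplicity]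
  generalize hQ' : ((Q : Subgroup N).map N.subtype : Subgroup H) = Q' at hfr hQcard
  have hQle : Q' ≤ N := hQ' ▸ Subgroup.map_subtype_le _
  have hNpos : Nat.card N ≠ 0 := Nat.card_pos.ne'
  by_cases hM : Subgroup.normalizer (Q' : Set H) = ⊤
  · have hQn : Q'.Normal := Subgroup.normalizer_eq_top_iff.mp hM
    have hQ0 : Q' ≠ ⊥ := by
      intro h
      rw [h, Subgroup.card_bot] at hQcard
      have h1 : 0 < (Nat.card N).factorization q := hq.factorization_pos_of_dvd hNpos hqN
      have h2 : 1 < q ^ (Nat.card N).factorization q := Nat.one_lt_pow h1.ne' hq.one_lt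
      omega
    have hQ1 : Q' ≠ ⊤ := by
      intro h
      rw [h] at hQle
      exact hN1 (top_le_iff.mp hQle)
    have h1 := key Q' hQn hQ0 hQ1
    have hc : Nat.card H = p * q ^ (Nat.card N).factorization q := by
      rw [← h1, ← hQcard, Subgroup.index_mul_card]
    have := hpq H q _ hq hc hnc
    omega
  · have hMc := hsub _ hM
    have h1 : N.relIndex (Subgroup.normalizer (Q' : Set H)) = p := by
      rw [← Subgroup.relIndex_sup_right, hfr, Subgroup.relIndex_top_right, hidx]
    have h2 : p ∣ Nat.card (Subgroup.normalizer (Q' : Set H)) :=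
      h1 ▸ Subgroup.relIndex_dvd_card _ _
    obtain ⟨x, hx⟩ := exists_prime_orderOf_dvd_card' p h2
    have hxc : Nat.card (Subgroup.zpowers (x : H)) = p ^ (Nat.card H).factorization p := by
      rw [Nat.card_zpowers, Subgroup.orderOf_coe, hx, ← P.card_eq_multiplicity, hcardP P]
    have hle : ((Sylow.ofCard _ hxc : Sylow p H) : Subgroup H)
        ≤ Subgroup.normalizer (Q' : Set H) := by
      rw [Sylow.coe_ofCard, Subgroup.zpowers_le]
      exact x.2
    generalize Sylow.ofCard _ hxc = P₁ at hle
    have h3 := hMc (P₁.subtype hle)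
    rw [Sylow.coe_subtype, Subgroup.normal_subgroupOf_iff_le_normalizer hle] at h3
    have h4 : Nat.card Q' ∣ Nat.card (Subgroup.normalizer ((P₁ : Subgroup H) : Set H)) :=
      Subgroup.card_dvd_of_le (Subgroup.le_normalizer.trans h3)
    have h5 := card_sylow_mul P₁
    have h6 : q * q ^ (Nat.card N).factorization q ∣ p * Nat.card N := by
      rw [← hcardH, ← h5, ← hQcard]
      exact Nat.mul_dvd_mul hqd h4
    have h7 : q ^ ((Nat.card N).factorization q + 1) ∣ Nat.card N := by
      rw [pow_succ, mul_comm]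
      refine Nat.Coprime.dvd_of_dvd_mul_left ?_ h6
      rw [mul_comm, ← pow_succ]
      exact Nat.Coprime.pow_left _ hcop
    exact Nat.pow_succ_factorization_not_dvd hNpos hq h7

end Cfsg.Agent.Lib.Helper80.NPC
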