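import Mathlib
import Cfsg.Prelude.Def_Local
import Cfsg.Agent.Lib.Helper80.PSolv

set_option autoImplicit false

namespace Cfsg.Agent.Lib.Helper80

open Subgroup
open scoped Pointwise

universe u

variable {G : Type*} [Group G]

/-- Elements of `q`-power order lift along surjections of finite groups. -/
theorem exists_prime_pow_order_lift [Finite G] {G' : Type*} [Group G'] (f : G →* G')
    (hf : Function.Surjective f) (q : ℕ) [Fact q.Prime] (y' : G')
    (hy' : ∃ k : ℕ, orderOf y' = q ^ k) :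
    ∃ y : G, f y = y' ∧ ∃ k : ℕ, orderOf y = q ^ k := by
  have hq : q.Prime := Fact.out
  obtain ⟨k, hk⟩ := hy'
  rcases Nat.eq_zero_or_pos k with rfl | hkpos
  · rw [pow_zero, orderOf_eq_one_iff] at hk
    exact ⟨1, by rw [map_one, hk], 0, by simp⟩
  obtain ⟨y₀, hy₀⟩ := hf y'
  have ho : orderOf y₀ ≠ 0 := (orderOf_pos y₀).ne'
  obtain ⟨a, m, hm, hom⟩ := Nat.exists_eq_pow_mul_and_not_dvd ho q hq.ne_one
  have hcop : Nat.Coprime m (q ^ k) :=
    Nat.Coprime.pow_right k ((Nat.Prime.coprime_iff_not_dvd hq).2 hm).symm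
  obtain ⟨t, _, ht⟩ := Nat.exists_mul_mod_eq_one_of_coprime hcop (Nat.one_lt_pow hkpos.ne' hq.one_lt)
  refine ⟨y₀ ^ (m * t), ?_, ?_⟩
  · rw [map_pow, hy₀, ← pow_mod_orderOf, hk, ht, pow_one]
  · have h1 : (y₀ ^ (m * t)) ^ (q ^ a) = 1 := by
      rw [← pow_mul]
      have : m * t * q ^ a = orderOf y₀ * t := by rw [hom]; ring
      rw [this, pow_mul, pow_orderOf_eq_one, one_pow]
    obtain ⟨j, _, hj⟩ := (Nat.dvd_prime_pow hq).1 (orderOf_dvd_of_pow_eq_one h1)
    exact ⟨j, hj⟩

theorem index_centralizer_map_dvd {G' : Type*} [Group G'] (f : G →* G')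
    (hf : Function.Surjective f) (y : G) :
    (centralizer ({f y} : Set G')).index ∣ (centralizer ({y} : Set G)).index := by
  have h1 : (centralizer ({y} : Set G)).map f ≤ centralizer ({f y} : Set G') := by
    rintro _ ⟨c, hc, rfl⟩
    have hc' : c ∈ centralizer ({y} : Set G) := hc
    rw [Subgroup.mem_centralizer_singleton_iff] at hc' ⊢
    rw [← map_mul, ← map_mul, hc']
  exact (index_dvd_of_le h1).trans (index_map_dvd _ hf)

/-- The class-size hypothesis passes to quotients. -/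
theorem class_size_hyp_of_surjective [Finite G] {G' : Type*} [Group G'] (f : G →* G')
    (hf : Function.Surjective f) (p q : ℕ) [Fact q.Prime]
    (h : ∀ y : G, (∃ k : ℕ, orderOf y = q ^ k) → ¬ p ∣ (centralizer ({y} : Set G)).index) :
    ∀ y : G', (∃ k : ℕ, orderOf y = q ^ k) → ¬ p ∣ (centralizer ({y} : Set G')).index := by
  intro y' hy' hd
  obtain ⟨y, rfl, hy⟩ := exists_prime_pow_order_lift f hf q y' hy'
  exact h y hy (hd.trans (index_centralizer_map_dvd f hf y))

/-- A Frattini-type statement: the full preimage of `N(QN/N)` is `N(Q) N`. -/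
theorem comap_normalizer_map_le [Finite G] (q : ℕ) [Fact q.Prime] (N : Subgroup G) [N.Normal]
    (Q : Sylow q G) :
    (normalizer (((Q : Subgroup G).map (QuotientGroup.mk' N) : Subgroup (G ⧸ N)) : Set (G ⧸ N))).comap
      (QuotientGroup.mk' N) ≤ normalizer ((Q : Subgroup G) : Set G) ⊔ N := by
  intro t ht
  rw [Subgroup.mem_comap, Subgroup.mem_normalizer_iff] at ht
  have h1 : (Q : Subgroup G) ≤ N ⊔ Q := le_sup_right
  have h2 : ((t • Q : Sylow q G) : Subgroup G) ≤ N ⊔ Q := by
    intro x hx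
    rw [Sylow.coe_subgroup_smul, mem_conj_smul] at hx
    have h3 := (ht (QuotientGroup.mk' N (t⁻¹ * x * t))).1 ⟨_, hx, rfl⟩
    obtain ⟨x', hx', he⟩ := h3
    have h4 : QuotientGroup.mk' N x' = QuotientGroup.mk' N x := by
      rw [he]; simp [mul_assoc]
    have h5 : x * x'⁻¹ ∈ N := by
      rw [← QuotientGroup.eq_one_iff, QuotientGroup.mk_mul, QuotientGroup.mk_inv]
      have h6 : (x' : G ⧸ N) = (x : G ⧸ N) := h4
      rw [h6]; simp
    have : x = x * x'⁻¹ * x' := by group
    rw [this]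
    exact Subgroup.mul_mem_sup h5 hx'
  obtain ⟨c, hc⟩ := MulAction.exists_smul_eq (N ⊔ Q : Subgroup G) (Q.subtype h1) ((t • Q).subtype h2)
  rw [Sylow.smul_subtype] at hc
  have hc' : (c : G) • Q = t • Q := Sylow.subtype_injective hc
  obtain ⟨n, hn, x, hx, hnx⟩ := Subgroup.mem_sup_of_normal_left.1 c.2
  have hxQ : x • Q = Q := Sylow.smul_eq_iff_mem_normalizer.2 (le_normalizer hx)
  have h3 : n • Q = t • Q := by
    rw [← hc', ← hnx, mul_smul, hxQ]
  have h4 : (n⁻¹ * t) • Q = Q := by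
    rw [mul_smul, ← h3, smul_smul]; simp
  have h5 : n⁻¹ * t ∈ normalizer ((Q : Subgroup G) : Set G) := Sylow.smul_eq_iff_mem_normalizer.1 h4
  have : t = n * (n⁻¹ * t) := by group
  rw [this, sup_comm]
  exact Subgroup.mul_mem_sup hn h5

/-- In a group `X` with normal subgroup `C`: if `y = c z` with `z ∈ C` and the orders of `y`, `c`
are coprime, then `y ∈ C`. -/
theorem mem_of_mul_mem_of_coprime {X : Type*} [Group X] (C : Subgroup X) [C.Normal] (y c z : X)
    (hy : y = c * z) (hz : z ∈ C) (hcop : (orderOf y).Coprime (orderOf c)) : y ∈ C := by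
  have h1 : (QuotientGroup.mk' C y) = QuotientGroup.mk' C c := by
    have hz1 : QuotientGroup.mk' C z = 1 := (QuotientGroup.eq_one_iff z).2 hz
    rw [hy, map_mul, hz1, mul_one]
  have h2 : orderOf (QuotientGroup.mk' C y) ∣ orderOf y := orderOf_map_dvd _ y
  have h3 : orderOf (QuotientGroup.mk' C y) ∣ orderOf c := by rw [h1]; exact orderOf_map_dvd _ c
  have h4 : orderOf (QuotientGroup.mk' C y) = 1 := Nat.eq_one_of_dvd_coprimes hcop h2 h3
  rw [orderOf_eq_one_iff] at h4
  exact (QuotientGroup.eq_one_iff y).1 h4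

end Cfsg.Agent.Lib.Helper80
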